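/-
Bender-Glauberman 15.8, 15.9.
-/
import Cfsg.Agent.H17.B15d

set_option autoImplicit false
set_option linter.unusedSectionVars false

namespace H17
open Cfsg Subgroup H19 H18

universe u
variable {G : Type u} [Group G] [Finite G] {M Mstar U K X E D H V T R L P Q A Z : Subgroup G}
  {p q r : ℕ} {π : Set ℕ} {g x : G}

variable [MinS G] [H18.Gen.{u}] [H18.U79 G] [B10 G] [B11 G] [B12 G] [B13 G] [B14 G]

theorem P1_exists_uniq (P1 : TypeP1 M) (hK : Hall (kap M) K M) (hq : q = #(Kst M K)) :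
    ∃ Q, PG q Q ∧ Uniq Q ∧ (q ∉ betaG G → ¬ Ab Q) ∧
      ∀ A, A ≤ Ms M → PiG {q}ᶜ A → A ≤ C(Kst M K) → A ≤ C(Q) := by
  have hM := P1.1.1
  obtain ⟨sd, hd, pK⟩ := P1_sdprod P1 hK
  by_cases hn : Nil (Ms M)
  · have dp := nil_dprod hn {q}
    have na : ¬ Ab (Oc {q} (Ms M)) := fun h => by
      have := (Ptype_cyclics P1.1 hK).2.2.1
      rw [← hd, ← dp.sup, der_sup_cent (cents_symm dp.cent), comm_iff_der.1 h, bot_sup_eq] at this
      exact ne_bot_of_prime pK ((PiN.of_card (hq ▸ pK) hq.symm).eq_bot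
        ((Oc_pi _ _).of_le (this.trans (der_le _))))
    exact ⟨_, Oc_pi _ _, B12_13.nonabelian_Uniqueness (Oc_pi _ _) na, fun _ => na,
      fun A h1 h2 _ => cents_symm (nil_cents_pi hn (Oc_le _ _) h1 (Oc_pi _ _) h2)⟩
  · have hne : Fcore M ≠ Ms M := fun e => hn ((Fcore_eq_iff hM).1 e)
    obtain ⟨D, hD⟩ := exists_hall {q}ᶜ (mmax_sub_sol hM (Ms_le M))
    obtain ⟨⟨-, ⟨-, -, -, hb⟩, ⟨sQ, -⟩, -⟩, -⟩ := Fcore_structure hM hK hne hq hD
    refine ⟨_, sQ.pi, B10_14.beta_noncyclic_uniq (beta_sub_betaG hb) sQ.pi fun hc => ?_,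
      fun h => absurd (beta_sub_betaG hb) h, fun A h1 h2 h3 =>
        cent_Oc_of_cent_Kst hM hK hne hq h1 h2 h3⟩
    have h1 := cyc_prk hc q
    have h2 := mem_alpha.1 (beta_sub_alpha hb)
    rw [sQ.prk_syl] at h1
    omega

theorem mem_tau2_of_el (hM : IsCoatom M) (hA : El p 2 A M) (hp : p ∉ sigma M) : p ∈ tau2 M := by
  have := hA.le_prk
  rcases B12_1.partition_pi_mmax hM hA.prime hA.dvd with h | h | h | h
  · have := tau1_prk h; omega
  · exact h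
  · have := tau3_prk h; omega
  · exact absurd h hp

/-- 15.8 -/
theorem tau2_P2type_signalizer (hM : TypeP2 M) (h : KappaCompl M U K) (hMs : IsCoatom Mstar)
    (hC : C(K) ≤ Mstar) (hR : Syl r R U) (hH : IsCoatom H) (hN : N(R) ≤ H) (hq : q ∈ tau2 H) :
    q = #K ∧ tau2 H = {q} ∧ tau2 M = ∅ := by
  have mM := hM.1.1
  have pK := ((B14_2.Ptype_structure hM.1 h.hallK).2.2.2.2.2 hM).2.1
  obtain ⟨Mst, PMs, -, u1, ⟨hKs, -⟩, ⟨eK, -⟩, -⟩ := B14_7.Ptype_embedding hM.1 h.hallK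
  obtain rfl := (u1 K le_rfl pK).uniq _ hMs hC
  obtain ⟨FH, hU, eUK, -, hKF, hD⟩ := B14_11.P2type_signalizer hM h hMs hC hR hH hN
  have hKD : K ≤ H ⊓ Mstar := hKF.trans (Fit_le _)
  have key : ∀ q ∈ tau2 H, q = #K ∧ ∃ Q : Subgroup G, PG q Q ∧ ¬ Ab Q := by
    intro q hq
    obtain ⟨A, hA⟩ := B12_1.ex_tau2Elem hH hD hq
    obtain ⟨⟨nA, hA1⟩, -⟩ := B12_5.tau2_compl_context hH hD hq hA
    have cA : A ≤ C(K) := by
      by_cases e : q = #K
      · exact hA.le_cent.trans (cent_mono (hA1 K (e ▸ el1_of_prime hKD pK)))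
      · exact nil_cents_pi (Fit_nil _) (le_Fit nA hA.pg.nil) hKF hA.pg
          ((PiN.of_card pK rfl).sing_ne (Ne.symm e))
    have hAs := hA.mono inf_le_right
    have sq : q ∈ sigma Mstar := by
      by_contra hs
      refine ne_bot_of_prime pK (H19.eq_bot_mono (le_inf ?_ (cents_symm cA))
        (B12_5.tau2_context hMs (mem_tau2_of_el hMs hAs hs) hAs).2.2.2.1)
      exact eK ▸ inf_le_left
    have bq := (B12_1.tau2_not_beta hH hq).1
    have P1 : TypeP1 Mstar := PMs.cases.resolve_right fun h2 =>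
      bq (beta_sub_betaG (((B14_2.Ptype_structure PMs hKs).2.2.2.2.2 h2).1 ▸ sq))
    obtain ⟨Q, pQ, uQ, nQ, cQ⟩ := P1_exists_uniq P1 hKs (congrArg (fun Y : Subgroup G => #Y) eK.symm)
    have e : q = #K := by
      by_contra e
      have := U9.cent_uniq_Uniqueness uQ (cQ A ((B10_2.Msigma_Hall hMs).le_Oc hAs.le (hA.pi sq))
        (hA.pg.sing_ne e) (by rw [eK]; exact cA)) (by rw [hA.rk_eq]; omega)
      exact FH.not_P (eq_of_uniq this hMs hH hAs.le (hA.le.trans inf_le_left) ▸ PMs)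
    exact ⟨e, Q, e ▸ pQ, nQ (e ▸ bq)⟩
  obtain ⟨e, Q, pQ, nQ⟩ := key q hq
  refine ⟨e, Set.eq_singleton_iff_unique_mem.2 ⟨hq, fun q' h' => (key q' h').1.trans e.symm⟩,
    Set.eq_empty_of_forall_notMem fun p hp => ?_⟩
  obtain ⟨A, hA⟩ := B12_1.ex_tau2Elem hH hD hq
  have eK1 : El q 1 K A := by
    have := e ▸ el1_of_prime hKD pK
    exact this.of_le ((B12_5.tau2_compl_context hH hD hq hA).1.2 K this)
  have eX := el1_mk hA.prime inf_le_left (B12_7.nonabelian_tau2 hH hD hq hA pQ nQ).2.1.1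
  obtain ⟨B, hB⟩ := exists_el (n := 2) (H := U) (tau2_prime hp) (by
    rw [h.hallU.prk_eq (fun h => h.elim (tau2_sigma' hp) fun h => kap_tau2' h hp), tau2_prk hp])
  have cB : A ⊓ C(Ms H) ≤ C(B) := inf_le_right.trans (cent_mono (hB.le.trans hU))
  have ne : A ⊓ C(Ms H) ≠ K := fun e => hB.ne_bot (H19.eq_bot_mono
    (le_inf hB.le (cents_symm (e ▸ cB)))
    ((B14_2.kappa_compl_context mM h).2.2.2.1.cent le_rfl (ne_bot_of_prime pK)))
  have hAM : A ≤ M := hA.sup_eq eX eK1 ne ▸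
    sup_le (cB.trans (B12_2.p2Elem_mmax mM (hB.mono h.hallU.le)).1) h.hallK.le
  have h1 := (hA.of_le hAM).le_prk
  rw [kap_prk (eK1.self.mem_pi h.hallK.pi)] at h1
  omega

theorem one_lt_sigMax (hM : IsCoatom M) (hx : x ∈ Ms M) (hx1 : x ≠ 1) (hC : ¬ C[x] ≤ M) :
    1 < (sigMax x).ncard := by
  by_contra h
  exact hC (((B14_4.FT_signalizer_trans (sigMax_ell1 hx1 ⟨hM, hx⟩)).2.2.2.2 M ⟨hM, hx⟩).2.2 h)

theorem sigma_compl_ne_bot (hM : IsCoatom M) (hE : Hall (sigma M)ᶜ E M) : E ≠ ⊥ := fun h => by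
  have := (B12_1.sdprod_sigma hM hE).sup
  rw [h, sup_bot_eq] at this
  exact (der_lt_mmax hM).not_ge (this.ge.trans (B10_2.Msigma_der1 hM))

theorem not_TI_of_cent1 (hx : x ∈ H) (hx1 : x ≠ 1) (hC : ¬ C[x] ≤ M) :
    ∃ g, g ∉ M ∧ H ⊓ cj g H ≠ ⊥ := by
  obtain ⟨g, hg, hgM⟩ := SetLike.not_le_iff_exists.1 hC
  refine ⟨g, hgM, ne_bot_of_mem (mem_inf.2 ⟨hx, mem_cj'.2 ⟨x, hx, ?_⟩⟩) hx1⟩
  rw [mem_cent1.1 hg, mul_inv_cancel_right]

/-- 15.9(a, b) -/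
theorem nonFtype_signalizer_base (hM : IsCoatom M) (hx : x ∈ Ms M) (hx1 : x ≠ 1)
    (hC : ¬ C[x] ≤ M) (hN : ¬ TypeF (sigN x)) :
    TypeF M ∧ TypeP2 (sigN x) ∧ ∃ E, Hall (sigma M)ᶜ E M ∧ Cyc E ∧ Frob (Ms M) E M := by
  obtain ⟨u, -, t2, typ, h5⟩ := B14_4.FT_signalizer_context (sigMax_ell1 hx1 ⟨hM, hx⟩)
    (one_lt_sigMax hM hx hx1 hC)
  obtain ⟨-, s2, -, hE⟩ := h5 M ⟨hM, hx⟩
  have P2 := typ.resolve_left hN
  generalize sigN x = N at *
  obtain ⟨U, K, hU, eU⟩ := exists_kappaCompl_sup u.max hE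
  obtain ⟨r, hr, hrd⟩ := exists_prime_dvd_orderOf hx1
  have r2 := t2.mem hr hrd
  obtain ⟨R, hR⟩ := exists_syl r U
  have nR : N(R) ≤ M := by
    refine B12_10.norm_noncyclic_sigma hM (s2 r2) hR.pi
      (hR.le.trans (le_sup_left.trans (eU.le.trans inf_le_left))) fun hc => ?_
    have := cyc_prk hc r
    rw [hR.prk_syl, hU.hallU.prk_eq (fun h => h.elim (tau2_sigma' r2) fun h => kap_tau2' h r2),
      tau2_prk r2] at this
    omega
  obtain ⟨Ns, hNs, hC'⟩ := mmax_exists (mFT_cent_proper ((typeP_iff u.max hU.hallK).1 P2.1))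
  obtain ⟨FM, -, -, -, -, hD⟩ := B14_11.P2type_signalizer P2 hU hNs hC' hR hM nR
  have t2M : ∀ q, q ∉ tau2 M := fun q hq => by
    have := (tau2_P2type_signalizer P2 hU hNs hC' hR hM nR hq).2.2
    exact (this ▸ r2 : r ∈ (∅ : Set ℕ))
  obtain ⟨g, hg, hg1⟩ := not_TI_of_cent1
    (le_Fit (Ms_normal M) (B14_1.notP1type_Msigma_nil (Or.inl FM)) hx) hx1 hC
  have t3 := (nonTI_Fitting_structure hM hg rfl hg1).2.2.1.2
  have t1 : PiG (tau1 M) (M ⊓ Ns) := fun p hp hd => by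
    rcases (B12_1.partition_pi_sigma_compl hM hD).1 ⟨hp, hd⟩ with h | h | h
    · exact h
    · exact absurd h (t2M p)
    · exact absurd (t3 ▸ h : p ∈ (∅ : Set ℕ)) (Set.notMem_empty p)
  obtain ⟨E2, E3, sc⟩ := B12_1.ex_tau23_compl hM hD (Hall.self t1)
  refine ⟨FM, P2, _, hD, (B12_1.sigma_compl_context hM sc).2.2.1.1, B12_1.sdprod_sigma hM hD,
    B10_2.Msigma_neq1 hM, sigma_compl_ne_bot hM hD, semireg_of_el1 fun p X hX => ?_⟩
  by_contra h0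
  have : p ∈ kap M := ⟨Or.inl (hX.mem_pi t1), X, hX.mono inf_le_left, h0⟩
  exact (FM.2 ▸ this : p ∈ (∅ : Set ℕ))

instance inst_B15_8 : B15_8 G := ⟨tau2_P2type_signalizer, nonFtype_signalizer_base⟩

instance inst_B15 : B15 G := {}

end H17
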