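/-
Lyons' theorem: the search for the decomposition numbers, case of an automorphism of order 5.
-/
import Cfsg.Agent.H17.Ly0

set_option autoImplicit false
set_option maxRecDepth 100000

namespace H17.Ly
open Ct

/-- a row of (modified) generalized decomposition numbers -/
structure R where
  (a0 a1 a2 a3 a4 b : ℤ)
  deriving DecidableEq

def τ (r : R) : R := ⟨r.a0, r.a4, r.a1, r.a2, r.a3, r.b⟩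
def four (r : R) : List R := [r, τ r, τ (τ r), τ (τ (τ r))]
def orb (r : R) : List R := if τ r = r then [r] else if τ (τ r) = r then [r, τ r] else four r
def R.V (r : R) : ℤ := 5 * r.b - 4 * (r.a0 + r.a1 + r.a2 + r.a3 + r.a4)
def dot (c r : R) : ℤ := c.a0 * r.a0 + c.a1 * r.a1 + c.a2 * r.a2 + c.a3 * r.a3 + c.a4 * r.a4 + c.b * r.b
def nrm (c : R) : ℤ := 4 * (c.a0 ^ 2 + c.a1 ^ 2 + c.a2 ^ 2 + c.a3 ^ 2 + c.a4 ^ 2) + 15 * c.b ^ 2 +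
  6 * c.a0 * c.b + (c.a1 + c.a2 + c.a3 + c.a4) * (c.a1 + c.a2 + c.a3 + c.a4 + 2 * c.a0 + 8 * c.b)
def adj (r : R) : R :=
  let s := r.a1 + r.a2 + r.a3 + r.a4
  let t := s - 3 * r.a0 - 13 * r.b
  ⟨56 * r.a0 - 3 * s - 8 * r.b, 47 * r.a1 + t, 47 * r.a2 + t, 47 * r.a3 + t, 47 * r.a4 + t,
    28 * r.b - 8 * r.a0 - 13 * s⟩

def adj' (r : R) : R :=
  let s := r.a1 + r.a2 + r.a3 + r.a4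
  let t := -4 * r.a0 - 3 * s
  ⟨32 * r.a0 - 4 * s, 28 * r.a1 + t, 28 * r.a2 + t, 28 * r.a3 + t, 28 * r.a4 + t, 0⟩

def mind (v b : ℤ) : ℤ :=
  let D := 64 * max 0 (max (-b) ((4 * v - 4 * b) / 64 + 1)) - 3 * v + 4 * b
  if D = 12 then 76 else D

def item (r : R) : It :=
  let l0 := ((orb r).map R.a0).sum
  let l1 := ((orb r).map R.a1).sum
  let l2 := ((orb r).map R.b).sum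
  ⟨l0, l1, l2, (l0 - l1) * r.V ^ 2, l2 * r.V ^ 2, l0 * r.V ^ 2, mind r.V r.b, mind (-r.V) (-r.b)⟩

def cost (c r : R) : ℕ := ((orb r).map fun q => (dot c q).natAbs ^ 2).sum

def x0 : Ct := cl 0 0 0

def tst : List R :=
  [⟨1, 0, 0, 0, 0, 0⟩, ⟨0, 0, 0, 0, 1, 0⟩, ⟨1, -1, 0, 0, 0, 0⟩, ⟨0, 0, 0, 1, -1, 0⟩, ⟨0, 0, 1, 0,
  -1, 0⟩, ⟨0, 0, 0, 1, 1, -1⟩, ⟨0, 0, 1, 0, 1, -1⟩, ⟨1, 0, 0, 0, 1, 0⟩, ⟨0, 0, 0, 0, 1, -1⟩, ⟨0,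
  0, 0, 1, 1, 0⟩, ⟨0, 0, 1, 0, 1, 0⟩, ⟨0, 0, 1, 1, 1, -1⟩, ⟨1, -1, -1, 0, 0, 0⟩, ⟨1, -1, 0, -1, 0,
  0⟩, ⟨1, -1, 0, 0, 1, 0⟩, ⟨1, -1, 0, 1, 0, 0⟩, ⟨1, -1, 1, 0, 0, 0⟩, ⟨1, 0, 0, 0, 1, -1⟩, ⟨0, 0,
  1, -1, -1, 0⟩, ⟨0, 0, 1, -1, 1, 0⟩, ⟨0, 0, 1, 1, -1, 0⟩, ⟨1, 0, 0, 0, 0, -1⟩, ⟨1, 0, 0, 1, 1,
  -1⟩, ⟨1, 0, 1, 0, 1, -1⟩, ⟨0, 0, 0, 0, 0, 1⟩]

def tys : List R :=
  [⟨-1, -1, -1, -1, 0, -3⟩, ⟨-1, -1, -1, -1, 0, -2⟩, ⟨-1, -1, -1, -1, 0, -1⟩, ⟨-1, -1, -1, -1, 0,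
  0⟩, ⟨-1, -1, -1, 0, 0, -2⟩, ⟨-1, -1, -1, 0, 0, 0⟩, ⟨-1, -1, -1, 0, 1, -1⟩, ⟨-1, -1, -1, 1, 0,
  -1⟩, ⟨-1, -1, 0, -1, 1, -1⟩, ⟨-1, -1, 0, 0, 0, 1⟩, ⟨-1, 0, 0, 0, 1, 1⟩, ⟨-1, 0, 0, 1, 1, 1⟩, ⟨0,
  -1, -1, -1, 0, -2⟩, ⟨0, -1, -1, -1, 0, 0⟩, ⟨0, -1, -1, 0, 0, 1⟩, ⟨0, -1, -1, 0, 1, 0⟩, ⟨0, -1,
  -1, 1, 0, 0⟩, ⟨0, -1, 0, -1, 0, 1⟩, ⟨0, -1, 0, -1, 1, 0⟩, ⟨0, -1, 0, 0, 0, 1⟩, ⟨0, -1, 0, 1, 1,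
  1⟩, ⟨0, -1, 1, 0, 1, 1⟩, ⟨0, -1, 1, 1, 0, 1⟩, ⟨0, 0, 0, 0, 1, 2⟩, ⟨0, 0, 0, 1, 1, 2⟩, ⟨0, 0, 1,
  1, 1, 3⟩, ⟨1, -1, -1, 0, 0, 0⟩, ⟨1, -1, 0, 0, 0, 1⟩, ⟨1, 0, 0, 0, 1, 2⟩, ⟨1, -1, 0, 0, 1, 1⟩,
  ⟨1, -1, 1, 0, 0, 1⟩, ⟨-1, -1, 0, 0, 1, 0⟩, ⟨-1, -1, 1, 0, 0, 0⟩, ⟨1, -1, 0, 1, 0, 1⟩, ⟨-1, -1,
  0, 1, 0, 0⟩, ⟨-1, -1, 0, 0, 0, 0⟩, ⟨-1, -1, -1, 0, 0, -1⟩, ⟨-1, 0, 1, 0, 1, 1⟩, ⟨-1, -1, 0, -1,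
  0, 0⟩, ⟨-1, -1, 0, 0, 0, -1⟩, ⟨1, -1, 0, -1, 0, 0⟩, ⟨-1, -1, 0, -1, 0, -2⟩, ⟨-1, -1, 0, -1, 0,
  -1⟩, ⟨-1, -1, -1, -1, -1, -3⟩, ⟨-1, -1, -1, -1, -1, -1⟩, ⟨1, 0, 0, 0, 0, 2⟩, ⟨-1, -1, -1, -1,
  -1, -2⟩, ⟨-1, 0, 0, 0, 0, 1⟩, ⟨1, 0, 0, 0, 0, 1⟩, ⟨-1, 0, 0, 0, 0, 0⟩, ⟨0, -2, 0, 0, 0, -1⟩, ⟨0,
  -1, -1, -1, 1, -1⟩, ⟨0, -1, 0, 0, 1, 1⟩, ⟨0, -1, 1, 0, 0, 1⟩, ⟨0, -1, 0, 1, 0, 1⟩, ⟨0, -1, -1,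
  -1, 0, -1⟩, ⟨0, -1, -1, 0, 0, 0⟩, ⟨0, -1, -1, 0, 0, -1⟩, ⟨0, 0, 1, 0, 1, 2⟩, ⟨0, 0, 0, 0, 1, 1⟩,
  ⟨0, -1, -1, -1, -1, -3⟩, ⟨0, -1, 0, -1, 0, 0⟩, ⟨0, -1, 0, 0, 0, 0⟩, ⟨0, -1, 0, -1, 0, -1⟩, ⟨0,
  -1, -1, -1, -1, -2⟩, ⟨0, -1, -1, -1, -1, -1⟩, ⟨0, 0, 0, 0, 0, 2⟩, ⟨0, 0, 0, 0, 0, 1⟩]

def gd (r : R) : ℕ := if r = ⟨0, -2, 0, 0, 0, -1⟩ then 0 else if r = ⟨0, 0, 0, 0, 0, 2⟩ then 1 else 99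

def ents : List (R × List ℕ × ℕ) :=
  [(⟨-1, -1, -1, -1, 0, -3⟩, [4,3,1,2,2,10,10,13,21,10,10,3,2,2,6,6,6,7,5,5,5,16,2,2,36], 99),
  (⟨-1, -1, -1, -1, 0, -2⟩, [4,3,1,2,2,2,2,13,7,10,10,1,2,2,6,6,6,1,5,5,5,4,2,2,16], 99), (⟨-1,
  -1, -1, -1, 0, -1⟩, [4,3,1,2,2,2,2,13,1,10,10,7,2,2,6,6,6,3,5,5,5,0,10,10,4], 99), (⟨-1, -1, -1,
  -1, 0, 0⟩, [4,3,1,2,2,10,10,13,3,10,10,21,2,2,6,6,6,13,5,5,5,4,26,26,0], 99), (⟨-1, -1, -1, 0,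
  0, -2⟩, [4,2,2,2,4,6,4,10,10,6,4,2,2,0,6,8,6,2,6,2,6,4,2,0,16], 99), (⟨-1, -1, -1, 0, 0, 0⟩,
  [4,2,2,2,4,6,4,10,2,6,4,10,2,0,6,8,6,10,6,2,6,4,18,16,0], 99), (⟨-1, -1, -1, 0, 1, -1⟩,
  [4,3,5,6,10,6,2,9,5,6,2,3,6,2,10,14,10,3,13,5,13,0,6,2,4], 99), (⟨-1, -1, -1, 1, 0, -1⟩,
  [4,3,5,6,10,6,2,9,5,6,2,3,6,2,10,14,10,3,13,5,13,0,6,2,4], 99), (⟨-1, -1, 0, -1, 1, -1⟩,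
  [4,3,5,10,2,2,10,9,5,2,10,3,2,10,14,6,14,3,5,21,5,0,2,10,4], 99), (⟨-1, -1, 0, 0, 0, 1⟩,
  [4,1,3,2,2,10,10,7,7,2,2,13,2,2,6,6,6,21,3,3,3,16,26,26,4], 99), (⟨-1, 0, 0, 0, 1, 1⟩,
  [4,1,7,2,2,2,2,3,3,2,2,1,10,10,6,6,6,13,3,3,3,16,10,10,4], 99), (⟨-1, 0, 0, 1, 1, 1⟩,
  [4,2,10,2,4,2,0,2,2,6,4,2,18,16,6,8,6,10,6,2,6,16,6,4,4], 99), (⟨0, -1, -1, -1, 0, -2⟩,
  [0,3,3,2,2,2,2,3,7,10,10,1,10,10,2,2,2,7,5,5,5,16,2,2,16], 99), (⟨0, -1, -1, -1, 0, 0⟩,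
  [0,3,3,2,2,10,10,3,3,10,10,21,10,10,2,2,2,3,5,5,5,0,10,10,0], 99), (⟨0, -1, -1, 0, 0, 1⟩,
  [0,2,2,2,4,18,16,2,10,6,4,26,6,4,2,4,2,10,6,2,6,4,18,16,4], 99), (⟨0, -1, -1, 0, 1, 0⟩,
  [0,3,3,6,10,6,2,3,3,6,2,5,6,2,6,10,6,3,13,5,13,0,6,2,0], 99), (⟨0, -1, -1, 1, 0, 0⟩,
  [0,3,3,6,10,6,2,3,3,6,2,5,6,2,6,10,6,3,13,5,13,0,6,2,0], 99), (⟨0, -1, 0, -1, 0, 1⟩,
  [0,1,1,2,0,8,10,1,5,2,4,13,2,4,2,0,2,5,1,5,1,2,8,10,2], 99), (⟨0, -1, 0, -1, 1, 0⟩,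
  [0,3,3,10,2,2,10,3,3,2,10,5,2,10,10,2,10,3,5,21,5,0,2,10,0], 99), (⟨0, -1, 0, 0, 0, 1⟩,
  [0,1,1,2,2,10,10,1,7,2,2,13,2,2,2,2,2,7,3,3,3,4,10,10,4], 99), (⟨0, -1, 0, 1, 1, 1⟩,
  [0,3,3,6,10,6,2,3,5,6,2,3,6,2,6,10,6,5,13,5,13,4,6,2,4], 99), (⟨0, -1, 1, 0, 1, 1⟩,
  [0,3,3,10,2,2,10,3,5,2,10,3,2,10,10,2,10,5,5,21,5,4,2,10,4], 99), (⟨0, -1, 1, 1, 0, 1⟩,
  [0,3,3,6,10,6,2,3,5,6,2,3,6,2,6,10,6,5,13,5,13,4,6,2,4], 99), (⟨0, 0, 0, 0, 1, 2⟩,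
  [0,1,1,2,2,10,10,1,13,2,2,7,2,2,2,2,2,13,3,3,3,16,10,10,16], 99), (⟨0, 0, 0, 1, 1, 2⟩,
  [0,2,2,2,4,6,4,2,10,6,4,2,6,4,2,4,2,10,6,2,6,16,6,4,16], 99), (⟨0, 0, 1, 1, 1, 3⟩,
  [0,3,3,2,2,10,10,3,21,10,10,3,10,10,2,2,2,21,5,5,5,36,10,10,36], 99), (⟨1, -1, -1, 0, 0, 0⟩,
  [4,2,10,2,4,6,4,2,2,6,4,10,18,16,6,8,6,2,6,2,6,4,2,0,0], 99), (⟨1, -1, 0, 0, 0, 1⟩,
  [4,1,7,2,2,10,10,3,7,2,2,13,10,10,6,6,6,1,3,3,3,0,2,2,4], 99), (⟨1, 0, 0, 0, 1, 2⟩,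
  [4,1,3,2,2,10,10,7,13,2,2,7,2,2,6,6,6,3,3,3,3,4,2,2,16], 99), (⟨1, -1, 0, 0, 1, 1⟩,
  [4,2,6,6,4,6,8,6,6,2,4,6,6,8,10,8,10,2,6,10,6,0,2,4,4], 99), (⟨1, -1, 1, 0, 0, 1⟩,
  [4,2,6,6,4,6,8,6,6,2,4,6,6,8,10,8,10,2,6,10,6,0,2,4,4], 99), (⟨-1, -1, 0, 0, 1, 0⟩,
  [4,2,6,6,4,2,4,6,2,2,4,2,6,8,10,8,10,6,6,10,6,4,6,8,0], 99), (⟨-1, -1, 1, 0, 0, 0⟩,
  [4,2,6,6,4,2,4,6,2,2,4,2,6,8,10,8,10,6,6,10,6,4,6,8,0], 99), (⟨1, -1, 0, 1, 0, 1⟩,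
  [4,2,6,4,8,8,4,6,6,4,0,6,8,4,8,12,8,2,10,2,10,0,4,0,4], 99), (⟨-1, -1, 0, 1, 0, 0⟩,
  [4,2,6,4,8,4,0,6,2,4,0,2,8,4,8,12,8,6,10,2,10,4,8,4,0], 99), (⟨-1, -1, 0, 0, 0, 0⟩,
  [4,1,3,2,2,2,2,7,1,2,2,3,2,2,6,6,6,7,3,3,3,4,10,10,0], 99), (⟨-1, -1, -1, 0, 0, -1⟩,
  [4,2,2,2,4,2,0,10,2,6,4,2,2,0,6,8,6,2,6,2,6,0,6,4,4], 99), (⟨-1, 0, 1, 0, 1, 1⟩,
  [2,1,5,2,0,0,2,1,1,2,4,1,8,10,4,2,4,5,1,5,1,8,2,4,2], 99), (⟨-1, -1, 0, -1, 0, 0⟩,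
  [2,1,1,2,0,2,4,5,1,2,4,5,0,2,4,2,4,5,1,5,1,2,8,10,0], 99), (⟨-1, -1, 0, 0, 0, -1⟩,
  [4,1,3,2,2,2,2,7,3,2,2,1,2,2,6,6,6,1,3,3,3,0,2,2,4], 99), (⟨1, -1, 0, -1, 0, 0⟩,
  [2,1,5,2,0,2,4,1,1,2,4,5,8,10,4,2,4,1,1,5,1,2,0,2,0], 99), (⟨-1, -1, 0, -1, 0, -2⟩,
  [2,1,1,2,0,2,4,5,5,2,4,1,0,2,4,2,4,1,1,5,1,2,0,2,8], 99), (⟨-1, -1, 0, -1, 0, -1⟩,
  [2,1,1,2,0,0,2,5,1,2,4,1,0,2,4,2,4,1,1,5,1,0,2,4,2], 99), (⟨-1, -1, -1, -1, -1, -3⟩,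
  [1,1,0,0,0,1,1,4,4,4,4,0,1,1,1,1,1,1,1,1,1,4,0,0,9], 99), (⟨-1, -1, -1, -1, -1, -1⟩,
  [1,1,0,0,0,1,1,4,0,4,4,4,1,1,1,1,1,1,1,1,1,0,4,4,1], 99), (⟨1, 0, 0, 0, 0, 2⟩,
  [1,0,1,0,0,4,4,1,4,0,0,4,1,1,1,1,1,1,0,0,0,1,1,1,4], 99), (⟨-1, -1, -1, -1, -1, -2⟩,
  [1,1,0,0,0,0,0,4,1,4,4,1,1,1,1,1,1,0,1,1,1,1,1,1,4], 99), (⟨-1, 0, 0, 0, 0, 1⟩,
  [1,0,1,0,0,1,1,1,1,0,0,1,1,1,1,1,1,4,0,0,0,4,4,4,1], 99), (⟨1, 0, 0, 0, 0, 1⟩,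
  [1,0,1,0,0,1,1,1,1,0,0,1,1,1,1,1,1,0,0,0,0,0,0,0,1], 99), (⟨-1, 0, 0, 0, 0, 0⟩,
  [1,0,1,0,0,0,0,1,0,0,0,0,1,1,1,1,1,1,0,0,0,1,1,1,0], 99), (⟨0, -2, 0, 0, 0, -1⟩,
  [0,4,4,8,8,4,4,4,4,8,8,4,8,8,8,8,8,4,12,12,12,4,4,4,4], 0), (⟨0, -1, -1, -1, 1, -1⟩,
  [0,4,4,8,8,4,4,4,4,8,8,4,8,8,8,8,8,4,12,12,12,4,4,4,4], 99), (⟨0, -1, 0, 0, 1, 1⟩,
  [0,2,2,6,4,6,8,2,6,2,4,6,2,4,6,4,6,6,6,10,6,4,6,8,4], 99), (⟨0, -1, 1, 0, 0, 1⟩,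
  [0,2,2,6,4,6,8,2,6,2,4,6,2,4,6,4,6,6,6,10,6,4,6,8,4], 99), (⟨0, -1, 0, 1, 0, 1⟩,
  [0,2,2,4,8,8,4,2,6,4,0,6,4,0,4,8,4,6,10,2,10,4,8,4,4], 99), (⟨0, -1, -1, -1, 0, -1⟩,
  [0,3,3,2,2,2,2,3,1,10,10,7,10,10,2,2,2,1,5,5,5,4,2,2,4], 99), (⟨0, -1, -1, 0, 0, 0⟩,
  [0,2,2,2,4,6,4,2,2,6,4,10,6,4,2,4,2,2,6,2,6,0,6,4,0], 99), (⟨0, -1, -1, 0, 0, -1⟩,
  [0,2,2,2,4,2,0,2,2,6,4,2,6,4,2,4,2,2,6,2,6,4,2,0,4], 99), (⟨0, 0, 1, 0, 1, 2⟩,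
  [0,1,1,2,0,2,4,1,5,2,4,1,2,4,2,0,2,5,1,5,1,8,2,4,8], 99), (⟨0, 0, 0, 0, 1, 1⟩,
  [0,1,1,2,2,2,2,1,3,2,2,1,2,2,2,2,2,3,3,3,3,4,2,2,4], 99), (⟨0, -1, -1, -1, -1, -3⟩,
  [0,1,1,0,0,1,1,1,4,4,4,0,4,4,0,0,0,4,1,1,1,9,1,1,9], 99), (⟨0, -1, 0, -1, 0, 0⟩,
  [0,1,1,2,0,2,4,1,1,2,4,5,2,4,2,0,2,1,1,5,1,0,2,4,0], 99), (⟨0, -1, 0, 0, 0, 0⟩,
  [0,1,1,2,2,2,2,1,1,2,2,3,2,2,2,2,2,1,3,3,3,0,2,2,0], 99), (⟨0, -1, 0, -1, 0, -1⟩,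
  [0,1,1,2,0,0,2,1,1,2,4,1,2,4,2,0,2,1,1,5,1,2,0,2,2], 99), (⟨0, -1, -1, -1, -1, -2⟩,
  [0,1,1,0,0,0,0,1,1,4,4,1,4,4,0,0,0,1,1,1,1,4,0,0,4], 99), (⟨0, -1, -1, -1, -1, -1⟩,
  [0,1,1,0,0,1,1,1,0,4,4,4,4,4,0,0,0,0,1,1,1,1,1,1,1], 99), (⟨0, 0, 0, 0, 0, 2⟩,
  [0,0,0,0,0,4,4,0,4,0,0,4,0,0,0,0,0,4,0,0,0,4,4,4,4], 1), (⟨0, 0, 0, 0, 0, 1⟩,
  [0,0,0,0,0,1,1,0,1,0,0,1,0,0,0,0,0,1,0,0,0,1,1,1,1], 99)]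

def bud : List ℕ := [4, 5, 7, 8, 8, 11, 11, 11, 12, 12, 12, 12, 12, 12, 12, 12, 12, 12, 13, 13, 13, 13, 13, 13, 15]

def k0 : Ct :=
  (sp 4 true (sp 4 true (ln 2 0 1 0 x0) (sp 2 true (cl 1 0 0) (sp 4 true (ln 2 0 1 0 (sp 0 false
  (sp 1 false (rc 0 2 (-1) x0) (cl (-2) 1 0)) (cl 0 1 0))) (sp 0 false (sp 3 true (ln 1 0 1 0 x0)
  (sp 4 false (ln 0 0 (-2) 1 (sp 2 true (rc 0 0 1 x0) (cl 0 1 0))) (sp 0 false (ln 3 0 (-2) 1 x0)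
  (sp 3 true (ln 1 0 1 0 (cl 0 1 0)) (cl 0 1 0))))) (sp 4 true (ln 2 0 1 0 x0) (sp 5 false (sp 4
  true (ln 2 0 1 0 (cl 0 1 0)) (sp 0 false (ln 0 0 (-2) 1 (cl 0 1 0)) (cl 0 1 0))) (cl 0 1
  0))))))) (sp 3 true (sp 3 true (sp 3 true (ln 2 0 1 0 x0) (sp 3 true (ln 2 0 1 0 (cl (-2) 1 0))
  (sp 4 false (rc 2 1 0 x0) (sp 0 false (sp 2 true (ln 1 0 1 0 x0) (sp 3 false (ln 1 (-1) 1 0 x0)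
  (sp 0 false (ln 2 0 (-2) 1 x0) (cl 2 1 0)))) (sp 3 true (ln 2 0 1 0 x0) (cl 2 1 0)))))) (sp 2
  false (ln 3 0 1 0 (sp 3 false (rc 2 1 0 x0) (sp 2 true (rc 2 1 0 x0) (cl 1 0 0)))) (sp 5 false
  (sp 3 true (ln 2 (-1) 1 0 x0) (cl 1 0 0)) (cl 1 0 0)))) (sp 4 true (sp 2 false (ln 3 0 1 0 (sp 3
  false (rc 2 1 0 x0) (sp 2 true (rc 2 1 0 x0) (cl 1 0 0)))) (sp 5 false (sp 3 true (ln 2 (-1) 1 0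
  x0) (cl 1 0 0)) (cl 1 0 0))) (cl 1 0 0))))

def k1 : Ct :=
  (sp 4 true (sp 4 true (ln 2 0 1 0 x0) (sp 2 true (cl 1 0 0) (sp 4 true (ln 2 0 1 0 (sp 0 false
  (sp 1 false (rc 0 2 (-1) x0) (cl (-2) 1 0)) (cl 0 1 0))) (sp 0 false (sp 3 true (ln 1 0 1 0 x0)
  (sp 4 false (ln 0 0 (-2) 1 (sp 2 true (rc 0 0 1 x0) (cl 0 1 0))) (sp 0 false (ln 3 0 (-2) 1 x0)
  (sp 3 true (ln 1 0 1 0 (cl 0 1 0)) (cl 0 1 0))))) (sp 4 true (ln 2 0 1 0 x0) (sp 5 false (sp 4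
  true (ln 2 0 1 0 (cl 0 1 0)) (sp 0 false (ln 0 0 (-2) 1 (cl 0 1 0)) (cl 0 1 0))) (cl 0 1
  0))))))) (sp 3 true (sp 3 true (sp 3 true (ln 2 0 1 0 x0) (sp 3 true (ln 2 0 1 0 (cl (-2) 1 0))
  (sp 4 false (rc 2 1 0 x0) (sp 0 false (sp 2 true (ln 1 0 1 0 x0) (sp 3 false (ln 1 (-1) 1 0 x0)
  (sp 0 false (ln 2 0 (-2) 1 x0) (cl 2 1 0)))) (sp 3 true (ln 2 0 1 0 x0) (cl 2 1 0)))))) (sp 2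
  false (ln 3 0 1 0 (sp 3 false (rc 2 1 0 x0) (sp 2 true (rc 2 1 0 x0) (cl 1 0 0)))) (sp 5 false
  (sp 3 true (ln 2 (-1) 1 0 x0) (cl 1 0 0)) (cl 1 0 0)))) (sp 4 true (sp 2 false (ln 3 0 1 0 (sp 3
  false (rc 2 1 0 x0) (sp 2 true (rc 2 1 0 x0) (cl 1 0 0)))) (sp 5 false (sp 3 true (ln 2 (-1) 1 0
  x0) (cl 1 0 0)) (cl 1 0 0))) (cl 1 0 0))))

def k2 : Ct :=
  (sp 5 true (cl 1 0 0) (sp 5 true (cl 1 0 0) (sp 5 true (cl 1 0 0) (sp 5 true (cl 1 0 0) (sp 4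
  false (ln 4 0 1 0 x0) (sp 5 true (rc 4 1 0 x0) (sp 5 true (rc 4 1 0 x0) (sp 5 true (rc 4 1 0 x0)
  (sp 5 true (rc 4 1 0 x0) (sp 4 false (ln 4 0 1 0 x0) (sp 5 true (rc 4 1 0 x0) (sp 5 true (rc 4 1
  0 x0) (sp 5 true (rc 4 1 0 x0) (sp 5 true (rc 4 1 0 x0) (sp 4 false (ln 4 0 1 0 x0) (sp 5 true
  (rc 4 1 0 x0) (sp 5 true (rc 4 1 0 x0) (sp 5 true (rc 4 1 0 x0) (sp 5 true (rc 4 1 0 x0) (sp 4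
  false (ln 4 0 1 0 x0) (sp 5 true (rc 4 1 0 x0) (sp 5 true (rc 4 1 0 x0) (sp 5 true (rc 4 1 0 x0)
  (sp 5 true (rc 4 1 0 x0) (sp 5 true (rc 4 1 0 x0) (sp 4 false (ln 4 0 1 0 x0) (sp 5 true (rc 4 1
  0 x0) (sp 5 true (rc 4 1 0 x0) (sp 5 true (rc 4 1 0 x0) (sp 5 true (rc 4 1 0 x0) (cl (-1) 0
  0)))))))))))))))))))))))))))))))

def k3 : Ct :=
  (sp 5 false (rc 4 1 0 x0) (sp 5 false (rc 4 1 0 x0) (sp 5 false (rc 4 1 0 x0) (sp 4 true (rc 4 1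
  0 x0) (sp 5 false (rc 4 1 0 x0) (sp 5 false (rc 4 1 0 x0) (sp 5 false (rc 4 1 0 x0) (sp 5 false
  (rc 4 1 0 x0) (sp 4 true (ln 4 0 1 0 x0) (sp 5 false (rc 4 1 0 x0) (sp 5 false (rc 4 1 0 x0) (sp
  5 false (rc 4 1 0 x0) (sp 5 false (rc 4 1 0 x0) (sp 4 true (rc 4 1 0 x0) (sp 5 false (rc 4 1 0
  x0) (sp 5 false (rc 4 1 0 x0) (sp 5 false (rc 4 1 0 x0) (sp 5 false (rc 4 1 0 x0) (sp 5 false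
  (rc 4 1 0 x0) (sp 4 true (ln 4 0 1 0 x0) (sp 5 false (rc 4 1 0 x0) (sp 5 false (rc 4 1 0 x0) (sp
  5 false (rc 4 1 0 x0) (sp 5 false (rc 4 1 0 x0) (sp 4 true (rc 4 1 0 x0) (sp 5 false (rc 4 1 0
  x0) (sp 5 false (rc 4 1 0 x0) (sp 5 false (rc 4 1 0 x0) (sp 5 false (rc 4 1 0 x0) (sp 4 true (ln
  4 0 1 0 x0) (cl 1 0 0)))))))))))))))))))))))))))))))

def k4 : Ct :=
  (sp 5 false (rc 4 1 0 x0) (sp 4 true (rc 4 1 0 x0) (sp 5 false (rc 4 1 0 x0) (sp 5 false (rc 4 1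
  0 x0) (sp 5 false (rc 4 1 0 x0) (sp 5 false (rc 4 1 0 x0) (sp 5 false (rc 4 1 0 x0) (sp 4 true
  (ln 4 0 1 0 x0) (sp 5 false (rc 4 1 0 x0) (sp 5 false (rc 4 1 0 x0) (sp 5 false (rc 4 1 0 x0)
  (sp 5 false (rc 4 1 0 x0) (sp 4 true (rc 4 1 0 x0) (sp 5 false (rc 4 1 0 x0) (sp 5 false (rc 4 1
  0 x0) (sp 5 false (rc 4 1 0 x0) (sp 5 false (rc 4 1 0 x0) (sp 4 true (ln 4 0 1 0 x0) (sp 5 false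
  (rc 4 1 0 x0) (sp 5 false (rc 4 1 0 x0) (sp 5 false (rc 4 1 0 x0) (sp 5 false (rc 4 1 0 x0) (sp
  4 true (rc 4 1 0 x0) (sp 5 false (rc 4 1 0 x0) (sp 5 false (rc 4 1 0 x0) (sp 5 false (rc 4 1 0
  x0) (sp 5 false (rc 4 1 0 x0) (sp 5 false (rc 4 1 0 x0) (sp 4 true (ln 4 0 1 0 x0) (sp 5 false
  (ln 4 0 1 0 (cl 1 0 0)) k3))))))))))))))))))))))))))))))

def k5 : Ct :=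
  (sp 5 false (rc 4 1 0 x0) (sp 4 true (rc 4 1 0 x0) (sp 5 false (rc 4 1 0 x0) (sp 5 false (rc 4 1
  0 x0) (sp 5 false (rc 4 1 0 x0) (sp 5 false (rc 4 1 0 x0) (sp 4 true (ln 4 0 1 0 x0) (sp 5 false
  (rc 4 1 0 x0) (sp 5 false (rc 4 1 0 x0) (sp 5 false (rc 4 1 0 x0) (sp 5 false (rc 4 1 0 x0) (sp
  5 false (rc 4 1 0 x0) (sp 4 true (rc 4 1 0 x0) (sp 5 false (rc 4 1 0 x0) (sp 5 false (rc 4 1 0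
  x0) (sp 5 false (rc 4 1 0 x0) (sp 5 false (rc 4 1 0 x0) (sp 4 true (ln 4 0 1 0 x0) (sp 5 false
  (rc 4 1 0 x0) (sp 5 false (rc 4 1 0 x0) (sp 5 false (rc 4 1 0 x0) (sp 5 false (rc 4 1 0 x0) (sp
  4 true (rc 4 1 0 x0) (sp 5 false (rc 4 1 0 x0) (sp 5 false (rc 4 1 0 x0) (sp 5 false (rc 4 1 0
  x0) (sp 5 false (rc 4 1 0 x0) (sp 4 true (ln 4 0 1 0 x0) (sp 5 false (rc 4 1 0 x0) (sp 5 false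
  (rc 4 1 0 x0) (sp 5 false (rc 4 1 0 x0) k4)))))))))))))))))))))))))))))))

def k6 : Ct :=
  (sp 5 false (rc 4 1 0 x0) (sp 4 true (rc 4 1 0 x0) (sp 5 false (rc 4 1 0 x0) (sp 5 false (rc 4 1
  0 x0) (sp 5 false (rc 4 1 0 x0) (sp 5 false (rc 4 1 0 x0) (sp 4 true (ln 4 0 1 0 x0) (sp 5 false
  (rc 4 1 0 x0) (sp 5 false (rc 4 1 0 x0) (sp 5 false (rc 4 1 0 x0) (sp 5 false (rc 4 1 0 x0) (sp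
  4 true (rc 4 1 0 x0) (sp 5 false (rc 4 1 0 x0) (sp 5 false (rc 4 1 0 x0) (sp 5 false (rc 4 1 0
  x0) (sp 5 false (rc 4 1 0 x0) (sp 4 true (ln 4 0 1 0 x0) (sp 5 false (rc 4 1 0 x0) (sp 5 false
  (rc 4 1 0 x0) (sp 5 false (rc 4 1 0 x0) (sp 5 false (rc 4 1 0 x0) (sp 5 false (rc 4 1 0 x0) (sp
  4 true (rc 4 1 0 x0) (sp 5 false (rc 4 1 0 x0) (sp 5 false (rc 4 1 0 x0) (sp 5 false (rc 4 1 0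
  x0) (sp 5 false (rc 4 1 0 x0) (sp 4 true (ln 4 0 1 0 x0) (sp 5 false (rc 4 1 0 x0) (sp 5 false
  (rc 4 1 0 x0) (sp 5 false (rc 4 1 0 x0) k5)))))))))))))))))))))))))))))))

def k7 : Ct :=
  (sp 4 true (rc 4 1 0 x0) (sp 5 false (rc 4 1 0 x0) (sp 5 false (rc 4 1 0 x0) (sp 5 false (rc 4 1
  0 x0) (sp 5 false (rc 4 1 0 x0) (sp 4 true (ln 4 0 1 0 x0) (sp 5 false (rc 4 1 0 x0) (sp 5 false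
  (rc 4 1 0 x0) (sp 5 false (rc 4 1 0 x0) (sp 5 false (rc 4 1 0 x0) (sp 5 false (rc 4 1 0 x0) (sp
  4 true (rc 4 1 0 x0) (sp 5 false (rc 4 1 0 x0) (sp 5 false (rc 4 1 0 x0) (sp 5 false (rc 4 1 0
  x0) (sp 5 false (rc 4 1 0 x0) (sp 4 true (ln 4 0 1 0 x0) (sp 5 false (rc 4 1 0 x0) (sp 5 false
  (rc 4 1 0 x0) (sp 5 false (rc 4 1 0 x0) (sp 5 false (rc 4 1 0 x0) (sp 4 true (rc 4 1 0 x0) (sp 5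
  false (rc 4 1 0 x0) (sp 5 false (rc 4 1 0 x0) (sp 5 false (rc 4 1 0 x0) (sp 5 false (rc 4 1 0
  x0) (sp 4 true (ln 4 0 1 0 x0) (sp 5 false (rc 4 1 0 x0) (sp 5 false (rc 4 1 0 x0) (sp 5 false
  (rc 4 1 0 x0) (sp 5 false (rc 4 1 0 x0) k6)))))))))))))))))))))))))))))))

def k8 : Ct :=
  (sp 4 true (rc 4 1 0 x0) (sp 5 false (rc 4 1 0 x0) (sp 5 false (rc 4 1 0 x0) (sp 5 false (rc 4 1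
  0 x0) (sp 5 false (rc 4 1 0 x0) (sp 4 true (ln 4 0 1 0 x0) (sp 5 false (rc 4 1 0 x0) (sp 5 false
  (rc 4 1 0 x0) (sp 5 false (rc 4 1 0 x0) (sp 5 false (rc 4 1 0 x0) (sp 4 true (rc 4 1 0 x0) (sp 5
  false (rc 4 1 0 x0) (sp 5 false (rc 4 1 0 x0) (sp 5 false (rc 4 1 0 x0) (sp 5 false (rc 4 1 0
  x0) (sp 4 true (ln 4 0 1 0 x0) (sp 5 false (rc 4 1 0 x0) (sp 5 false (rc 4 1 0 x0) (sp 5 false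
  (rc 4 1 0 x0) (sp 5 false (rc 4 1 0 x0) (sp 5 false (rc 4 1 0 x0) (sp 4 true (rc 4 1 0 x0) (sp 5
  false (rc 4 1 0 x0) (sp 5 false (rc 4 1 0 x0) (sp 5 false (rc 4 1 0 x0) (sp 5 false (rc 4 1 0
  x0) (sp 4 true (ln 4 0 1 0 x0) (sp 5 false (rc 4 1 0 x0) (sp 5 false (rc 4 1 0 x0) (sp 5 false
  (rc 4 1 0 x0) (sp 5 false (rc 4 1 0 x0) k7)))))))))))))))))))))))))))))))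

def k9 : Ct :=
  (sp 5 false (cl (-1) 0 0) (sp 5 false (cl (-1) 0 0) (sp 5 false (cl (-1) 0 0) (sp 5 false (cl
  (-1) 0 0) (sp 4 true (ln 4 0 1 0 x0) (sp 5 false (cl (-1) 0 0) (sp 5 false (cl (-1) 0 0) (sp 5
  false (cl (-1) 0 0) (sp 5 false (cl (-1) 0 0) (sp 5 false (cl (-1) 0 0) (sp 4 true (ln 4 0 1 0
  x0) (sp 5 false (cl (-1) 0 0) (sp 5 false (rc 4 1 0 x0) (sp 5 false (rc 4 1 0 x0) (sp 5 false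
  (rc 4 1 0 x0) (sp 4 true (ln 4 0 1 0 x0) (sp 5 false (rc 4 1 0 x0) (sp 5 false (rc 4 1 0 x0) (sp
  5 false (rc 4 1 0 x0) (sp 5 false (rc 4 1 0 x0) (sp 4 true (rc 4 1 0 x0) (sp 5 false (rc 4 1 0
  x0) (sp 5 false (rc 4 1 0 x0) (sp 5 false (rc 4 1 0 x0) (sp 5 false (rc 4 1 0 x0) (sp 4 true (ln
  4 0 1 0 x0) (sp 5 false (rc 4 1 0 x0) (sp 5 false (rc 4 1 0 x0) (sp 5 false (rc 4 1 0 x0) (sp 5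
  false (rc 4 1 0 x0) (sp 5 false (rc 4 1 0 x0) k8)))))))))))))))))))))))))))))))

def k10 : Ct :=
  (sp 4 false (rc 4 1 0 x0) (sp 4 false (rc 4 1 0 x0) (sp 4 false (rc 4 1 0 x0) (sp 4 false (rc 4
  1 0 x0) (sp 5 true (rc 4 1 0 x0) (sp 4 false (rc 4 1 0 x0) (sp 4 false (rc 4 1 0 x0) (sp 4 false
  (rc 4 1 0 x0) (sp 4 false (rc 4 1 0 x0) (sp 5 true (rc 4 1 0 x0) (sp 4 false (rc 4 1 0 x0) (sp 4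
  false (rc 4 1 0 x0) (sp 4 false (rc 4 1 0 x0) (sp 4 false (rc 4 1 0 x0) (sp 5 true (rc 4 1 0 x0)
  (sp 4 false (rc 4 1 0 x0) (sp 4 false (rc 4 1 0 x0) (sp 4 false (rc 4 1 0 x0) (sp 4 false (rc 4
  1 0 x0) (sp 5 true (rc 4 1 0 x0) (sp 4 false (rc 4 1 0 x0) (sp 4 false (rc 4 1 0 x0) (sp 4 false
  (rc 4 1 0 x0) (sp 4 false (rc 4 1 0 x0) (sp 5 true (rc 4 1 0 x0) (sp 4 false (rc 4 1 0 x0) (sp 4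
  false (rc 4 1 0 x0) (sp 4 false (rc 4 1 0 x0) (sp 4 false (rc 4 1 0 x0) (sp 5 true (rc 4 1 0 x0)
  (cl (-1) 0 0)))))))))))))))))))))))))))))))

def k11 : Ct :=
  (sp 5 true (rc 4 1 0 x0) (sp 4 false (rc 4 1 0 x0) (sp 4 false (rc 4 1 0 x0) (sp 4 false (rc 4 1
  0 x0) (sp 4 false (rc 4 1 0 x0) (sp 5 true (rc 4 1 0 x0) (sp 4 false (rc 4 1 0 x0) (sp 4 false
  (rc 4 1 0 x0) (sp 4 false (rc 4 1 0 x0) (sp 4 false (rc 4 1 0 x0) (sp 5 true (rc 4 1 0 x0) (sp 4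
  false (rc 4 1 0 x0) (sp 4 false (rc 4 1 0 x0) (sp 4 false (rc 4 1 0 x0) (sp 4 false (rc 4 1 0
  x0) (sp 5 true (rc 4 1 0 x0) (sp 4 false (rc 4 1 0 x0) (sp 4 false (rc 4 1 0 x0) (sp 4 false (rc
  4 1 0 x0) (sp 4 false (rc 4 1 0 x0) (sp 5 true (rc 4 1 0 x0) (sp 4 false (rc 4 1 0 x0) (sp 4
  false (rc 4 1 0 x0) (sp 4 false (rc 4 1 0 x0) (sp 4 false (rc 4 1 0 x0) (sp 5 true (rc 4 1 0 x0)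
  (sp 4 false (rc 4 1 0 x0) (sp 4 false (rc 4 1 0 x0) (sp 4 false (rc 4 1 0 x0) (sp 4 false (rc 4
  1 0 x0) (sp 5 true (rc 4 1 0 x0) k10)))))))))))))))))))))))))))))))

def k12 : Ct :=
  (sp 4 false (rc 4 1 0 x0) (sp 5 true (rc 4 1 0 x0) (sp 4 false (rc 4 1 0 x0) (sp 4 false (rc 4 1
  0 x0) (sp 4 false (rc 4 1 0 x0) (sp 4 false (rc 4 1 0 x0) (sp 5 true (rc 4 1 0 x0) (sp 4 false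
  (rc 4 1 0 x0) (sp 4 false (rc 4 1 0 x0) (sp 4 false (rc 4 1 0 x0) (sp 4 false (rc 4 1 0 x0) (sp
  5 true (rc 4 1 0 x0) (sp 4 false (rc 4 1 0 x0) (sp 4 false (rc 4 1 0 x0) (sp 4 false (rc 4 1 0
  x0) (sp 4 false (rc 4 1 0 x0) (sp 5 true (rc 4 1 0 x0) (sp 4 false (rc 4 1 0 x0) (sp 4 false (rc
  4 1 0 x0) (sp 4 false (rc 4 1 0 x0) (sp 4 false (rc 4 1 0 x0) (sp 5 true (rc 4 1 0 x0) (sp 4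
  false (rc 4 1 0 x0) (sp 4 false (rc 4 1 0 x0) (sp 4 false (rc 4 1 0 x0) (sp 4 false (rc 4 1 0
  x0) (sp 5 true (rc 4 1 0 x0) (sp 4 false (rc 4 1 0 x0) (sp 4 false (rc 4 1 0 x0) (sp 4 false (rc
  4 1 0 x0) (sp 4 false (rc 4 1 0 x0) k11)))))))))))))))))))))))))))))))

def k13 : Ct :=
  (sp 4 false (rc 4 1 0 x0) (sp 4 false (rc 4 1 0 x0) (sp 5 true (rc 4 1 0 x0) (sp 4 false (rc 4 1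
  0 x0) (sp 4 false (rc 4 1 0 x0) (sp 4 false (rc 4 1 0 x0) (sp 4 false (rc 4 1 0 x0) (sp 5 true
  (rc 4 1 0 x0) (sp 4 false (rc 4 1 0 x0) (sp 4 false (rc 4 1 0 x0) (sp 4 false (rc 4 1 0 x0) (sp
  4 false (rc 4 1 0 x0) (sp 5 true (rc 4 1 0 x0) (sp 4 false (rc 4 1 0 x0) (sp 4 false (rc 4 1 0
  x0) (sp 4 false (rc 4 1 0 x0) (sp 4 false (rc 4 1 0 x0) (sp 5 true (rc 4 1 0 x0) (sp 4 false (rc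
  4 1 0 x0) (sp 4 false (rc 4 1 0 x0) (sp 4 false (rc 4 1 0 x0) (sp 4 false (rc 4 1 0 x0) (sp 5
  true (rc 4 1 0 x0) (sp 4 false (rc 4 1 0 x0) (sp 4 false (rc 4 1 0 x0) (sp 4 false (rc 4 1 0 x0)
  (sp 4 false (rc 4 1 0 x0) (sp 5 true (rc 4 1 0 x0) (sp 4 false (rc 4 1 0 x0) (sp 4 false (rc 4 1
  0 x0) (sp 4 false (rc 4 1 0 x0) k12)))))))))))))))))))))))))))))))

def k14 : Ct :=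
  (sp 4 false (rc 4 1 0 x0) (sp 4 false (rc 4 1 0 x0) (sp 4 false (rc 4 1 0 x0) (sp 5 true (rc 4 1
  0 x0) (sp 4 false (rc 4 1 0 x0) (sp 4 false (rc 4 1 0 x0) (sp 4 false (rc 4 1 0 x0) (sp 4 false
  (rc 4 1 0 x0) (sp 5 true (rc 4 1 0 x0) (sp 4 false (rc 4 1 0 x0) (sp 4 false (rc 4 1 0 x0) (sp 4
  false (rc 4 1 0 x0) (sp 4 false (rc 4 1 0 x0) (sp 5 true (rc 4 1 0 x0) (sp 4 false (rc 4 1 0 x0)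
  (sp 4 false (rc 4 1 0 x0) (sp 4 false (rc 4 1 0 x0) (sp 4 false (rc 4 1 0 x0) (sp 5 true (rc 4 1
  0 x0) (sp 4 false (rc 4 1 0 x0) (sp 4 false (rc 4 1 0 x0) (sp 4 false (rc 4 1 0 x0) (sp 4 false
  (rc 4 1 0 x0) (sp 5 true (rc 4 1 0 x0) (sp 4 false (rc 4 1 0 x0) (sp 4 false (rc 4 1 0 x0) (sp 4
  false (rc 4 1 0 x0) (sp 4 false (rc 4 1 0 x0) (sp 5 true (rc 4 1 0 x0) (sp 4 false (rc 4 1 0 x0)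
  (sp 4 false (rc 4 1 0 x0) k13)))))))))))))))))))))))))))))))

def k15 : Ct :=
  (sp 4 false (rc 4 1 0 x0) (sp 4 false (rc 4 1 0 x0) (sp 4 false (rc 4 1 0 x0) (sp 4 false (rc 4
  1 0 x0) (sp 5 true (rc 4 1 0 x0) (sp 4 false (rc 4 1 0 x0) (sp 4 false (rc 4 1 0 x0) (sp 4 false
  (rc 4 1 0 x0) (sp 4 false (rc 4 1 0 x0) (sp 5 true (rc 4 1 0 x0) (sp 4 false (rc 4 1 0 x0) (sp 4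
  false (rc 4 1 0 x0) (sp 4 false (rc 4 1 0 x0) (sp 4 false (rc 4 1 0 x0) (sp 5 true (rc 4 1 0 x0)
  (sp 4 false (rc 4 1 0 x0) (sp 4 false (rc 4 1 0 x0) (sp 4 false (rc 4 1 0 x0) (sp 4 false (rc 4
  1 0 x0) (sp 5 true (rc 4 1 0 x0) (sp 4 false (rc 4 1 0 x0) (sp 4 false (rc 4 1 0 x0) (sp 4 false
  (rc 4 1 0 x0) (sp 4 false (rc 4 1 0 x0) (sp 5 true (rc 4 1 0 x0) (sp 4 false (rc 4 1 0 x0) (sp 4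
  false (rc 4 1 0 x0) (sp 4 false (rc 4 1 0 x0) (sp 4 false (rc 4 1 0 x0) (sp 5 true (rc 4 1 0 x0)
  (sp 4 false (rc 4 1 0 x0) k14)))))))))))))))))))))))))))))))

def k16 : Ct :=
  (sp 5 true (rc 4 1 0 x0) (sp 4 false (rc 4 1 0 x0) (sp 4 false (rc 4 1 0 x0) (sp 4 false (rc 4 1
  0 x0) (sp 4 false (rc 4 1 0 x0) (sp 5 true (rc 4 1 0 x0) (sp 4 false (rc 4 1 0 x0) (sp 4 false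
  (rc 4 1 0 x0) (sp 4 false (rc 4 1 0 x0) (sp 4 false (rc 4 1 0 x0) (sp 5 true (rc 4 1 0 x0) (sp 4
  false (rc 4 1 0 x0) (sp 4 false (rc 4 1 0 x0) (sp 4 false (rc 4 1 0 x0) (sp 4 false (rc 4 1 0
  x0) (sp 5 true (rc 4 1 0 x0) (sp 4 false (rc 4 1 0 x0) (sp 4 false (rc 4 1 0 x0) (sp 4 false (rc
  4 1 0 x0) (sp 4 false (rc 4 1 0 x0) (sp 5 true (rc 4 1 0 x0) (sp 4 false (rc 4 1 0 x0) (sp 4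
  false (rc 4 1 0 x0) (sp 4 false (rc 4 1 0 x0) (sp 4 false (rc 4 1 0 x0) (sp 5 true (rc 4 1 0 x0)
  (sp 4 false (rc 4 1 0 x0) (sp 4 false (rc 4 1 0 x0) (sp 4 false (rc 4 1 0 x0) (sp 4 false (rc 4
  1 0 x0) (sp 5 true (rc 4 1 0 x0) k15)))))))))))))))))))))))))))))))

def k17 : Ct :=
  (sp 4 false (rc 4 1 0 x0) (sp 5 true (rc 4 1 0 x0) (sp 4 false (rc 4 1 0 x0) (sp 4 false (rc 4 1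
  0 x0) (sp 4 false (rc 4 1 0 x0) (sp 4 false (rc 4 1 0 x0) (sp 5 true (rc 4 1 0 x0) (sp 4 false
  (rc 4 1 0 x0) (sp 4 false (rc 4 1 0 x0) (sp 4 false (rc 4 1 0 x0) (sp 4 false (rc 4 1 0 x0) (sp
  5 true (rc 4 1 0 x0) (sp 4 false (rc 4 1 0 x0) (sp 4 false (rc 4 1 0 x0) (sp 4 false (rc 4 1 0
  x0) (sp 4 false (rc 4 1 0 x0) (sp 5 true (rc 4 1 0 x0) (sp 4 false (rc 4 1 0 x0) (sp 4 false (rc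
  4 1 0 x0) (sp 4 false (rc 4 1 0 x0) (sp 4 false (rc 4 1 0 x0) (sp 5 true (rc 4 1 0 x0) (sp 4
  false (rc 4 1 0 x0) (sp 4 false (rc 4 1 0 x0) (sp 4 false (rc 4 1 0 x0) (sp 4 false (rc 4 1 0
  x0) (sp 5 true (rc 4 1 0 x0) (sp 4 false (rc 4 1 0 x0) (sp 4 false (rc 4 1 0 x0) (sp 4 false (rc
  4 1 0 x0) (sp 4 false (rc 4 1 0 x0) k16)))))))))))))))))))))))))))))))

def k18 : Ct :=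
  (sp 4 false (rc 4 1 0 x0) (sp 5 true (rc 4 1 0 x0) (sp 4 false (rc 4 1 0 x0) (sp 4 false (rc 4 1
  0 x0) (sp 4 false (rc 4 1 0 x0) (sp 4 false (rc 4 1 0 x0) (sp 5 true (rc 4 1 0 x0) (sp 4 false
  (rc 4 1 0 x0) (sp 4 false (rc 4 1 0 x0) (sp 4 false (rc 4 1 0 x0) (sp 4 false (rc 4 1 0 x0) (sp
  5 true (rc 4 1 0 x0) (sp 4 false (ln 4 1 0 0 (cl 1 0 0)) (sp 4 false (rc 4 1 0 x0) (sp 4 false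
  (rc 4 1 0 x0) (sp 4 false (rc 4 1 0 x0) (sp 5 true (rc 4 1 0 x0) (sp 4 false (rc 4 1 0 x0) (sp 4
  false (rc 4 1 0 x0) (sp 4 false (rc 4 1 0 x0) (sp 4 false (rc 4 1 0 x0) (sp 5 true (rc 4 1 0 x0)
  (sp 4 false (rc 4 1 0 x0) (sp 4 false (rc 4 1 0 x0) (sp 4 false (rc 4 1 0 x0) (sp 4 false (rc 4
  1 0 x0) (sp 5 true (rc 4 1 0 x0) (sp 4 false (rc 4 1 0 x0) (sp 4 false (rc 4 1 0 x0) (sp 4 false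
  (rc 4 1 0 x0) k17))))))))))))))))))))))))))))))

def k19 : Ct :=
  (sp 4 false (rc 4 1 0 x0) (sp 4 false (rc 4 1 0 x0) (sp 5 true (rc 4 1 0 x0) (sp 4 false (rc 4 1
  0 x0) (sp 4 false (rc 4 1 0 x0) (sp 4 false (rc 4 1 0 x0) (sp 4 false (rc 4 1 0 x0) (sp 5 true
  (rc 4 1 0 x0) (sp 4 false (rc 4 1 0 x0) (sp 4 false (rc 4 1 0 x0) (sp 4 false (rc 4 1 0 x0) (sp
  4 false (rc 4 1 0 x0) (sp 5 true (rc 4 1 0 x0) (sp 4 false (rc 4 1 0 x0) (sp 4 false (rc 4 1 0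
  x0) (sp 4 false (rc 4 1 0 x0) (sp 4 false (rc 4 1 0 x0) (sp 5 true (rc 4 1 0 x0) (sp 4 false (rc
  4 1 0 x0) (sp 4 false (rc 4 1 0 x0) (sp 4 false (rc 4 1 0 x0) (sp 4 false (rc 4 1 0 x0) (sp 5
  true (rc 4 1 0 x0) (sp 4 false (rc 4 1 0 x0) (sp 4 false (rc 4 1 0 x0) (sp 4 false (rc 4 1 0 x0)
  (sp 4 false (rc 4 1 0 x0) (sp 5 true (rc 4 1 0 x0) (sp 4 false (rc 4 1 0 x0) (sp 4 false (rc 4 1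
  0 x0) (sp 4 false (rc 4 1 0 x0) k18)))))))))))))))))))))))))))))))

def k20 : Ct :=
  (sp 4 false (rc 4 1 0 x0) (sp 4 false (rc 4 1 0 x0) (sp 4 false (rc 4 1 0 x0) (sp 5 true (rc 4 1
  0 x0) (sp 4 false (rc 4 1 0 x0) (sp 4 false (rc 4 1 0 x0) (sp 4 false (rc 4 1 0 x0) (sp 4 false
  (rc 4 1 0 x0) (sp 5 true (rc 4 1 0 x0) (sp 4 false (rc 4 1 0 x0) (sp 4 false (rc 4 1 0 x0) (sp 4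
  false (rc 4 1 0 x0) (sp 4 false (rc 4 1 0 x0) (sp 5 true (rc 4 1 0 x0) (sp 4 false (rc 4 1 0 x0)
  (sp 4 false (rc 4 1 0 x0) (sp 4 false (rc 4 1 0 x0) (sp 4 false (rc 4 1 0 x0) (sp 5 true (rc 4 1
  0 x0) (sp 4 false (rc 4 1 0 x0) (sp 4 false (rc 4 1 0 x0) (sp 4 false (rc 4 1 0 x0) (sp 4 false
  (rc 4 1 0 x0) (sp 5 true (rc 4 1 0 x0) (sp 4 false (rc 4 1 0 x0) (sp 4 false (rc 4 1 0 x0) (sp 4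
  false (rc 4 1 0 x0) (sp 4 false (rc 4 1 0 x0) (sp 5 true (rc 4 1 0 x0) (sp 4 false (rc 4 1 0 x0)
  (sp 4 false (rc 4 1 0 x0) k19)))))))))))))))))))))))))))))))

def k21 : Ct :=
  (sp 4 false (cl 1 0 0) (sp 4 false (cl 1 0 0) (sp 4 false (cl 1 0 0) (sp 4 false (cl 1 0 0) (sp
  5 true (ln 4 1 0 0 x0) (sp 4 false (cl 1 0 0) (sp 4 false (cl 1 0 0) (sp 4 false (cl 1 0 0) (sp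
  4 false (cl 1 0 0) (sp 5 true (ln 4 1 0 0 x0) (sp 4 false (cl 1 0 0) (sp 4 false (rc 4 1 0 x0)
  (sp 4 false (rc 4 1 0 x0) (sp 4 false (rc 4 1 0 x0) (sp 5 true (ln 4 1 0 0 x0) (sp 4 false (rc 4
  1 0 x0) (sp 4 false (rc 4 1 0 x0) (sp 4 false (rc 4 1 0 x0) (sp 4 false (rc 4 1 0 x0) (sp 5 true
  (ln 4 1 0 0 x0) (sp 4 false (rc 4 1 0 x0) (sp 4 false (rc 4 1 0 x0) (sp 4 false (rc 4 1 0 x0)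
  (sp 4 false (rc 4 1 0 x0) (sp 5 true (ln 4 1 0 0 x0) (sp 4 false (rc 4 1 0 x0) (sp 4 false (rc 4
  1 0 x0) (sp 4 false (rc 4 1 0 x0) (sp 4 false (rc 4 1 0 x0) (sp 5 true (rc 4 1 0 x0) (sp 4 false
  (rc 4 1 0 x0) k20)))))))))))))))))))))))))))))))

def k22 : Ct :=
  (sp 5 false (cl (-1) 0 0) (sp 4 true (ln 4 0 1 0 x0) (sp 5 false (cl (-1) 0 0) (sp 5 false (rc 4
  1 0 x0) (sp 5 false (rc 4 1 0 x0) (sp 5 false (rc 4 1 0 x0) (sp 5 false (rc 4 1 0 x0) (sp 4 true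
  (ln 4 0 1 0 x0) (sp 5 false (rc 4 1 0 x0) (sp 5 false (rc 4 1 0 x0) (sp 5 false (rc 4 1 0 x0)
  (sp 5 false (rc 4 1 0 x0) (sp 4 true (ln 4 0 1 0 x0) (sp 5 false (rc 4 1 0 x0) (sp 5 false (rc 4
  1 0 x0) (sp 5 false (rc 4 1 0 x0) (sp 5 false (rc 4 1 0 x0) (sp 4 true (rc 4 1 0 x0) (sp 5 false
  (rc 4 1 0 x0) (sp 5 false (rc 4 1 0 x0) (sp 5 false (rc 4 1 0 x0) (sp 5 false (rc 4 1 0 x0) (sp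
  4 true (ln 4 0 1 0 x0) (sp 5 false (rc 4 1 0 x0) (sp 5 false (rc 4 1 0 x0) (sp 5 false (rc 4 1 0
  x0) (sp 5 false (rc 4 1 0 x0) (sp 5 false (rc 4 1 0 x0) (sp 4 true (rc 4 1 0 x0) (sp 5 false (rc
  4 1 0 x0) (cl 1 0 0)))))))))))))))))))))))))))))))

def k23 : Ct :=
  (sp 4 true (rc 4 1 0 x0) (sp 4 true (rc 4 1 0 x0) (sp 4 true (rc 4 1 0 x0) (sp 5 false (rc 4 1 0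
  x0) (sp 4 true (rc 4 1 0 x0) (sp 4 true (rc 4 1 0 x0) (sp 4 true (rc 4 1 0 x0) (sp 4 true (rc 4
  1 0 x0) (sp 5 false (rc 4 1 0 x0) (sp 4 true (rc 4 1 0 x0) (sp 4 true (rc 4 1 0 x0) (sp 4 true
  (rc 4 1 0 x0) (sp 4 true (rc 4 1 0 x0) (sp 5 false (rc 4 1 0 x0) (sp 4 true (rc 4 1 0 x0) (sp 4
  true (rc 4 1 0 x0) (sp 4 true (rc 4 1 0 x0) (sp 4 true (rc 4 1 0 x0) (sp 5 false (rc 4 1 0 x0)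
  (sp 4 true (rc 4 1 0 x0) (sp 4 true (rc 4 1 0 x0) (sp 4 true (rc 4 1 0 x0) (sp 4 true (rc 4 1 0
  x0) (sp 5 false (rc 4 1 0 x0) (sp 4 true (rc 4 1 0 x0) (sp 4 true (rc 4 1 0 x0) (sp 4 true (rc 4
  1 0 x0) (sp 4 true (rc 4 1 0 x0) (sp 5 false (rc 4 1 0 x0) (sp 4 true (rc 4 1 0 x0) (cl 1 0
  0)))))))))))))))))))))))))))))))

def k24 : Ct :=
  (sp 5 false (ln 4 0 1 0 (sp 4 true (rc 4 1 0 x0) (sp 5 false (rc 4 1 0 x0) (sp 4 true (rc 4 1 0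
  x0) (sp 4 true (rc 4 1 0 x0) (sp 4 true (rc 4 1 0 x0) (sp 4 true (rc 4 1 0 x0) (sp 5 false (rc 4
  1 0 x0) (sp 4 true (rc 4 1 0 x0) (cl 1 0 0)))))))))) (sp 6 true (ln 6 1 0 0 (sp 4 true (ln 4 0 1
  0 x0) (sp 5 false (rc 4 1 0 x0) (sp 5 false (rc 4 1 0 x0) (sp 5 false (rc 4 1 0 x0) (sp 5 false
  (rc 4 1 0 x0) (sp 5 false (rc 4 1 0 x0) (cl 1 0 0)))))))) (sp 7 false (ln 6 1 0 0 (cl 1 0 0))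
  (sp 4 true (ln 4 0 1 0 x0) (sp 5 false (ln 4 0 1 0 (sp 4 true (rc 4 1 0 x0) (sp 4 true (rc 4 1 0
  x0) (sp 4 true (rc 4 1 0 x0) (sp 4 true (rc 4 1 0 x0) (cl 1 0 0)))))) (sp 6 true (ln 6 1 0 0 (sp
  5 false (rc 4 1 0 x0) (sp 5 false (rc 4 1 0 x0) (cl 1 0 0)))) (sp 5 false (ln 4 0 1 0 (sp 4 true
  (rc 4 1 0 x0) (cl 1 0 0))) (sp 6 true (ln 6 1 0 0 (cl 1 0 0)) (sp 5 false (ln 4 0 1 0 (cl 1 0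
  0)) (sp 6 true (ln 6 1 0 0 (cl 1 0 0)) (cl 1 0 0)))))))))))

def k25 : Ct :=
  (sp 6 true (ln 6 1 0 0 (sp 5 false (cl (-1) 0 0) (sp 5 false (rc 4 1 0 x0) (sp 4 true (ln 4 0 1
  0 x0) (sp 5 false (rc 4 1 0 x0) (sp 5 false (rc 4 1 0 x0) (sp 5 false (rc 4 1 0 x0) (sp 5 false
  (rc 4 1 0 x0) (sp 5 false (rc 4 1 0 x0) (sp 4 true (ln 4 0 1 0 x0) (sp 5 false (rc 4 1 0 x0) (sp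
  5 false (rc 4 1 0 x0) (sp 5 false (rc 4 1 0 x0) (sp 5 false (rc 4 1 0 x0) (sp 4 true (ln 4 0 1 0
  x0) (sp 5 false (rc 4 1 0 x0) (sp 5 false (rc 4 1 0 x0) (cl 1 0 0)))))))))))))))))) (sp 5 false
  (ln 4 0 1 0 (sp 4 true (rc 4 1 0 x0) (sp 4 true (rc 4 1 0 x0) (sp 5 false (rc 4 1 0 x0) (sp 4
  true (rc 4 1 0 x0) (sp 4 true (rc 4 1 0 x0) (sp 4 true (rc 4 1 0 x0) (sp 4 true (rc 4 1 0 x0)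
  (sp 5 false (rc 4 1 0 x0) (sp 4 true (rc 4 1 0 x0) (sp 4 true (rc 4 1 0 x0) (sp 4 true (rc 4 1 0
  x0) (sp 4 true (rc 4 1 0 x0) (cl 1 0 0)))))))))))))) (sp 6 true (ln 6 1 0 0 (sp 5 false (rc 4 1
  0 x0) (sp 4 true (ln 4 0 1 0 x0) (sp 5 false (rc 4 1 0 x0) (sp 5 false (rc 4 1 0 x0) (sp 5 false
  (rc 4 1 0 x0) (sp 5 false (rc 4 1 0 x0) (sp 5 false (rc 4 1 0 x0) (sp 4 true (ln 4 0 1 0 x0) (sp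
  5 false (rc 4 1 0 x0) (sp 5 false (rc 4 1 0 x0) (cl 1 0 0)))))))))))) k24)))

def k26 : Ct :=
  (sp 5 false (ln 4 0 1 0 (sp 4 true (cl (-1) 0 0) (sp 4 true (cl (-1) 0 0) (sp 4 true (cl (-1) 0
  0) (sp 5 false (rc 4 1 0 x0) (sp 4 true (cl (-1) 0 0) (sp 4 true (cl (-1) 0 0) (sp 4 true (rc 4
  1 0 x0) (sp 4 true (rc 4 1 0 x0) (sp 5 false (rc 4 1 0 x0) (sp 4 true (rc 4 1 0 x0) (sp 4 true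
  (rc 4 1 0 x0) (sp 4 true (rc 4 1 0 x0) (sp 4 true (rc 4 1 0 x0) (sp 5 false (rc 4 1 0 x0) (sp 4
  true (rc 4 1 0 x0) k23)))))))))))))))) (sp 5 false (ln 4 0 1 0 (sp 4 true (cl (-1) 0 0) (sp 4
  true (cl (-1) 0 0) (sp 4 true (rc 4 1 0 x0) (sp 5 false (rc 4 1 0 x0) (sp 4 true (rc 4 1 0 x0)
  (sp 4 true (rc 4 1 0 x0) (sp 4 true (rc 4 1 0 x0) (sp 4 true (rc 4 1 0 x0) (sp 5 false (rc 4 1 0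
  x0) (sp 4 true (rc 4 1 0 x0) (sp 4 true (rc 4 1 0 x0) (sp 4 true (rc 4 1 0 x0) (sp 4 true (rc 4
  1 0 x0) (sp 5 false (rc 4 1 0 x0) (sp 4 true (rc 4 1 0 x0) (sp 4 true (rc 4 1 0 x0) (sp 4 true
  (rc 4 1 0 x0) (sp 4 true (rc 4 1 0 x0) (sp 5 false (rc 4 1 0 x0) (sp 4 true (rc 4 1 0 x0) (sp 4
  true (rc 4 1 0 x0) (cl 1 0 0))))))))))))))))))))))) k25))

def k27 : Ct :=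
  (sp 5 false (ln 4 0 1 0 (sp 4 false (cl 1 0 0) (sp 4 false (cl 1 0 0) (sp 4 false (cl 1 0 0) (sp
  4 false (cl 1 0 0) (sp 4 false (cl 1 0 0) (sp 5 true (ln 4 1 0 0 x0) (sp 4 false (cl 1 0 0) (sp
  4 false (cl 1 0 0) (sp 4 false (cl 1 0 0) (sp 4 false (rc 4 1 0 x0) (sp 5 true (ln 4 1 0 0 x0)
  (sp 4 false (rc 4 1 0 x0) (sp 4 false (rc 4 1 0 x0) (sp 4 false (rc 4 1 0 x0) (sp 4 false (rc 4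
  1 0 x0) (sp 5 true (ln 4 1 0 0 x0) (sp 4 false (rc 4 1 0 x0) (sp 4 false (rc 4 1 0 x0) (sp 4
  false (rc 4 1 0 x0) (sp 4 false (rc 4 1 0 x0) (sp 5 true (ln 4 1 0 0 x0) (sp 4 false (rc 4 1 0
  x0) (sp 4 false (rc 4 1 0 x0) (sp 4 false (rc 4 1 0 x0) (sp 4 false (rc 4 1 0 x0) (sp 5 true (ln
  4 1 0 0 x0) (sp 4 false (rc 4 1 0 x0) (cl (-1) 0 0))))))))))))))))))))))))))))) (sp 6 true (ln 6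
  1 0 0 (sp 5 false (cl (-1) 0 0) (sp 4 true (ln 4 0 1 0 x0) k9))) (sp 5 false (ln 4 0 1 0 (sp 4
  false (cl 1 0 0) (sp 4 false (cl 1 0 0) (sp 4 false (cl 1 0 0) (sp 4 false (cl 1 0 0) (sp 4
  false (cl 1 0 0) (sp 5 true (ln 4 1 0 0 x0) k21))))))) (sp 7 false (ln 6 1 0 0 (cl 1 0 0)) (sp 4
  true (ln 4 0 1 0 x0) (sp 6 true (ln 6 1 0 0 (sp 5 false (cl (-1) 0 0) (sp 5 false (cl (-1) 0 0)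
  (sp 5 false (cl (-1) 0 0) k22)))) k26))))))

def k28 : Ct :=
  (sp 6 true (ln 6 1 0 0 (sp 5 true (cl 1 0 0) (sp 5 true (cl 1 0 0) (sp 5 true (cl 1 0 0) (sp 5
  true (cl 1 0 0) (sp 4 false (ln 4 0 1 0 x0) (sp 5 true (rc 4 1 0 x0) (sp 5 true (rc 4 1 0 x0)
  (sp 5 true (rc 4 1 0 x0) (sp 5 true (rc 4 1 0 x0) (sp 5 true (rc 4 1 0 x0) (sp 4 false (ln 4 0 1
  0 x0) (cl (-1) 0 0))))))))))))) (sp 5 false (ln 4 0 1 0 (sp 4 false (cl 1 0 0) (sp 4 false (cl 1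
  0 0) (sp 4 false (cl 1 0 0) (sp 4 false (cl 1 0 0) (sp 4 false (rc 4 1 0 x0) (sp 5 true (ln 4 1
  0 0 x0) (sp 4 false (rc 4 1 0 x0) (sp 4 false (rc 4 1 0 x0) (sp 4 false (rc 4 1 0 x0) (sp 4
  false (rc 4 1 0 x0) (cl (-1) 0 0)))))))))))) (sp 6 true (ln 6 1 0 0 (sp 5 true (cl 1 0 0) (sp 5
  true (cl 1 0 0) (sp 5 true (cl 1 0 0) (sp 5 true (cl 1 0 0) (sp 4 false (ln 4 0 1 0 x0) (sp 5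
  true (cl 1 0 0) k2))))))) k27)))

def k29 : Ct :=
  (sp 4 true (rc 4 1 0 x0) (sp 4 true (rc 4 1 0 x0) (sp 5 false (rc 4 1 0 x0) (sp 4 true (rc 4 1 0
  x0) (sp 4 true (rc 4 1 0 x0) (sp 4 true (rc 4 1 0 x0) (sp 4 true (rc 4 1 0 x0) (sp 5 false (rc 4
  1 0 x0) (sp 4 true (rc 4 1 0 x0) (sp 4 true (rc 4 1 0 x0) (sp 4 true (rc 4 1 0 x0) (sp 4 true
  (rc 4 1 0 x0) (sp 5 false (rc 4 1 0 x0) (sp 4 true (rc 4 1 0 x0) (sp 4 true (rc 4 1 0 x0) (sp 4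
  true (rc 4 1 0 x0) (sp 4 true (rc 4 1 0 x0) (sp 5 false (rc 4 1 0 x0) (sp 4 true (rc 4 1 0 x0)
  (sp 4 true (rc 4 1 0 x0) (sp 4 true (rc 4 1 0 x0) (sp 4 true (rc 4 1 0 x0) (sp 5 false (rc 4 1 0
  x0) (sp 4 true (rc 4 1 0 x0) (sp 4 true (rc 4 1 0 x0) (sp 4 true (rc 4 1 0 x0) (sp 4 true (rc 4
  1 0 x0) (sp 5 false (rc 4 1 0 x0) (sp 4 true (rc 4 1 0 x0) (sp 4 true (rc 4 1 0 x0) (cl (-1) 0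
  0)))))))))))))))))))))))))))))))

def k30 : Ct :=
  (sp 4 true (rc 4 1 0 x0) (sp 4 true (rc 4 1 0 x0) (sp 4 true (rc 4 1 0 x0) (sp 5 false (rc 4 1 0
  x0) (sp 4 true (rc 4 1 0 x0) (sp 4 true (rc 4 1 0 x0) (sp 4 true (rc 4 1 0 x0) (sp 4 true (rc 4
  1 0 x0) (sp 5 false (rc 4 1 0 x0) (sp 4 true (rc 4 1 0 x0) (sp 4 true (rc 4 1 0 x0) (sp 4 true
  (rc 4 1 0 x0) (sp 4 true (rc 4 1 0 x0) (sp 5 false (rc 4 1 0 x0) (sp 4 true (rc 4 1 0 x0) (sp 4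
  true (rc 4 1 0 x0) (sp 4 true (rc 4 1 0 x0) (sp 4 true (rc 4 1 0 x0) (sp 5 false (rc 4 1 0 x0)
  (sp 4 true (rc 4 1 0 x0) (sp 4 true (rc 4 1 0 x0) (sp 4 true (rc 4 1 0 x0) (sp 4 true (rc 4 1 0
  x0) (sp 5 false (rc 4 1 0 x0) (sp 4 true (rc 4 1 0 x0) (sp 4 true (rc 4 1 0 x0) (sp 4 true (rc 4
  1 0 x0) (sp 4 true (rc 4 1 0 x0) (sp 5 false (rc 4 1 0 x0) (sp 4 true (rc 4 1 0 x0) (sp 4 true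
  (rc 4 1 0 x0) k29)))))))))))))))))))))))))))))))

def k31 : Ct :=
  (sp 4 true (rc 4 1 0 x0) (sp 4 true (rc 4 1 0 x0) (sp 4 true (rc 4 1 0 x0) (sp 4 true (rc 4 1 0
  x0) (sp 5 false (rc 4 1 0 x0) (sp 4 true (rc 4 1 0 x0) (sp 4 true (rc 4 1 0 x0) (sp 4 true (rc 4
  1 0 x0) (sp 4 true (rc 4 1 0 x0) (sp 5 false (rc 4 1 0 x0) (sp 4 true (rc 4 1 0 x0) (sp 4 true
  (rc 4 1 0 x0) (sp 4 true (rc 4 1 0 x0) (sp 4 true (rc 4 1 0 x0) (sp 5 false (rc 4 1 0 x0) (sp 4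
  true (rc 4 1 0 x0) (sp 4 true (rc 4 1 0 x0) (sp 4 true (rc 4 1 0 x0) (sp 4 true (rc 4 1 0 x0)
  (sp 5 false (rc 4 1 0 x0) (sp 4 true (rc 4 1 0 x0) (sp 4 true (rc 4 1 0 x0) (sp 4 true (rc 4 1 0
  x0) (sp 4 true (rc 4 1 0 x0) (sp 5 false (rc 4 1 0 x0) (sp 4 true (rc 4 1 0 x0) (sp 4 true (rc 4
  1 0 x0) (sp 4 true (rc 4 1 0 x0) (sp 4 true (rc 4 1 0 x0) (sp 5 false (rc 4 1 0 x0) (sp 4 true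
  (rc 4 1 0 x0) k30)))))))))))))))))))))))))))))))

def k32 : Ct :=
  (sp 5 false (rc 4 1 0 x0) (sp 4 true (rc 4 1 0 x0) (sp 4 true (rc 4 1 0 x0) (sp 4 true (rc 4 1 0
  x0) (sp 4 true (rc 4 1 0 x0) (sp 5 false (rc 4 1 0 x0) (sp 4 true (rc 4 1 0 x0) (sp 4 true (rc 4
  1 0 x0) (sp 4 true (rc 4 1 0 x0) (sp 4 true (rc 4 1 0 x0) (sp 5 false (rc 4 1 0 x0) (sp 4 true
  (rc 4 1 0 x0) (sp 4 true (rc 4 1 0 x0) (sp 4 true (rc 4 1 0 x0) (sp 4 true (rc 4 1 0 x0) (sp 5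
  false (rc 4 1 0 x0) (sp 4 true (rc 4 1 0 x0) (sp 4 true (rc 4 1 0 x0) (sp 4 true (rc 4 1 0 x0)
  (sp 4 true (rc 4 1 0 x0) (sp 5 false (rc 4 1 0 x0) (sp 4 true (rc 4 1 0 x0) (sp 4 true (rc 4 1 0
  x0) (sp 4 true (rc 4 1 0 x0) (sp 4 true (rc 4 1 0 x0) (sp 5 false (rc 4 1 0 x0) (sp 4 true (rc 4
  1 0 x0) (sp 4 true (rc 4 1 0 x0) (sp 4 true (rc 4 1 0 x0) (sp 4 true (rc 4 1 0 x0) (sp 5 false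
  (rc 4 1 0 x0) k31)))))))))))))))))))))))))))))))

def k33 : Ct :=
  (sp 4 true (rc 4 1 0 x0) (sp 5 false (rc 4 1 0 x0) (sp 4 true (rc 4 1 0 x0) (sp 4 true (rc 4 1 0
  x0) (sp 4 true (rc 4 1 0 x0) (sp 4 true (rc 4 1 0 x0) (sp 5 false (rc 4 1 0 x0) (sp 4 true (rc 4
  1 0 x0) (sp 4 true (rc 4 1 0 x0) (sp 4 true (rc 4 1 0 x0) (sp 4 true (rc 4 1 0 x0) (sp 5 false
  (rc 4 1 0 x0) (sp 4 true (rc 4 1 0 x0) (sp 4 true (rc 4 1 0 x0) (sp 4 true (rc 4 1 0 x0) (sp 4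
  true (rc 4 1 0 x0) (sp 5 false (rc 4 1 0 x0) (sp 4 true (rc 4 1 0 x0) (sp 4 true (rc 4 1 0 x0)
  (sp 4 true (rc 4 1 0 x0) (sp 4 true (rc 4 1 0 x0) (sp 5 false (rc 4 1 0 x0) (sp 4 true (rc 4 1 0
  x0) (sp 4 true (rc 4 1 0 x0) (sp 4 true (rc 4 1 0 x0) (sp 4 true (rc 4 1 0 x0) (sp 5 false (rc 4
  1 0 x0) (sp 4 true (rc 4 1 0 x0) (sp 4 true (rc 4 1 0 x0) (sp 4 true (rc 4 1 0 x0) (sp 4 true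
  (rc 4 1 0 x0) k32)))))))))))))))))))))))))))))))

def k34 : Ct :=
  (sp 4 true (rc 4 1 0 x0) (sp 4 true (rc 4 1 0 x0) (sp 5 false (rc 4 1 0 x0) (sp 4 true (rc 4 1 0
  x0) (sp 4 true (rc 4 1 0 x0) (sp 4 true (rc 4 1 0 x0) (sp 4 true (rc 4 1 0 x0) (sp 5 false (rc 4
  1 0 x0) (sp 4 true (rc 4 1 0 x0) (sp 4 true (rc 4 1 0 x0) (sp 4 true (rc 4 1 0 x0) (sp 4 true
  (rc 4 1 0 x0) (sp 5 false (rc 4 1 0 x0) (sp 4 true (rc 4 1 0 x0) (sp 4 true (rc 4 1 0 x0) (sp 4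
  true (rc 4 1 0 x0) (sp 4 true (rc 4 1 0 x0) (sp 5 false (rc 4 1 0 x0) (sp 4 true (rc 4 1 0 x0)
  (sp 4 true (rc 4 1 0 x0) (sp 4 true (rc 4 1 0 x0) (sp 4 true (rc 4 1 0 x0) (sp 5 false (rc 4 1 0
  x0) (sp 4 true (rc 4 1 0 x0) (sp 4 true (rc 4 1 0 x0) (sp 4 true (rc 4 1 0 x0) (sp 4 true (rc 4
  1 0 x0) (sp 5 false (rc 4 1 0 x0) (sp 4 true (rc 4 1 0 x0) (sp 4 true (rc 4 1 0 x0) (sp 4 true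
  (rc 4 1 0 x0) k33)))))))))))))))))))))))))))))))

def k35 : Ct :=
  (sp 4 true (rc 4 1 0 x0) (sp 4 true (rc 4 1 0 x0) (sp 4 true (rc 4 1 0 x0) (sp 5 false (rc 4 1 0
  x0) (sp 4 true (rc 4 1 0 x0) (sp 4 true (rc 4 1 0 x0) (sp 4 true (rc 4 1 0 x0) (sp 4 true (rc 4
  1 0 x0) (sp 5 false (rc 4 1 0 x0) (sp 4 true (rc 4 1 0 x0) (sp 4 true (rc 4 1 0 x0) (sp 4 true
  (rc 4 1 0 x0) (sp 4 true (rc 4 1 0 x0) (sp 5 false (rc 4 1 0 x0) (sp 4 true (rc 4 1 0 x0) (sp 4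
  true (rc 4 1 0 x0) (sp 4 true (rc 4 1 0 x0) (sp 4 true (rc 4 1 0 x0) (sp 5 false (rc 4 1 0 x0)
  (sp 4 true (rc 4 1 0 x0) (sp 4 true (rc 4 1 0 x0) (sp 4 true (rc 4 1 0 x0) (sp 4 true (rc 4 1 0
  x0) (sp 5 false (rc 4 1 0 x0) (sp 4 true (rc 4 1 0 x0) (sp 4 true (rc 4 1 0 x0) (sp 4 true (rc 4
  1 0 x0) (sp 4 true (rc 4 1 0 x0) (sp 5 false (rc 4 1 0 x0) (sp 4 true (rc 4 1 0 x0) (sp 4 true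
  (rc 4 1 0 x0) k34)))))))))))))))))))))))))))))))

def k36 : Ct :=
  (sp 4 true (cl 1 0 0) (sp 4 true (cl 1 0 0) (sp 4 true (rc 4 1 0 x0) (sp 4 true (rc 4 1 0 x0)
  (sp 5 false (rc 4 1 0 x0) (sp 4 true (rc 4 1 0 x0) (sp 4 true (rc 4 1 0 x0) (sp 4 true (rc 4 1 0
  x0) (sp 4 true (rc 4 1 0 x0) (sp 5 false (rc 4 1 0 x0) (sp 4 true (rc 4 1 0 x0) (sp 4 true (rc 4
  1 0 x0) (sp 4 true (rc 4 1 0 x0) (sp 4 true (rc 4 1 0 x0) (sp 5 false (rc 4 1 0 x0) (sp 4 true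
  (rc 4 1 0 x0) (sp 4 true (rc 4 1 0 x0) (sp 4 true (rc 4 1 0 x0) (sp 4 true (rc 4 1 0 x0) (sp 5
  false (rc 4 1 0 x0) (sp 4 true (rc 4 1 0 x0) (sp 4 true (rc 4 1 0 x0) (sp 4 true (rc 4 1 0 x0)
  (sp 4 true (rc 4 1 0 x0) (sp 5 false (rc 4 1 0 x0) (sp 4 true (rc 4 1 0 x0) (sp 4 true (rc 4 1 0
  x0) (sp 4 true (rc 4 1 0 x0) (sp 4 true (rc 4 1 0 x0) (sp 5 false (rc 4 1 0 x0) (sp 4 true (rc 4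
  1 0 x0) k35)))))))))))))))))))))))))))))))

def k37 : Ct :=
  (sp 6 false (ln 6 1 0 0 (sp 4 true (cl 1 0 0) (sp 4 true (cl 1 0 0) (sp 5 false (cl 0 (-1) 0)
  (sp 4 true (rc 4 1 0 x0) (sp 4 true (rc 4 1 0 x0) (sp 4 true (rc 4 1 0 x0) (sp 4 true (rc 4 1 0
  x0) (sp 5 false (rc 4 1 0 x0) (sp 4 true (rc 4 1 0 x0) (cl (-1) 0 0))))))))))) (sp 4 true (ln 4
  0 1 0 (sp 4 false (cl 1 0 0) (sp 4 false (rc 4 1 0 x0) (sp 5 true (ln 4 1 0 0 x0) (sp 4 false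
  (rc 4 1 0 x0) (sp 4 false (rc 4 1 0 x0) (sp 4 false (rc 4 1 0 x0) (cl (-1) 0 0)))))))) (sp 6
  false (ln 6 1 0 0 (sp 4 true (rc 4 1 0 x0) (sp 5 false (cl 0 (-1) 0) (sp 4 true (rc 4 1 0 x0)
  (cl (-1) 0 0))))) (sp 4 true (ln 4 0 1 0 (sp 4 false (rc 4 1 0 x0) (sp 5 true (ln 4 1 0 0 x0)
  (cl (-1) 0 0)))) (sp 5 false (ln 4 0 1 0 (cl (-1) 0 0)) (sp 6 false (ln 6 1 0 0 (cl (-1) 0 0))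
  (sp 7 true (ln 6 1 0 0 x0) (cl (-1) 0 0))))))))

def k38 : Ct :=
  (sp 6 false (ln 6 1 0 0 (sp 4 true (cl 1 0 0) (sp 4 true (cl 1 0 0) (sp 4 true (cl 1 0 0) (sp 5
  false (cl 0 (-1) 0) (sp 4 true (cl 1 0 0) (sp 4 true (cl 1 0 0) (sp 4 true (cl 1 0 0) (sp 4 true
  (cl 1 0 0) (sp 5 false (rc 4 1 0 x0) (sp 4 true (cl 1 0 0) (sp 4 true (cl 1 0 0) (sp 4 true (cl
  1 0 0) (sp 4 true (cl 1 0 0) (sp 5 false (rc 4 1 0 x0) k36))))))))))))))) (sp 4 true (ln 4 0 1 0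
  (sp 4 false (cl 1 0 0) (sp 4 false (cl 1 0 0) (sp 4 false (cl 1 0 0) (sp 5 true (ln 4 1 0 0 x0)
  (sp 4 false (cl 1 0 0) (sp 4 false (cl 1 0 0) (sp 4 false (cl 1 0 0) (sp 4 false (rc 4 1 0 x0)
  (sp 5 true (rc 4 1 0 x0) (sp 4 false (rc 4 1 0 x0) (sp 4 false (rc 4 1 0 x0) (sp 4 false (rc 4 1
  0 x0) (sp 4 false (rc 4 1 0 x0) (sp 5 true (rc 4 1 0 x0) (sp 4 false (rc 4 1 0 x0) (sp 4 false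
  (rc 4 1 0 x0) (sp 4 false (rc 4 1 0 x0) (sp 4 false (rc 4 1 0 x0) (sp 5 true (rc 4 1 0 x0) (sp 4
  false (rc 4 1 0 x0) (sp 4 false (rc 4 1 0 x0) (sp 4 false (rc 4 1 0 x0) (sp 4 false (rc 4 1 0
  x0) (sp 5 true (rc 4 1 0 x0) (sp 4 false (rc 4 1 0 x0) (sp 4 false (rc 4 1 0 x0) (cl (-1) 0
  0)))))))))))))))))))))))))))) k37))

def k39 : Ct :=
  (sp 5 true (ln 4 0 1 0 (sp 4 false (cl 1 0 0) (sp 4 false (cl 1 0 0) (sp 4 false (cl 1 0 0) (sp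
  5 true (ln 4 1 0 0 x0) (sp 4 false (cl 1 0 0) (sp 4 false (rc 4 1 0 x0) (sp 4 false (rc 4 1 0
  x0) (sp 4 false (rc 4 1 0 x0) (sp 5 true (rc 4 1 0 x0) (sp 4 false (rc 4 1 0 x0) (sp 4 false (rc
  4 1 0 x0) (sp 4 false (rc 4 1 0 x0) (sp 4 false (rc 4 1 0 x0) (sp 5 true (rc 4 1 0 x0) (sp 4
  false (rc 4 1 0 x0) (sp 4 false (rc 4 1 0 x0) (cl (-1) 0 0)))))))))))))))))) (sp 6 false (ln 6 1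
  0 0 (sp 5 true (cl 1 0 0) (sp 5 true (rc 4 1 0 x0) (sp 4 false (ln 4 0 1 0 x0) (sp 5 true (rc 4
  1 0 x0) (sp 5 true (rc 4 1 0 x0) (cl (-1) 0 0))))))) (sp 5 true (ln 4 0 1 0 (sp 4 false (rc 4 1
  0 x0) (sp 4 false (rc 4 1 0 x0) (sp 5 true (ln 4 1 0 0 x0) (sp 4 false (rc 4 1 0 x0) (cl (-1) 0
  0)))))) (sp 6 false (ln 6 1 0 0 (sp 5 true (rc 4 1 0 x0) (sp 4 false (ln 4 0 1 0 x0) (cl (-1) 0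
  0)))) (sp 5 true (ln 4 0 1 0 (sp 4 false (rc 4 1 0 x0) (cl (-1) 0 0))) (sp 4 false (ln 4 0 1 0
  x0) (sp 6 false (ln 6 1 0 0 (cl (-1) 0 0)) (cl (-1) 0 0))))))))

def k40 : Ct :=
  (sp 4 true (sp 6 false (ln 6 1 0 0 (sp 5 true (cl 1 0 0) (sp 5 true (cl 1 0 0) (sp 5 true (cl 1
  0 0) (sp 4 false (ln 4 0 1 0 x0) (sp 5 true (cl 1 0 0) (sp 5 true (cl 1 0 0) (sp 5 true (cl 1 0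
  0) (sp 5 true (rc 4 1 0 x0) (sp 5 true (rc 4 1 0 x0) (sp 4 false (rc 4 1 0 x0) (sp 5 true (rc 4
  1 0 x0) (sp 5 true (rc 4 1 0 x0) (sp 5 true (rc 4 1 0 x0) (sp 5 true (rc 4 1 0 x0) (sp 4 false
  (ln 4 0 1 0 x0) (sp 5 true (rc 4 1 0 x0) (sp 5 true (rc 4 1 0 x0) (sp 5 true (rc 4 1 0 x0) (cl
  (-1) 0 0)))))))))))))))))))) k39) (sp 7 false (ln 7 1 0 0 (sp 6 true (sp 4 true (cl 1 0 0) (sp 4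
  true (rc 4 1 0 x0) (sp 4 true (rc 4 1 0 x0) (sp 5 false (rc 4 1 0 x0) (cl (-1) 0 0))))) (sp 4
  true (sp 5 true (rc 4 1 0 x0) (sp 5 true (rc 4 1 0 x0) (cl (-1) 0 0))) (cl (-1) 0 0)))) (sp 6
  true (sp 4 true (ln 4 0 1 0 (sp 4 false (rc 4 1 0 x0) (sp 4 false (rc 4 1 0 x0) (cl (-1) 0 0))))
  (sp 6 false (ln 6 1 0 0 (cl (-1) 0 0)) (sp 4 true (ln 4 0 1 0 (cl (-1) 0 0)) (cl (-1) 0 0))))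
  (sp 4 true (sp 6 false (ln 6 1 0 0 (cl (-1) 0 0)) (cl (-1) 0 0)) (cl (-1) 0 0)))))

def k41 : Ct :=
  (sp 5 false (cl (-1) 0 0) (sp 5 false (rc 4 1 0 x0) (sp 5 false (rc 4 1 0 x0) (sp 5 false (rc 4
  1 0 x0) (sp 5 false (rc 4 1 0 x0) (sp 4 true (ln 4 0 1 0 x0) (sp 5 false (rc 4 1 0 x0) (sp 5
  false (rc 4 1 0 x0) (sp 5 false (rc 4 1 0 x0) (sp 5 false (rc 4 1 0 x0) (sp 4 true (rc 4 1 0 x0)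
  (sp 5 false (rc 4 1 0 x0) (sp 5 false (rc 4 1 0 x0) (sp 5 false (rc 4 1 0 x0) (sp 5 false (rc 4
  1 0 x0) (sp 4 true (ln 4 0 1 0 x0) (sp 5 false (rc 4 1 0 x0) (sp 5 false (rc 4 1 0 x0) (sp 5
  false (rc 4 1 0 x0) (sp 5 false (rc 4 1 0 x0) (sp 4 true (rc 4 1 0 x0) (sp 5 false (rc 4 1 0 x0)
  (sp 5 false (rc 4 1 0 x0) (sp 5 false (rc 4 1 0 x0) (sp 5 false (rc 4 1 0 x0) (sp 5 false (rc 4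
  1 0 x0) (sp 4 true (ln 4 0 1 0 x0) (sp 5 false (rc 4 1 0 x0) (sp 5 false (rc 4 1 0 x0) (sp 5
  false (rc 4 1 0 x0) (cl 1 0 0)))))))))))))))))))))))))))))))

def k42 : Ct :=
  (sp 6 false (sp 4 true (cl 1 0 0) (sp 4 true (cl 1 0 0) (sp 4 true (cl 1 0 0) (sp 4 true (cl 1 0
  0) (sp 4 true (cl 1 0 0) (sp 5 false (ln 4 0 1 0 x0) (sp 4 true (cl 1 0 0) (sp 4 true (cl 1 0 0)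
  (sp 4 true (cl 1 0 0) (sp 4 true (rc 4 1 0 x0) (sp 5 false (rc 4 1 0 x0) (sp 4 true (rc 4 1 0
  x0) (sp 4 true (rc 4 1 0 x0) (sp 4 true (rc 4 1 0 x0) (sp 4 true (rc 4 1 0 x0) (sp 5 false (rc 4
  1 0 x0) (sp 4 true (rc 4 1 0 x0) (sp 4 true (rc 4 1 0 x0) (sp 4 true (rc 4 1 0 x0) (sp 4 true
  (rc 4 1 0 x0) (sp 5 false (rc 4 1 0 x0) (sp 4 true (rc 4 1 0 x0) (sp 4 true (rc 4 1 0 x0) (sp 4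
  true (rc 4 1 0 x0) (sp 4 true (rc 4 1 0 x0) (sp 5 false (rc 4 1 0 x0) (sp 4 true (rc 4 1 0 x0)
  (sp 4 true (rc 4 1 0 x0) (cl (-1) 0 0))))))))))))))))))))))))))))) (sp 4 false (sp 5 false (cl
  (-1) 0 0) (sp 5 false (cl (-1) 0 0) (sp 5 false (cl (-1) 0 0) (sp 5 false (cl (-1) 0 0) (sp 4
  true (ln 4 0 1 0 x0) (sp 5 false (cl (-1) 0 0) (sp 5 false (cl (-1) 0 0) (sp 5 false (cl (-1) 0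
  0) (sp 5 false (cl (-1) 0 0) (sp 4 true (rc 4 1 0 x0) k41)))))))))) (sp 6 false (sp 4 false (cl
  (-1) 0 0) (sp 4 false (rc 4 1 0 x0) (cl 1 0 0))) (cl 1 0 0))))

def k43 : Ct :=
  (sp 9 true (sp 6 true (cl 0 (-1) 0) (sp 4 true (sp 5 false (cl (-4) (-1) 0) (sp 6 true (cl (-4)
  (-1) 0) (sp 5 false (ln 4 0 1 0 (sp 4 false (cl 1 0 0) (cl (-1) 0 0))) (sp 6 true (ln 6 1 0 0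
  (sp 5 true (cl 1 0 0) (sp 5 true (cl 1 0 0) (sp 5 true (rc 4 1 0 x0) (cl (-1) 0 0))))) (sp 5
  false (ln 4 0 1 0 (sp 4 false (cl 1 0 0) (sp 4 false (cl 1 0 0) (sp 4 false (rc 4 1 0 x0) (sp 4
  false (rc 4 1 0 x0) (cl (-1) 0 0)))))) k28))))) (sp 7 false (ln 7 1 0 0 x0) (sp 6 true (sp 4
  true (ln 4 0 1 0 (sp 4 true (cl (-1) 0 0) (sp 4 true (cl (-1) 0 0) (sp 4 true (cl (-1) 0 0) (sp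
  4 true (cl (-1) 0 0) (sp 4 true (cl (-1) 0 0) (sp 5 false (rc 4 1 0 x0) (sp 4 true (rc 4 1 0 x0)
  (sp 4 true (rc 4 1 0 x0) (sp 4 true (rc 4 1 0 x0) (sp 4 true (rc 4 1 0 x0) (cl 1 0 0))))))))))))
  k38) k40)))) (sp 9 true (sp 6 false (cl (-1) 0 1) (sp 7 true (ln 7 1 0 0 k42) (sp 6 false (sp 4
  false (ln 4 0 1 0 (sp 4 true (cl (-1) 0 0) (sp 4 true (rc 4 1 0 x0) (cl 1 0 0)))) (cl 1 0 0))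
  (cl 1 0 0)))) (cl 0 0 1)))

def k44 : Ct :=
  (sp 2 false (cl (-1) 0 0) (sp 2 false (ln 0 0 (-4) 1 x0) (sp 2 false (ln 0 0 (-4) 1 x0) (sp 2
  false (ln 0 0 (-4) 1 x0) (sp 2 false (ln 0 0 (-4) 1 x0) (sp 1 true (ln 0 0 (-2) 1 x0) (sp 2
  false (ln 0 0 (-4) 1 x0) (sp 2 false (ln 0 0 (-4) 1 x0) (sp 2 false (ln 0 0 (-4) 1 x0) (sp 2
  false (ln 0 0 (-4) 1 x0) (sp 1 true (ln 0 0 (-2) 1 x0) (sp 2 false (ln 0 0 (-4) 1 x0) (sp 2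
  false (ln 0 0 (-4) 1 x0) (sp 2 false (ln 0 0 (-4) 1 x0) (sp 2 false (ln 0 0 (-4) 1 x0) (sp 1
  true (ln 0 0 (-2) 1 x0) (sp 2 false (ln 0 0 (-4) 1 x0) (sp 2 false (ln 0 0 (-4) 1 x0) (sp 2
  false (ln 0 0 (-4) 1 x0) (sp 2 false (ln 0 0 (-4) 1 x0) (sp 1 true (ln 0 0 (-2) 1 x0) (sp 2
  false (ln 0 0 (-4) 1 x0) (sp 2 false (ln 0 0 (-4) 1 x0) (sp 2 false (ln 0 0 (-4) 1 x0) (sp 2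
  false (ln 0 0 (-4) 1 x0) (sp 2 false (ln 0 0 (-4) 1 x0) (sp 1 true (ln 0 0 (-2) 1 x0) (sp 2
  false (ln 0 0 (-4) 1 x0) (sp 2 false (ln 0 0 (-4) 1 x0) (sp 2 false (ln 0 0 (-4) 1 x0) (cl 1 0
  0)))))))))))))))))))))))))))))))

def k45 : Ct :=
  (sp 6 true (sp 0 true (cl 0 1 0) (sp 0 true (sp 2 true (cl 0 (-1) 0) (sp 2 true (sp 1 false (rc
  2 0 1 x0) (cl 0 1 0)) (cl 0 1 0))) (sp 1 true (sp 0 true (sp 1 false (cl 0 1 0) (sp 1 false (cl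
  0 1 0) (cl 0 (-1) 0))) (cl (-2) (-1) 0)) (cl (-2) (-1) 0)))) (sp 6 true (sp 3 false (cl (-1) 0
  1) (sp 4 true (ln 4 1 0 0 (sp 3 false (sp 0 false (cl 0 (-1) 0) (sp 0 false (cl 0 (-1) 0) (sp 0
  false (cl 0 (-1) 0) (sp 0 false (cl 0 (-1) 0) (sp 0 false (ln 0 0 (-4) 1 x0) (cl 0 1 0)))))) (sp
  1 false (sp 2 false (cl (-1) 0 0) (sp 2 false (cl (-1) 0 0) (sp 2 false (cl (-1) 0 0) (sp 2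
  false (cl (-1) 0 0) (sp 1 true (ln 0 0 (-2) 1 x0) (sp 2 false (cl (-1) 0 0) (sp 2 false (cl (-1)
  0 0) (sp 2 false (cl (-1) 0 0) (sp 2 false (cl (-1) 0 0) (sp 1 true (ln 0 0 (-2) 1 x0)
  k44)))))))))) (sp 3 false (sp 1 false (cl (-1) 0 0) (sp 1 false (ln 0 0 (-4) 1 x0) (cl 1 0 0)))
  (cl 1 0 0))))) (sp 3 false (sp 1 false (ln 1 0 1 0 (sp 1 true (cl (-1) 0 0) (sp 1 true (ln 0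
  (-1) 0 1 x0) (cl 1 0 0)))) (cl 1 0 0)) (cl 1 0 0)))) (cl 0 0 1)))

def k46 : Ct :=
  (sp 7 true (sp 2 true (ln 2 0 1 0 (sp 3 true (cl (-1) 0 0) (sp 3 true (cl (-1) 0 0) (sp 3 true
  (cl (-1) 0 0) (sp 3 true (cl (-1) 0 0) (sp 3 true (cl (-1) 0 0) (sp 4 false (rc 3 1 0 x0) (sp 3
  true (rc 3 1 0 x0) (sp 3 true (rc 3 1 0 x0) (sp 3 true (rc 3 1 0 x0) (sp 3 true (rc 3 1 0 x0)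
  (sp 4 false (rc 3 1 0 x0) (cl 1 0 0))))))))))))) (sp 3 true (ln 2 0 1 0 (cl (-1) 0 0)) (sp 5
  false (ln 5 1 0 0 x0) (sp 2 true (ln 2 0 1 0 (sp 3 false (cl 1 0 0) (sp 3 false (rc 3 1 0 x0)
  (cl (-1) 0 0)))) (sp 5 false (ln 5 1 0 0 (sp 2 true (rc 2 1 0 x0) (sp 3 true (rc 2 1 0 x0) (sp 2
  true (rc 2 1 0 x0) (cl (-1) 0 0))))) (sp 2 true (ln 2 0 1 0 (cl (-1) 0 0)) (sp 3 true (ln 2 0 1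
  0 (cl (-1) 0 0)) (sp 2 true (ln 2 0 1 0 (cl (-1) 0 0)) (cl (-1) 0 0))))))))) (sp 7 true (sp 2
  false (cl (-1) 0 1) (sp 3 false (ln 2 0 1 0 (cl (-1) 0 1)) (sp 5 true (ln 5 1 0 0 (sp 2 false
  (cl (-1) 0 0) (sp 2 false (rc 2 1 0 x0) (sp 3 false (ln 2 0 1 0 x0) (sp 2 false (rc 2 1 0 x0)
  (cl 1 0 0)))))) (sp 2 false (ln 2 0 1 0 x0) (cl 1 0 0))))) (cl 0 0 1)))

def lvs : List (List R × Ct) :=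
  [([⟨0, 0, 0, 0, 0, 1⟩, ⟨0, 0, 0, 0, 0, 1⟩, ⟨0, -1, 0, 0, 0, 0⟩, ⟨0, -1, 0, 0, 0, 0⟩, ⟨0, 0, 0,
  0, 1, 1⟩, ⟨0, 0, 0, 0, 1, 1⟩, ⟨-1, 0, 0, 0, 0, 0⟩, ⟨-1, 0, 0, 0, 0, 0⟩, ⟨1, 0, 0, 0, 0, 1⟩, ⟨-1,
  -1, -1, -1, -1, -2⟩], (sp 6 true (sp 2 false (sp 5 true (sp 2 false (sp 2 false (sp 2 false (ln
  3 0 1 0 x0) (sp 3 true (rc 2 1 0 x0) (cl (-1) 0 0))) (cl (-1) 0 0)) (cl 1 0 0)) (cl 1 0 0)) (cl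
  1 0 0)) (cl 1 0 0))), ([⟨0, 0, 0, 0, 0, 1⟩, ⟨0, 0, 0, 0, 0, 1⟩, ⟨0, -1, 0, -1, 0, -1⟩, ⟨0, -1,
  0, -1, 0, -1⟩, ⟨0, -1, 0, 1, 0, 1⟩, ⟨-1, 0, 0, 0, 0, 0⟩, ⟨-1, 0, 0, 0, 0, 0⟩, ⟨1, 0, 0, 0, 0,
  1⟩, ⟨-1, -1, -1, -1, -1, -2⟩], (sp 2 false (sp 7 true (ln 2 0 1 0 (sp 3 true (sp 3 false (cl 1 0
  0) (sp 3 false (ln 3 1 0 0 x0) (cl (-1) 0 0))) (sp 3 true (sp 3 true (cl (-1) 0 0) (sp 3 true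
  (cl (-1) 0 0) (sp 3 true (rc 3 1 0 x0) (sp 3 true (rc 3 1 0 x0) (sp 4 false (rc 3 1 0 x0) (cl 1
  0 0)))))) (sp 3 true (sp 3 true (rc 3 1 0 x0) (cl 1 0 0)) (cl 1 0 0))))) (sp 4 true (sp 6 true
  (ln 2 0 1 0 (cl (-1) 0 1)) (cl (-1) 0 1)) (cl 0 0 1))) (cl 1 0 0))), ([⟨0, 0, 0, 0, 0, 1⟩, ⟨0,
  0, 0, 0, 0, 1⟩, ⟨0, -1, -1, 0, 0, -1⟩, ⟨0, -1, 1, 0, 0, 1⟩, ⟨-1, 0, 0, 0, 0, 0⟩, ⟨-1, 0, 0, 0,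
  0, 0⟩, ⟨1, 0, 0, 0, 0, 1⟩, ⟨-1, -1, -1, -1, -1, -2⟩], (sp 2 false (cl (-1) 0 1) (cl 1 0 0))),
  ([⟨0, 0, 0, 0, 0, 1⟩, ⟨0, 0, 0, 0, 0, 1⟩, ⟨0, -1, -1, 0, 0, -1⟩, ⟨0, -1, 0, 0, 1, 1⟩, ⟨-1, 0, 0,
  0, 0, 0⟩, ⟨-1, 0, 0, 0, 0, 0⟩, ⟨1, 0, 0, 0, 0, 1⟩, ⟨-1, -1, -1, -1, -1, -2⟩], (sp 2 false (cl
  (-1) 0 1) (cl 1 0 0))), ([⟨0, 0, 0, 0, 0, 1⟩, ⟨0, 0, 0, 0, 0, 1⟩, ⟨0, 0, 0, 0, 0, 1⟩, ⟨0, 0, 0,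
  0, 0, 1⟩, ⟨0, 0, 0, 0, 0, 1⟩, ⟨0, 0, 0, 0, 0, 1⟩, ⟨0, -1, -1, -1, 1, -1⟩, ⟨-1, 0, 0, 0, 0, 0⟩,
  ⟨-1, 0, 0, 0, 0, 0⟩, ⟨1, 0, 0, 0, 0, 1⟩, ⟨-1, -1, -1, -1, -1, -2⟩], (sp 6 false (cl (-1) 0 1)
  (cl 1 0 0))), ([⟨0, 0, 0, 0, 0, 1⟩, ⟨0, 0, 0, 0, 0, 1⟩, ⟨0, 0, 0, 0, 0, 2⟩, ⟨0, -1, -1, -1, 1,
  -1⟩, ⟨-1, 0, 0, 0, 0, 0⟩, ⟨-1, 0, 0, 0, 0, 0⟩, ⟨1, 0, 0, 0, 0, 1⟩, ⟨-1, -1, -1, -1, -1, -2⟩],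
  (sp 3 false (cl (-1) 0 1) (cl 1 0 0))), ([⟨0, 0, 0, 0, 0, 1⟩, ⟨0, 0, 0, 0, 0, 1⟩, ⟨0, 0, 0, 0,
  0, 1⟩, ⟨0, 0, 0, 0, 0, 1⟩, ⟨0, 0, 0, 0, 0, 1⟩, ⟨0, 0, 0, 0, 0, 1⟩, ⟨0, -2, 0, 0, 0, -1⟩, ⟨-1, 0,
  0, 0, 0, 0⟩, ⟨-1, 0, 0, 0, 0, 0⟩, ⟨1, 0, 0, 0, 0, 1⟩, ⟨-1, -1, -1, -1, -1, -2⟩], (sp 6 false (cl
  (-1) 0 1) (cl 1 0 0))), ([⟨0, 0, 0, 0, 0, 1⟩, ⟨0, 0, 0, 0, 0, 1⟩, ⟨0, 0, 0, 0, 0, 2⟩, ⟨0, -2, 0,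
  0, 0, -1⟩, ⟨-1, 0, 0, 0, 0, 0⟩, ⟨-1, 0, 0, 0, 0, 0⟩, ⟨1, 0, 0, 0, 0, 1⟩, ⟨-1, -1, -1, -1, -1,
  -2⟩], (sp 3 false (cl (-1) 0 1) (cl 1 0 0))), ([⟨0, -1, 0, 0, 0, 0⟩, ⟨0, -1, 0, 0, 0, 0⟩, ⟨0, 0,
  0, 0, 1, 1⟩, ⟨0, 0, 0, 0, 1, 1⟩, ⟨1, 0, 0, 0, 0, 1⟩, ⟨1, 0, 0, 0, 0, 1⟩, ⟨-1, 0, 0, 0, 0, 1⟩,
  ⟨-1, -1, -1, -1, -1, -2⟩], (sp 7 true (sp 6 true (cl 0 1 0) (cl 0 (-1) 0)) (cl 1 1 0))), ([⟨0,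
  -1, 0, -1, 0, -1⟩, ⟨0, -1, 0, -1, 0, -1⟩, ⟨0, -1, 0, 1, 0, 1⟩, ⟨1, 0, 0, 0, 0, 1⟩, ⟨1, 0, 0, 0,
  0, 1⟩, ⟨-1, 0, 0, 0, 0, 1⟩, ⟨-1, -1, -1, -1, -1, -2⟩], (sp 5 true (cl (-1) 0 0) (sp 6 true (sp 0
  false (ln 0 0 1 0 (sp 0 false (cl 0 (-1) 0) (sp 0 false (cl (-1) (-1) 0) (cl 1 1 0)))) (sp 5
  true (ln 2 (-1) (-2) 1 (cl 0 (-1) 1)) (cl 1 0 0))) (sp 2 false (sp 5 true (ln 4 (-1) (-2) 1 x0)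
  (sp 4 true (ln 4 (-1) (-2) 1 x0) (cl 2 1 0))) (cl 2 1 0))))), ([⟨0, -1, -1, 0, 0, -1⟩, ⟨0, -1,
  1, 0, 0, 1⟩, ⟨1, 0, 0, 0, 0, 1⟩, ⟨1, 0, 0, 0, 0, 1⟩, ⟨-1, 0, 0, 0, 0, 1⟩, ⟨-1, -1, -1, -1, -1,
  -2⟩], (sp 4 true (cl (-1) 0 0) (sp 0 false (cl (-1) 0 1) (sp 4 true (sp 0 false (ln 0 (-1) (-1)
  1 x0) (cl 1 0 0)) (cl 1 0 0))))), ([⟨0, -1, -1, 0, 0, -1⟩, ⟨0, -1, 0, 0, 1, 1⟩, ⟨1, 0, 0, 0, 0,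
  1⟩, ⟨1, 0, 0, 0, 0, 1⟩, ⟨-1, 0, 0, 0, 0, 1⟩, ⟨-1, -1, -1, -1, -1, -2⟩], (sp 4 true (cl (-1) 0 0)
  (sp 0 false (cl (-1) 0 1) (sp 4 true (sp 0 false (ln 0 (-1) (-1) 1 x0) (cl 1 0 0)) (cl 1 0
  0))))), ([⟨0, 0, 0, 0, 0, 1⟩, ⟨0, 0, 0, 0, 0, 1⟩, ⟨0, 0, 0, 0, 0, 1⟩, ⟨0, 0, 0, 0, 0, 1⟩, ⟨0,
  -1, -1, -1, 1, -1⟩, ⟨1, 0, 0, 0, 0, 1⟩, ⟨1, 0, 0, 0, 0, 1⟩, ⟨-1, 0, 0, 0, 0, 1⟩, ⟨-1, -1, -1,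
  -1, -1, -2⟩], (sp 7 true (cl (-1) 0 0) (sp 4 false (cl (-1) 0 1) (sp 7 true (sp 4 false (ln 6 0
  1 0 (sp 4 true (rc 4 1 0 x0) (sp 4 true (rc 4 1 0 x0) (sp 4 true (ln 4 1 0 0 x0) (sp 4 true (ln
  4 1 0 0 x0) (sp 4 true (rc 4 1 0 x0) (sp 4 true (ln 4 1 0 0 (cl (-1) 0 0)) (cl (-1) 0 0))))))))
  (cl 1 0 0)) (cl 1 0 0))))), ([⟨0, 0, 0, 0, 0, 2⟩, ⟨0, -1, -1, -1, 1, -1⟩, ⟨1, 0, 0, 0, 0, 1⟩,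
  ⟨1, 0, 0, 0, 0, 1⟩, ⟨-1, 0, 0, 0, 0, 1⟩, ⟨-1, -1, -1, -1, -1, -2⟩], (sp 4 true (cl (-1) 0 0) (sp
  1 false (cl (-1) 0 1) (sp 4 true (sp 1 false (ln 0 (-1) (-1) 1 x0) (cl 1 0 0)) (cl 1 0 0))))),
  ([⟨0, 0, 0, 0, 0, 1⟩, ⟨0, 0, 0, 0, 0, 1⟩, ⟨0, 0, 0, 0, 0, 1⟩, ⟨0, 0, 0, 0, 0, 1⟩, ⟨0, -2, 0, 0,
  0, -1⟩, ⟨1, 0, 0, 0, 0, 1⟩, ⟨1, 0, 0, 0, 0, 1⟩, ⟨-1, 0, 0, 0, 0, 1⟩, ⟨-1, -1, -1, -1, -1, -2⟩],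
  (sp 7 true (cl (-1) 0 0) (sp 4 false (cl (-1) 0 1) (sp 7 true (sp 4 false (ln 6 0 1 0 (sp 4 true
  (rc 4 1 0 x0) (sp 4 true (rc 4 1 0 x0) (sp 4 true (ln 4 1 0 0 x0) (sp 4 true (ln 4 1 0 0 x0) (sp
  4 true (rc 4 1 0 x0) (sp 4 true (ln 4 1 0 0 (cl (-1) 0 0)) (cl (-1) 0 0)))))))) (cl 1 0 0)) (cl
  1 0 0))))), ([⟨0, 0, 0, 0, 0, 2⟩, ⟨0, -2, 0, 0, 0, -1⟩, ⟨1, 0, 0, 0, 0, 1⟩, ⟨1, 0, 0, 0, 0, 1⟩,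
  ⟨-1, 0, 0, 0, 0, 1⟩, ⟨-1, -1, -1, -1, -1, -2⟩], (sp 4 true (cl (-1) 0 0) (sp 1 false (cl (-1) 0
  1) (sp 4 true (sp 1 false (ln 0 (-1) (-1) 1 x0) (cl 1 0 0)) (cl 1 0 0))))), ([⟨0, 0, 0, 0, 0,
  1⟩, ⟨0, 0, 0, 0, 0, 1⟩, ⟨0, -1, -1, -1, 1, -1⟩, ⟨-1, 0, 0, 0, 0, 0⟩, ⟨-1, 0, 0, 0, 0, 1⟩, ⟨-1,
  -1, -1, -1, -1, -2⟩, ⟨1, 0, 0, 0, 0, 2⟩], (sp 4 true (cl (-2) 1 0) (sp 2 false (cl (-1) 0 1)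
  k0))), ([⟨0, 0, 0, 0, 0, 1⟩, ⟨0, 0, 0, 0, 0, 1⟩, ⟨0, -2, 0, 0, 0, -1⟩, ⟨-1, 0, 0, 0, 0, 0⟩, ⟨-1,
  0, 0, 0, 0, 1⟩, ⟨-1, -1, -1, -1, -1, -2⟩, ⟨1, 0, 0, 0, 0, 2⟩], (sp 4 true (cl (-2) 1 0) (sp 2
  false (cl (-1) 0 1) k1))), ([⟨0, -1, 0, 0, 0, 0⟩, ⟨0, 0, 0, 0, 1, 1⟩, ⟨0, 0, 0, 0, 1, 1⟩, ⟨0, 0,
  0, 0, 1, 1⟩, ⟨-1, 0, 0, 0, 0, 0⟩, ⟨1, 0, 0, 0, 0, 1⟩, ⟨1, 0, 0, 0, 0, 1⟩, ⟨-1, -1, -1, -1, -1,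
  -1⟩], (cl 1 0 0)), ([⟨0, 0, 0, 0, 0, 1⟩, ⟨0, 0, 0, 0, 0, 1⟩, ⟨0, -1, 0, 0, 0, 0⟩, ⟨0, -1, 0, 0,
  0, 0⟩, ⟨0, -1, 0, 0, 0, 0⟩, ⟨0, 0, 0, 0, 1, 1⟩, ⟨-1, 0, 0, 0, 0, 0⟩, ⟨-1, 0, 0, 0, 0, 0⟩, ⟨-1,
  0, 0, 0, 0, 0⟩, ⟨-1, -1, -1, -1, -1, -3⟩], (sp 6 true (sp 6 true (sp 6 true (ln 6 1 0 0 (cl 0 1
  0)) (cl 0 0 1)) (cl 0 0 1)) (cl 0 0 1))), ([⟨0, -1, 0, -1, 0, -1⟩, ⟨0, -1, 0, -1, 0, 0⟩, ⟨0, -1,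
  0, 1, 0, 1⟩, ⟨-1, 0, 0, 0, 0, 0⟩, ⟨-1, 0, 0, 0, 0, 0⟩, ⟨-1, 0, 0, 0, 0, 0⟩, ⟨-1, -1, -1, -1, -1,
  -3⟩], (sp 3 true (sp 3 true (sp 3 true (ln 3 1 0 0 (cl 0 0 1)) (cl 0 0 1)) (cl 0 0 1)) (cl 0 0
  1))), ([⟨0, -1, 0, 0, 0, 0⟩, ⟨0, -1, 0, 0, 0, 0⟩, ⟨0, -1, 0, 0, 0, 0⟩, ⟨0, 0, 0, 0, 1, 1⟩, ⟨-1,
  0, 0, 0, 0, 0⟩, ⟨1, 0, 0, 0, 0, 1⟩, ⟨-1, 0, 0, 0, 0, 1⟩, ⟨-1, -1, -1, -1, -1, -3⟩], (cl 1 1 0)),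
  ([⟨0, 0, 0, 0, 0, 1⟩, ⟨0, 0, 0, 0, 0, 1⟩, ⟨0, 0, 0, 0, 0, 1⟩, ⟨0, 0, 0, 0, 0, 1⟩, ⟨0, -1, 0, 0,
  0, 0⟩, ⟨0, 0, 0, 0, 1, 1⟩, ⟨0, -1, -1, 0, 0, -1⟩, ⟨-1, 0, 0, 0, 0, 0⟩, ⟨1, 0, 0, 0, 0, 1⟩, ⟨-1,
  -1, 0, -1, 0, -1⟩], k43), ([⟨0, 0, 0, 0, 0, 2⟩, ⟨0, -1, 0, 0, 0, 0⟩, ⟨0, 0, 0, 0, 1, 1⟩, ⟨0, -1,
  -1, 0, 0, -1⟩, ⟨-1, 0, 0, 0, 0, 0⟩, ⟨1, 0, 0, 0, 0, 1⟩, ⟨-1, -1, 0, -1, 0, -1⟩], k45), ([⟨0, 0,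
  0, 0, 0, 1⟩, ⟨0, 0, 0, 0, 0, 1⟩, ⟨0, -1, -1, -1, -1, -2⟩, ⟨0, -1, 0, -1, 0, -1⟩, ⟨0, -1, 0, 1,
  0, 1⟩, ⟨-1, 0, 0, 0, 0, 0⟩, ⟨1, 0, 0, 0, 0, 1⟩, ⟨-1, -1, 0, -1, 0, -1⟩], k46), ([⟨0, -1, 0, 0,
  0, 0⟩, ⟨0, 0, 0, 0, 1, 1⟩, ⟨0, -1, -1, 0, 0, -1⟩, ⟨-1, 0, 0, 0, 0, 1⟩, ⟨1, 0, 0, 0, 0, 2⟩, ⟨-1,
  -1, 0, -1, 0, -1⟩], (sp 5 true (sp 2 false (cl (-2) 1 0) (sp 4 true (ln 3 1 0 0 x0) (cl (-1)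
  (-1) 0))) (sp 5 true (sp 3 true (cl 0 1 0) (sp 4 false (ln 3 1 0 0 (cl 0 0 1)) (sp 3 true (ln 3
  1 0 0 (cl 0 1 0)) (sp 0 false (sp 3 false (ln 1 (-1) 4 (-1) x0) (sp 2 true (ln 1 (-2) (-4) 1 (cl
  0 1 0)) (sp 3 false (ln 1 (-1) 4 (-1) x0) (sp 2 true (ln 1 (-2) (-4) 1 x0) (sp 3 false (ln 1
  (-1) 4 (-1) x0) (cl 2 1 0)))))) (sp 4 false (ln 3 1 0 0 (cl 2 1 0)) (sp 3 true (ln 3 1 0 0 (cl 2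
  1 0)) (sp 4 false (ln 3 1 0 0 (cl 2 1 0)) (cl 2 1 0)))))))) (sp 4 false (sp 4 true (ln 3 1 0 0
  (cl 2 1 0)) (sp 2 true (ln 0 (-1) 4 (-1) (cl 1 1 0)) (cl 1 1 0))) (sp 5 true (sp 2 true (sp 3
  false (ln 1 1 0 1 x0) (cl 1 1 0)) (cl 1 1 0)) (cl 1 1 0)))))), ([⟨0, 0, 0, 0, 0, 1⟩, ⟨0, 0, 0,
  0, 0, 1⟩, ⟨0, -1, 0, 0, 0, 0⟩, ⟨0, -1, 0, 0, 0, 0⟩, ⟨0, -1, -1, 0, 0, -1⟩, ⟨-1, 0, 0, 0, 0, 0⟩,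
  ⟨-1, 0, 0, 0, 0, 1⟩, ⟨-1, -1, 0, -1, 0, -2⟩], (cl 1 1 0))]

theorem ents_eq : ents = tys.map fun r => (r, tst.map (cost · r), gd r) := by decide +kernel

theorem bud_eq : bud = tst.map fun c => (nrm c).natAbs := by decide +kernel

theorem go_ok : go 25 (fun l => (lvs.map Prod.fst).contains l) 200 ents bud [] = true := by
  decide +kernel

theorem lvs_ok : (lvs.all fun e => chk e.2 (e.1.map item) ⟨1, 0, 1, 1, 1, 1⟩) = true := by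
  decide +kernel

def good (r : R) : Bool := (four r).isPerm (((four r).filter (tys.contains ·)).flatMap orb)

def rg (n : ℕ) (k : ℤ → Bool) : Bool := (List.range (2 * n + 1)).all fun i => k ((i : ℤ) - n)

theorem box_ok : (rg 2 fun a0 => rg 2 fun a1 => rg 2 fun a2 => rg 2 fun a3 => rg 2 fun a4 =>
    112 < dot (adj' ⟨a0, a1, a2, a3, a4, 0⟩) ⟨a0, a1, a2, a3, a4, 0⟩ || rg 3 fun b =>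
      let r : R := ⟨a0, a1, a2, a3, a4, b⟩
      r.V ≤ 0 || 188 < dot (adj r) r || good r) = true := by
  decide +kernel

end H17.Ly
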