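/-
Interface statements for S2919 (Sylow `D₈ ≀ Z₂`).
-/
import Cfsg.Prelude.Def_Classical
import Cfsg.Agent.H19.Amb5

set_option autoImplicit false

open Cfsg Subgroup MatrixGroups
namespace H17.T
universe u

/-- `A ⊔ B` is a central extension of `PSU₃(q)` -/
def UE {G : Type u} [Group G] (E : Type) [Field E] (q : ℕ) (A B : Subgroup G) : Prop :=
  ∃ ξ : ↥(A ⊔ B) →* PSU 3 E q, Function.Surjective ξ ∧ ξ.ker ≤ center _

/-- Phan's theorem for `PSU₄(q)` in the form of S3351.  Plan: `SU₃(q)` has trivial multiplier (as inside the proof of S2089),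
so `H23.exists_lift_of_schur_one` gives `η : SU 3 E q →* G` onto the perfect group `A ⊔ B` with central kernel of odd order
(pattern `H17.L4.edge_lift`, LF8); the perfect pull-backs of `A`, `B` are copies of `SU 2 E q`; adapt
`H27.PH.fix_par` / `H27.PH.pair` (PH5) from tori of order `q + 1` to the commuting involutions; then `H27.PH.phan`. -/
def UF : Prop := ∀ {G : Type u} [Group G] [Finite G] [IsSimpleGroup G] (F E : Type) [Field F] [Fintype F] [Field E]
  [Fintype E], Odd (Fintype.card F) → 3 < Fintype.card F → Fintype.card E = Fintype.card F ^ 2 →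
  ∀ A B C : Subgroup G, Nonempty (SL(2, F) ≃* A) → Nonempty (SL(2, F) ≃* B) → Nonempty (SL(2, F) ≃* C) →
  A ⊔ B ⊔ C = ⊤ → (∀ x ∈ A, ∀ y ∈ C, x * y = y * x) →
  ∀ a ∈ A, ∀ b ∈ B, ∀ c ∈ C, orderOf a = 2 → orderOf b = 2 → orderOf c = 2 → a ≠ b → b ≠ c → a * b = b * a →
  b * c = c * b → UE E (Fintype.card F) A B → UE E (Fintype.card F) B C → Nonempty (G ≃* PSU 4 E (Fintype.card F))

end H17.T
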