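/-
Centralizer `E × U` with a `U₃(2ⁿ)` component, part 4: the centralizer.
-/
import Cfsg.Agent.H17.GM3

set_option autoImplicit false
set_option linter.unusedSectionVars false

namespace H17.GM
open Cfsg Subgroup H18 H17.GS H17.TS
open H19 hiding eq_bot_mono

universe u

variable {G : Type u} [Group G] [Finite G] {A B D E H K L M P Q R S T U V W X Y Z : Subgroup G}
  {b c d e g h j k r s t u v w x y z h0 h1 : G} {F : Type*} [Field F] [Finite F] {σ : F →+* F} {q : ℕ} {a ζ : G → F}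
  {m0 m1 : F}

/-- conjugates of involutions of `E` -/
def Dc (E : Subgroup G) (x : G) : Prop := ∃ g, ∃ e ∈ E, e ≠ 1 ∧ x = g * e * g⁻¹

theorem Dc.J (h : Dc E x) (g : G) : Dc E (g * x * g⁻¹) :=
  let ⟨k, e, he, e1, hx⟩ := h; ⟨g * k, e, he, e1, by rw [hx]; group⟩
theorem Dc.J' (h : Dc E (g * x * g⁻¹)) : Dc E x := by simpa [mul_assoc] using h.J g⁻¹
theorem dc_of (he : e ∈ E) (e1 : e ≠ 1) : Dc E e := ⟨1, e, he, e1, by simp⟩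

/-- the desired conclusion -/
def Gl (E : Subgroup G) : Prop :=
  (∃ (P : Sylow 2 G) (Q : Subgroup G), Q ≠ ⊥ ∧ IsElementaryAbelian 2 Q ∧ IsStronglyClosed Q (P : Subgroup G)) ∨
    (Nat.card E = 2 ∧ ∃ H : Subgroup G, IsComplement' E H)

/-- the hypotheses in coordinates -/
structure St (σ : F →+* F) (q : ℕ) (t : G) (E U L Q Z T : Subgroup G) (a ζ : G → F) (h0 h1 : G) (m0 m1 : F) : Prop
    extends Md σ q L Q Z a ζ h0 h1 m0 m1 where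
  t1 : t ≠ 1
  tE : t ∈ E
  Eel : ∀ e ∈ E, e * e = 1
  CE : ∀ e ∈ E, e ≠ 1 → C[e] = C[t]
  dc : ∀ c ∈ C[t], ∃ e ∈ E, ∃ u ∈ U, c = e * u
  UC : U ≤ C[t]
  EU : E ⊓ U = ⊥
  LU : L ≤ U
  nL : U ≤ N(L)
  cL : U ⊓ C(L) ≤ L
  sylT : Syl 2 T C[t]
  QT : Q ≤ T

theorem odd_e2 (hx : E2 x) (hy : E2 y) (hz : PiE {2}ᶜ z) (c : y * z = z * y) (e : x = y * z) : z = 1 :=
  PiN.e_eq_one (by
    rw [show z = y⁻¹ * x by rw [e]; group]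
    exact PiN.e_mul hy.e_inv hx (by rw [e, inv_mul_cancel_left, c]; group)) hz

namespace St
variable (o : St σ q t E U L Q Z T a ζ h0 h1 m0 m1)
include o

theorem co : Co σ q Q Z a ζ := o.toMd.toCo
theorem tt : t * t = 1 := o.Eel t o.tE
theorem ti' : t⁻¹ = t := inv_eq_of_mul_eq_one_left o.tt
theorem ec (he : e ∈ E) (hc : c ∈ C[t]) : c * e = e * c := by
  by_cases e1 : e = 1
  · simp [e1]
  · exact mem_cent1.1 (o.CE e he e1 ▸ hc)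
theorem EC : E ≤ C[t] := fun _ he => mem_cent1.2 (o.ec he (mem_cent1_self t)).symm
theorem CEc : C[t] ≤ C(E) := fun _ hc => mem_cent.2 fun _ he => (o.ec he hc).symm
theorem LC : L ≤ C[t] := o.LU.trans o.UC
theorem QL : Q ≤ L := o.syl.le
theorem QC : Q ≤ C[t] := o.QL.trans o.LC
theorem ZCt : Z ≤ C[t] := o.ZQ.trans o.QC
theorem EL : E ≤ C(L) := cents_symm (o.LC.trans o.CEc)
theorem EQ : E ≤ C(Q) := o.EL.trans (cent_mono o.QL)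
theorem tQ : t ∈ C(Q) := o.EQ o.tE
theorem CnL : C[t] ≤ N(L) := fun c hc => by
  obtain ⟨e, he, u, hu, rfl⟩ := o.dc c hc
  exact mul_mem (cent_le_norm L (o.EL he)) (o.nL hu)
theorem pE : PG 2 E := pg_of_pow Nat.prime_two fun x hx => by rw [pow_two, o.Eel x hx]
theorem pT : PG 2 T := o.sylT.pi
theorem ET : E ≤ T := fun e he => o.sylT.mem_of_norm (o.EC he) (o.pE.elt he)
  (cent_le_norm T (cents_symm (o.sylT.le.trans o.CEc) he))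
theorem tT : t ∈ T := o.ET o.tE
theorem eq1 (he : e ∈ E) (hu : e ∈ U) : e = 1 := mem_bot.1 (o.EU ▸ (⟨he, hu⟩ : e ∈ E ⊓ U))
theorem EQb : E ⊓ Q = ⊥ := eq_bot_mono (inf_le_inf_left E (o.QL.trans o.LU)) o.EU
theorem h0C : h0 ∈ C[t] := o.LC o.h0L
theorem h1L : h1 ∈ L := let ⟨i, e, _⟩ := o.h1e; e ▸ pow_mem o.h0L i
theorem h1C : h1 ∈ C[t] := o.LC o.h1L
theorem h1a : Act Q a h1 m1 id := let ⟨i, e, e'⟩ := o.h1e; e ▸ e' ▸ o.h0a.pow i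
theorem h1Z : h1 ∈ C(Z) := o.co.cz_of o.h1a o.m1n
theorem m00 : m0 ≠ 0 := fun e => by
  obtain ⟨l, hl, l0, l1⟩ := o.fl.ex0
  obtain ⟨i, hi⟩ := o.hF l hl l0
  rcases i with _ | i
  · exact l1 (by simpa using hi.symm)
  · exact l0 (by simpa [e] using hi.symm)
theorem hN {l : F} (hl : σ l = l) (l0 : l ≠ 0) : ∃ i : ℕ, m0 ^ i * σ (m0 ^ i) = l := by
  obtain ⟨v, hv, rfl⟩ := o.fl.sqrt0 hl
  obtain ⟨i, hi⟩ := o.hF v hv (left_ne_zero_of_mul l0)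
  exact ⟨i, by rw [hi, hv]⟩
theorem n01 : m0 * σ m0 ≠ 1 := fun e => by
  obtain ⟨l, hl, l0, l1⟩ := o.fl.ex0
  obtain ⟨i, hi⟩ := o.hN hl l0
  exact l1 (by rw [← hi, map_pow, ← mul_pow, e, one_pow])
theorem m01 : m0 ≠ 1 := fun e => o.n01 (by simp [e])

theorem ztr (hz : z ∈ Z) (z1 : z ≠ 1) (hy : y ∈ Z) (y1 : y ≠ 1) : ∃ i : ℕ, h0 ^ i * z * (h0 ^ i)⁻¹ = y := by
  have z0 := mt (o.z0 z hz) z1
  obtain ⟨i, hi⟩ := o.hN (l := ζ y / ζ z) (by rw [map_div₀, o.zf z hz, o.zf y hy]) (div_ne_zero (mt (o.z0 y hy) y1) z0)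
  exact ⟨i, o.co.zinj (conj_mem_of_norm (o.co.nZ (o.h0a.pow i).n) hz) hy (by
    rw [o.co.actz1 (o.h0a.pow i) hz, hi, div_mul_cancel₀ _ z0])⟩

theorem nQ_of (hB : PG 2 B) (l : B ≤ C[t]) (n : Q ≤ N(B)) : B ≤ N(Q) := by
  have : (B ⊔ Q) ⊓ L = Q := o.syl.max (le_inf le_sup_right o.QL) inf_le_right ((hB.sup o.co.pQ n).infl _)
  rw [← this]
  exact norms_inf (norms_of_le le_sup_left) (l.trans o.CnL)
theorem TQ : T ≤ N(Q) := o.nQ_of o.pT o.sylT.le (norms_of_le o.QT)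

theorem cLd (hc : c ∈ C[t]) (h : c ∈ C(L)) : ∃ e ∈ E, ∃ y ∈ Z(L), c = e * y := by
  obtain ⟨e, he, u, hu, rfl⟩ := o.dc c hc
  have := (mul_mem_cancel_left (o.EL he)).1 h
  exact ⟨e, he, u, ⟨o.cL ⟨hu, this⟩, this⟩, rfl⟩

theorem cvd (hc : c ∈ C[t]) (h : c ∈ cmod Q Z) : ∃ e ∈ E, ∃ u ∈ Q, ∃ y ∈ Z(L), c = e * u * y := by
  obtain ⟨u, hu, d, hd, rfl⟩ := (mem_sup_of_norm ((cent_mono o.QL).trans (cent_le_norm Q))).1 (o.cv c (o.CnL hc) h)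
  obtain ⟨e, he, y, hy, rfl⟩ := o.cLd ((mul_mem_cancel_left (o.QC hu)).1 hc) hd
  exact ⟨e, he, u, hu, y, hy, by rw [← mul_assoc, o.ec he (o.QC hu)]⟩

theorem mEQ : x ∈ E ⊔ Q ↔ ∃ e ∈ E, ∃ u ∈ Q, x = e * u := mem_sup_of_norm' (norms_of_cents o.EQ)
theorem mA : x ∈ E ⊔ Z ↔ ∃ e ∈ E, ∃ u ∈ Z, x = e * u := mem_sup_of_norm' (norms_of_cents (o.EQ.trans o.co.CZ))
theorem pEQ : PG 2 (E ⊔ Q) := o.pT.of_le (sup_le o.ET o.QT)
theorem AEQ : E ⊔ Z ≤ E ⊔ Q := sup_le_sup_left o.ZQ E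
theorem EQC : E ⊔ Q ≤ C[t] := sup_le o.EC o.QC
theorem AC : E ⊔ Z ≤ C[t] := o.AEQ.trans o.EQC
theorem AQ : E ⊔ Z ≤ C(Q) := sup_le o.EQ o.co.ZC
theorem EQQ : E ⊔ Q ≤ Q ⊔ C(Q) := sup_le (o.EQ.trans le_sup_right) le_sup_left
theorem pA : PG 2 (E ⊔ Z) := o.pEQ.of_le o.AEQ
theorem Z0c : Z(L) ≤ C(E ⊔ Q) := cents_sup (inf_le_left.trans (cents_symm o.EL)) (inf_le_right.trans (cent_mono o.QL))
theorem Asq (hx : x ∈ E ⊔ Z) : x * x = 1 := by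
  obtain ⟨e, he, z, hz, rfl⟩ := o.mA.1 hx
  rw [mul_assoc, ← mul_assoc z, o.ec he (o.ZCt hz), mul_assoc, o.co.zz hz, mul_one, o.Eel e he]
theorem AA : E ⊔ Z ≤ C(E ⊔ Z) := cents_sup (o.AC.trans o.CEc) (o.AQ.trans o.co.CZ)
theorem cardA : #(E ⊔ Z) = #E * q := by
  rw [card_sup_of_disjoint (norms_of_cents (o.ZCt.trans o.CEc)) (eq_bot_mono (inf_le_inf_left E o.ZQ) o.EQb), o.co.cardZ]
theorem cardEQ : #(E ⊔ Q) = #E * q ^ 3 := by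
  rw [card_sup_of_disjoint (norms_of_cents (o.QC.trans o.CEc)) o.EQb, o.co.cardQ]

theorem cv2 (hc : c ∈ C[t]) (h : c ∈ cmod Q Z) (h2 : E2 c) : c ∈ E ⊔ Q := by
  obtain ⟨e, he, u, hu, y, hy, k⟩ := o.cvd hc h
  have m := o.mEQ.2 ⟨e, he, u, hu, rfl⟩
  rw [k, odd_e2 h2 (o.pEQ.elt m) (o.odd.elt hy) (cm (o.Z0c hy) m) k, mul_one]; exact m

theorem AC' (hx : x ∈ E ⊔ Q) (h : x ∈ C(Q)) : x ∈ E ⊔ Z := by
  obtain ⟨e, he, u, hu, rfl⟩ := o.mEQ.1 hx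
  exact mul_mem (mem_sup_left he) (mem_sup_right ((o.mz u hu).1 ((mul_mem_cancel_left (o.EQ he)).1 h)))

theorem cq2 (hc : c ∈ C[t]) (h : c ∈ C(Q)) (h2 : E2 c) : c ∈ E ⊔ Z := o.AC' (o.cv2 hc (o.co.QCv (mC h)) h2) h

theorem cqd (hc : c ∈ C[t]) (h : c ∈ C(Q)) : ∃ x ∈ E ⊔ Z, ∃ y ∈ Z(L), c = x * y := by
  obtain ⟨e, he, u, hu, y, hy, rfl⟩ := o.cvd hc (o.co.QCv (mC h))
  exact ⟨_, o.AC' (o.mEQ.2 ⟨e, he, u, hu, rfl⟩) ((mul_mem_cancel_right (cent_mono o.QL hy.2)).1 h), y, hy, rfl⟩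

theorem cqo (hc : c ∈ C[t]) (h : c ∈ C(Q)) (h2 : PiE {2}ᶜ c) : c ∈ Z(L) := by
  obtain ⟨x, hx, y, hy, k⟩ := o.cqd hc h
  have : x = 1 := PiN.e_eq_one (o.pA.elt hx) (by
    have e := cm (o.Z0c hy) (o.AEQ hx)
    rw [show x = c * y⁻¹ by rw [k]; group]
    exact PiN.e_mul h2 (o.odd.elt hy).e_inv (by rw [k, mul_inv_cancel_right, e]; group))
  rw [k, this, one_mul]; exact hy

theorem EQom (hx : x ∈ E ⊔ Q) (h : x * x = 1) : x ∈ E ⊔ Z := by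
  obtain ⟨e, he, u, hu, rfl⟩ := o.mEQ.1 hx
  rw [mul_assoc, ← mul_assoc u, o.ec he (o.QC hu), mul_assoc, ← mul_assoc, o.Eel e he, one_mul] at h
  exact mul_mem (mem_sup_left he) (mem_sup_right (o.co.om hu h))

theorem ne (h : ∀ x ∈ B, x * x = 1) (l : B ≤ C[t]) (n : Q ≤ N(B)) : B ≤ E ⊔ Z := fun x hx => by
  have p : PG 2 B := pg_of_pow Nat.prime_two fun x hx => by rw [pow_two, h x hx]
  have k := o.nQ_of p l n hx
  exact o.EQom (o.cv2 (l hx) ⟨k, o.co.nZ k, fun u hu => o.co.om (comm_mem_r k hu) (h _ (comm_mem_l hx (n hu)))⟩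
    (p.elt hx)) (h x hx)

theorem nsq (h : Dc E (y * y)) : False := by
  obtain ⟨g, e, he, e1, k⟩ := h
  have k' : (g⁻¹ * y * g) * (g⁻¹ * y * g) = e := by
    rw [show (g⁻¹ * y * g) * (g⁻¹ * y * g) = g⁻¹ * (y * y) * g by group, k]; group
  generalize g⁻¹ * y * g = x at k'
  obtain ⟨e', he', u, hu, rfl⟩ := o.dc x (o.CE e he e1 ▸ mem_cent1.2 (by rw [← k', mul_assoc x]))
  rw [mul_assoc, ← mul_assoc u, o.ec he' (o.UC hu), mul_assoc, ← mul_assoc, o.Eel _ he', one_mul] at k'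
  exact e1 (o.eq1 he (k' ▸ mul_mem hu hu))

theorem zD (hz : z ∈ Z) : ¬ Dc E z := fun h => by
  obtain ⟨u, -, rfl⟩ := o.co.zsq hz
  exact o.nsq h

theorem Dsq (h : Dc E x) : x * x = 1 := by
  obtain ⟨g, e, he, -, rfl⟩ := h
  rw [show g * e * g⁻¹ * (g * e * g⁻¹) = g * (e * e) * g⁻¹ by group, o.Eel e he]; group

theorem cjC (hx : x ∈ cj g E) (x1 : x ≠ 1) : C[x] = cj g C[t] := by
  obtain ⟨e, he, rfl⟩ := mem_cj'.1 hx
  rw [← cj_cent1, o.CE e he fun k => x1 (by simp [k])]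

theorem tiE (hx : x ∈ E) (x1 : x ≠ 1) (hg : x ∈ cj g E) : cj g E = E := by
  have e : cj g C[t] = C[t] := (o.cjC hg x1).symm.trans (o.CE x hx x1)
  refine eq_of_le_of_card_eq (fun y hy => ?_) (card_cj g E)
  have c : y ∈ C(C[t]) := by
    rw [← e, ← cj_cent]; exact cj_mono g (cents_symm o.CEc) hy
  obtain ⟨e', he', z, hz, k⟩ := o.cLd (e ▸ cj_mono g o.EC hy) (cent_mono o.LC c)
  rw [k, odd_e2 ((o.pE.J g).elt hy) (o.pE.elt he') (o.odd.elt hz) (cm (o.Z0c hz) (mem_sup_left he')) k, mul_one]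
  exact he'

theorem gen (hu : u ∈ Q) : ∃ v ∈ Q, ∃ z ∈ Z, u = h1 * v * h1⁻¹ * v⁻¹ * z := by
  have m3 : m1 + 1 ≠ 0 := mt o.fl.add_eq.1 o.m1ne
  obtain ⟨v, hv, e⟩ := o.asj (a u / (m1 + 1))
  have hv' := conj_mem_of_norm o.h1a.n hv
  exact ⟨v, hv, o.co.eqz hu (mul_mem hv' (inv_mem hv)) (by
    rw [o.ad _ (mQ hv') _ (mQ (inv_mem hv)), o.h1a.e v (mQ hv), o.co.ainv (mQ hv), id, e]; field_simp)⟩

theorem zcm (hz : z ∈ Z) : ∃ u ∈ Q, ∃ v ∈ Q, z = u * v * u⁻¹ * v⁻¹ := by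
  obtain ⟨u, hu, e⟩ := o.asj 1
  obtain ⟨x, hx⟩ := o.fl.bsurj one_ne_zero (o.zf z hz)
  obtain ⟨v, hv, rfl⟩ := o.asj x
  exact ⟨u, hu, v, hv, o.co.zinj hz (o.co.cmZ hu hv) (by rw [o.co.cmq hu hv, e, hx])⟩

theorem p6 (hQ : Q ≤ cj g C[t]) (hh : h1 ∈ cj g C[t]) : Q ≤ cj g L := by
  obtain ⟨c, hc, l⟩ := o.sylT.scj_le (le_cj_iff.1 hQ) (o.co.pQ.J _)
  rw [cj_cj] at l
  have e1 : cj g C[t] = cj (c * g⁻¹)⁻¹ C[t] := by rw [mul_inv_rev, inv_inv, cj_mul, cj_of_mem (inv_mem hc)]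
  have e2 : cj g L = cj (c * g⁻¹)⁻¹ L := by rw [mul_inv_rev, inv_inv, cj_mul, cj_of_mem_norm (o.CnL (inv_mem hc))]
  rw [e1, mem_cj_inv] at hh
  rw [e2]
  generalize c * g⁻¹ = k at *
  have m : ∀ u ∈ Q, k * u * k⁻¹ ∈ T := fun u hu => l (conj_mem_cj.2 hu)
  have zc : ∀ z ∈ Z, k * z * k⁻¹ ∈ cmod Q Z := fun z hz => by
    obtain ⟨u, hu, v, hv, rfl⟩ := o.zcm hz
    convert o.co.c1 o.pT o.TQ (m u hu) (m v hv) using 1; group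
  have c2 := o.co.c2 (o.co.pQ.J k) (l.trans o.TQ) fun x hx => by
    obtain ⟨u, hu, rfl⟩ := mem_cj'.1 hx
    convert zc _ (o.sq u hu).1 using 1; group
  have nEL : C[t] ≤ N(E ⊔ L) := norms_sup (norms_of_cents o.CEc) o.CnL
  have c3 : C2 (E ⊔ L) (cj k Q) := fun x hx y hy x0 y0 => by
    have f : ∀ x ∈ cj k Q, x ∈ cmod Q Z → x ∈ E ⊔ L := fun x hx h =>
      sup_le_sup_left o.QL E (o.cv2 (o.sylT.le (l hx)) h (o.pT.elt (l hx)))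
    exact f _ (mul_mem hx hy) (c2 x hx y hy (mt (f x hx) x0) (mt (f y hy) y0))
  have cj1 : ∀ v : G, k * (h1 * v * h1⁻¹ * v⁻¹) * k⁻¹ =
      k * h1 * k⁻¹ * (k * v * k⁻¹) * (k * h1 * k⁻¹)⁻¹ * (k * v * k⁻¹)⁻¹ := fun v => by group
  have all : ∀ u ∈ Q, k * u * k⁻¹ ∈ E ⊔ L := fun u hu => by
    obtain ⟨v, hv, z, hz, rfl⟩ := o.gen hu
    obtain ⟨y, hy, rfl⟩ := o.co.zsq hz
    rw [show ∀ x : G, k * (x * (y * y)) * k⁻¹ = k * x * k⁻¹ * ((k * y * k⁻¹) * (k * y * k⁻¹)) from fun x => by group, cj1]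
    refine mul_mem ((c3.iff ?_ (inv_mem (conj_mem_cj.2 hv))).2 ?_) (c3.sq (conj_mem_cj.2 hy))
    · convert conj_mem_cj (g := k).2 (conj_mem_of_norm o.h1a.n hv) using 1; group
    · rw [inv_mem_iff]; exact (mem_normalizer_iff.1 (nEL hh) _).symm
  have cl : ∀ v ∈ Q, k * (h1 * v * h1⁻¹ * v⁻¹) * k⁻¹ ∈ L := fun v hv => by
    obtain ⟨e, he, y, hy, k1⟩ := (mem_sup_of_norm' (norms_of_cents o.EL)).1 (all v hv)
    rw [cj1, k1]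
    generalize k * h1 * k⁻¹ = h at hh
    rw [← mul_assoc h, o.ec he hh, show e * h * y * h⁻¹ * (e * y)⁻¹ = e * (h * y * h⁻¹ * y⁻¹) * e⁻¹ by group]
    exact conj_mem_of_norm (cent_le_norm L (o.EL he)) (comm_mem_r (o.CnL hh) hy)
  have cz : ∀ z ∈ Z, k * z * k⁻¹ ∈ L := fun z hz => by
    obtain ⟨u, hu, rfl⟩ := o.co.zsq hz
    obtain ⟨v, hv, y, hy, rfl⟩ := o.gen hu
    have := cl v hv
    have c := cm (o.co.QZ (comm_mem_r o.h1a.n hv)) hy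
    generalize h1 * v * h1⁻¹ * v⁻¹ = x at *
    rw [mul_assoc x y, ← mul_assoc y, c, mul_assoc x y, o.co.zz hy, mul_one]
    convert mul_mem this this using 1; group
  intro u hu
  obtain ⟨v, hv, z, hz, rfl⟩ := o.gen hu
  rw [mem_cj_inv]
  convert mul_mem (cl v hv) (cz z hz) using 1; group

theorem p6' (hx : x ∈ cj g E) (x1 : x ≠ 1) (hQ : x ∈ C(Q)) (hh : h1 ∈ C[x]) :
    ∃ k ∈ N(Q), ∀ e ∈ E, k * e * k⁻¹ = g * e * g⁻¹ := by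
  have l := o.p6 (o.cjC hx x1 ▸ le_cent1_iff.2 hQ) (o.cjC hx x1 ▸ hh)
  obtain ⟨y, hy, e⟩ := (o.syl.J g).sconj ((o.syl.J g).of_card l (card_cj g Q).symm)
  refine ⟨y * g, mem_norm_iff_cj.2 (by rw [cj_mul, e]), fun e he => ?_⟩
  have : y ∈ C(cj g E) := by rw [← cj_cent]; exact cj_mono g (cents_symm o.EL) hy
  rw [← cj_comm' (cm this (conj_mem_cj.2 he)).symm]; group

theorem na (hB : PG 2 B) (l : B ≤ C[t]) (n : Q ≤ N(B)) (ab : B ≤ C(B)) : #B ≤ 2 * (#E * q * q) := by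
  have nq := o.nQ_of hB l n
  have c2 := o.co.c2 hB nq fun x hx => o.co.cv_iff.2 (o.co.act (nq (mul_mem hx hx)) rfl fun u hu => by
    have m1 := comm_mem_r (nq hx) hu
    have c := cj_comm' (cm' ab hx (comm_mem_l hx (n hu)))
    have m2 := conj_mem_of_norm (nq hx) hu
    rw [show x * x * u * (x * x)⁻¹ = x * (x * u * x⁻¹ * u⁻¹) * x⁻¹ * (x * u * x⁻¹) by group, c,
      o.ad _ (mQ m1) _ (mQ m2), o.ad _ (mQ m2) _ (mQ (inv_mem hu)), o.co.ainv (mQ hu), id]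
    linear_combination a (x * u * x⁻¹) * o.fl.two)
  have l2 : cmod Q Z ⊓ B ≤ E ⊔ Q := fun x hx => o.cv2 (l hx.2) hx.1 (hB.elt hx.2)
  have := (o.ad.mono (l2.trans o.EQQ)).card_le (K := E ⊔ Z) (fun x hx e => o.AC' (l2 hx) ((o.a0 x (o.EQQ (l2 hx))).1 e))
    (I := a '' ↑(cmod Q Z ⊓ B)) fun x hx => ⟨x, hx, rfl⟩
  have i := o.fl.card_iso (I := a '' ↑(cmod Q Z ⊓ B)) (by
    rintro _ ⟨x, hx, rfl⟩ _ ⟨y, hy, rfl⟩
    obtain ⟨e, he, u, hu, rfl⟩ := o.mEQ.1 (l2 hy)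
    have c := cm' ab hx.2 hy.2
    rw [← mul_assoc, o.ec he (l hx.2), mul_assoc, mul_assoc, mul_left_cancel_iff] at c
    rw [o.ad _ (mC (o.EQ he)) _ (mQ hu), o.co.aC (o.EQ he), zero_add, ← (o.co.cmx (o.EQQ (l2 hx)) hu).2, c]
    simp [o.co.z1])
  rw [o.cardA] at this
  have := c2.card
  nlinarith [Nat.mul_le_mul_left (#E * q) i]

theorem gl_av (h2 : #E = 2) (h : Av t) : Gl E := by
  obtain ⟨K, hK, t0⟩ := h
  refine .inr ⟨h2, K, isComplement'_of_card_mul_and_disjoint ?_ ?_⟩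
  · rw [h2, ← hK, mul_comm, K.card_mul_index]
  · rw [disjoint_iff]
    exact inf_eq_bot_of_prime (h2 ▸ Nat.prime_two) fun l => t0 (l o.tE)

theorem two_mem (h2 : #E = 2) (he : e ∈ E) : e = 1 ∨ e = t :=
  FX.mem_zp o.tt ((eq_zpowers_of_prime (h2 ▸ Nat.prime_two) o.tE o.t1).ge he)

end St
end H17.GM
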