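/-
Centralizer `E × U` with a `U₃(2ⁿ)` component, part 10: transfer off `TY` for abelian `Y`.
-/
import Cfsg.Agent.H17.GM9

set_option autoImplicit false
set_option linter.unusedSectionVars false

namespace H17.GM
open Cfsg Subgroup H18 H17.GS H17.TS
open H19 hiding eq_bot_mono

universe u

variable {G : Type u} [Group G] [Finite G] {A B D E H K L M P Q R S T U V W X Y Y' Z : Subgroup G}
  {b c d e g h j k p p' r s t u v w x y z h0 h1 : G} {F : Type*} [Field F] [Finite F] {σ : F →+* F} {q m : ℕ}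
  {a ζ κ ω f f' ξ η : G → F} {m0 m1 k0 ε : F}

namespace Pc
variable (o : Pc σ q t E U L Q Z T W P a ζ κ ω h0 h1 m0 m1 k0)
include o

theorem zle (h : ∀ x ∈ B, x * x = 1) (hD : ∀ x ∈ B, ¬ Dc E x) (l : B ≤ C[t]) (n : Q ≤ N(B)) : B ≤ Z := fun x hx =>
  by_contra fun k => hD x hx (o.dA x (o.st.ne h l n hx) k)

theorem cjz (hx : x ∈ cj g Z) : x * x = 1 ∧ ¬ Dc E x := by
  obtain ⟨w, hw, rfl⟩ := mem_cj'.1 hx
  exact ⟨by rw [show g * w * g⁻¹ * (g * w * g⁻¹) = g * (w * w) * g⁻¹ by group, o.co.zz hw]; group, fun h => o.st.zD hw h.J'⟩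

theorem zeq (n : Q ≤ N(cj g Z)) (c : cj g Z ≤ C[t]) : g ∈ N(Z) :=
  mem_norm_of_cj_le (o.zle (fun _ hx => (o.cjz hx).1) (fun _ hx => (o.cjz hx).2) c n)

theorem big (n : T ≤ N(Y)) (ZY : Z ≤ Y) (ct : ∀ y ∈ Y, y ∈ C[t] → y ∈ Z) (l : T ≤ cj g (T ⊔ Y)) :
    q ^ 3 ≤ #(cj g (Q ⊔ Y) ⊓ C[t]) := by
  have e1 := card_sup_mul_inf n
  have e2 := card_sup_mul_inf (o.QT.trans n)
  rw [le_antisymm (fun x hx => ct x hx.1 (o.sylT.le hx.2)) (le_inf ZY (o.ZQ.trans o.QT)), sup_comm, o.co.cardZ] at e1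
  rw [le_antisymm (fun x hx => ct x hx.1 (o.st.QC hx.2)) (le_inf ZY o.ZQ), sup_comm, o.co.cardZ, o.co.cardQ] at e2
  have e3 := card_inf_mul_relIndex (Q ⊔ Y) (T ⊔ Y)
  rw [inf_eq_left.2 (sup_le_sup_right o.QT Y)] at e3
  have e4 := FX.card_idx (Q ⊔ Y) (T ⊔ Y) (cj g⁻¹ T)
  rw [inf_eq_right.2 (le_cj_iff.1 l), card_cj, ← card_cj g (_ ⊓ _), cj_inf, cj_cj_inv] at e4
  have e5 := H19.card_le (inf_le_inf_left (cj g (Q ⊔ Y)) o.sylT.le)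
  have p1 := card_pos T
  have p2 := card_pos Y
  have : #T = q ^ 3 * (Q ⊔ Y).relIndex (T ⊔ Y) := Nat.eq_of_mul_eq_mul_left p2 (by rw [← e1, ← mul_assoc, ← e2, ← e3]; ring)
  refine le_trans (Nat.le_of_mul_le_mul_right (by rw [← this, mul_comm]; exact e4) ?_) e5
  exact Nat.pos_of_ne_zero fun e => by rw [e] at this; omega

theorem bq (h2 : #E = 2) (pX : PG 2 X) (n : Q ≤ N(X)) (ZX : Z ≤ X) (cZ : X ≤ C(Z))
    (cm : ∀ x ∈ X, ∀ y ∈ X, x * y * x⁻¹ * y⁻¹ ∈ Z) (t0 : t ∉ X) (c : q ^ 3 ≤ #(X ⊓ C[t])) :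
    X ⊓ C[t] ≤ E ⊔ Q ∧ (∀ x ∈ X ⊓ C[t], x * x = 1 → x ∈ Z) ∧ ¬ X ⊓ C[t] ≤ C(X ⊓ C[t]) := by
  have q4 := o.fl.q4
  have pB := pX.infl C[t]
  have nq := o.st.nQ_of pB inf_le_right (norms_inf n (norms_of_le o.st.QC))
  have l : ∀ x ∈ X ⊓ C[t], x ∈ cmod Q Z → x ∈ E ⊔ Q := fun x hx v => o.st.cv2 hx.2 v (pB.elt hx)
  have AZ : ∀ x ∈ X, x ∈ E ⊔ Z → x ∈ Z := fun x hx h => by
    obtain ⟨e, he, z, hz, rfl⟩ := o.st.mA.1 h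
    rcases o.st.two_mem h2 he with rfl | rfl
    · simpa using hz
    · exact (t0 ((mul_mem_cancel_right (ZX hz)).1 hx)).elim
  have hK : ∀ x ∈ X ⊓ C[t], x ∈ C(Q) → x ∈ Z := fun x hx v => AZ x hx.1 (o.st.cq2 hx.2 v (pB.elt hx))
  have l2 : X ⊓ C[t] ≤ E ⊔ Q := by
    rcases o.co.rb (K := Z) pB nq (fun x hx => o.co.c4 (nq hx) (pB.elt hx) (cZ hx.1))
      (fun x hx y hy => o.co.ZC (cm x hx.1 y hy.1)) (fun x hx v => o.st.EQQ (l x hx v)) hK with k | k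
    · exact fun x hx => l x hx (k hx)
    · rw [o.co.cardZ] at k; nlinarith
  refine ⟨l2, fun x hx e => AZ x hx.1 (o.st.EQom (l2 hx) e), fun ab => ?_⟩
  have := (o.aad.mono (l2.trans o.EQP)).card_le (K := Z) (fun x hx e => hK x hx ((o.a0 x (o.st.EQQ (l2 hx))).1 e))
    (I := a '' ↑(X ⊓ C[t])) fun x hx => ⟨x, hx, rfl⟩
  have i := o.fl.card_iso (I := a '' ↑(X ⊓ C[t])) (by
    rintro _ ⟨x, hx, rfl⟩ _ ⟨y, hy, rfl⟩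
    simpa [o.ωEQ (l2 hx), o.ωEQ (l2 hy)] using (o.cme (o.EQP (l2 hx)) (o.EQP (l2 hy))).1 (cm' ab hx hy))
  rw [o.co.cardZ] at this
  nlinarith [Nat.mul_le_mul_left q i]

theorem ix (h2 : #E = 2) (n : T ≤ N(Y)) (ct : ∀ y ∈ Y, y ∈ C[t] → y ∈ Z) :
    ((T ⊓ U) ⊔ Y).relIndex (T ⊔ Y) = 2 ∧ t ∉ (T ⊓ U) ⊔ Y := by
  have t0 : t ∉ (T ⊓ U) ⊔ Y := fun h => by
    obtain ⟨x, hx, y, hy, e⟩ := (mem_sup_of_norm' (inf_le_left.trans n)).1 h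
    have c : y ∈ C[t] := (mul_mem_cancel_left (o.UC hx.2)).1 (e ▸ mem_cent1_self t)
    exact o.st.tU (e ▸ mul_mem hx.2 (o.LU (o.st.QL (o.ZQ (ct y hy c)))))
  refine ⟨idx2 (fun x hx0 y hy0 x0 y0 => ?_) (mem_sup_left o.st.tT) t0, t0⟩
  obtain ⟨x, hx, x', hx', rfl⟩ := (mem_sup_of_norm' n).1 hx0
  obtain ⟨y, hy, y', hy', rfl⟩ := (mem_sup_of_norm' n).1 hy0
  rw [show x * x' * (y * y') = x * y * (y⁻¹ * x' * y * y') by group]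
  exact mul_mem_sup ⟨mul_mem hx hy, o.st.c2U h2 x (o.sylT.le hx) y (o.sylT.le hy)
    (fun k => x0 (mul_mem_sup ⟨hx, k⟩ hx')) fun k => y0 (mul_mem_sup ⟨hy, k⟩ hy')⟩ (mul_mem (conj_mem_of_norm' (n hy) hx') hy')

theorem cvT (n : T ≤ N(Y)) (YQ : Y ≤ C(Q)) (hx0 : x ∈ T ⊔ Y) (v : x ∈ cmod Q Z) :
    ∃ u ∈ Q, ∃ y ∈ Y, ∃ e ∈ E, x = u * y * e := by
  obtain ⟨x, hx, y, hy, rfl⟩ := (mem_sup_of_norm' n).1 hx0
  obtain ⟨e, he, u, hu, rfl⟩ := o.st.mEQ.1 (o.st.cv2 (o.sylT.le hx) ((mul_mem_cancel_right (o.co.QCv (mC (YQ hy)))).1 v)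
    (o.st.pT.elt hx))
  exact ⟨u, hu, _, conj_mem_of_norm (n (o.st.ET he)) hy, e, he, by rw [← o.st.ec he (o.st.QC hu)]; group⟩

theorem beta (h2 : #E = 2) {l0 : F} (ab : Y ≤ C(Y)) (pY : PG 2 Y) (ZY : Z ≤ Y) (YQ : Y ≤ C(Q)) (n : T ≤ N(Y))
    (Yh : Y ≤ C[h1]) (ct : ∀ y ∈ Y, y ∈ C[t] → y ∈ Z) (l0f : σ l0 = l0)
    (W2 : ∀ l, σ l = l → ∃ y ∈ Y, y * t * y⁻¹ * t⁻¹ ∈ Z ∧ ζ (y * t * y⁻¹ * t⁻¹) = l ∧ y * y ∈ Z ∧ ζ (y * y) = l0 * l)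
    (hH : ∀ y ∈ Y, ∀ k ∈ N(Q), k * t * k⁻¹ = y * t → ∃ w ∈ Y, w * t * w⁻¹ = y * t)
    (hR : l0 = 0 → ∀ g ∈ N(Z), ∀ p ∈ Q ⊔ Y, a p ≠ 0 → g * t * g⁻¹ ≠ p * t) : Av t := by
  obtain ⟨i2, t0⟩ := o.ix h2 n ct
  refine tr o.st.tt o.sylT le_sup_left o.st.tT i2 t0 fun g hg g0 => ?_
  have HQ : T ⊔ Y ≤ N(Q) := sup_le o.st.TQ (YQ.trans (cent_le_norm Q))
  have HF : T ⊔ Y ≤ N(Q ⊔ Y) := norms_sup HQ (sup_le n le_normalizer)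
  have FQ : Q ⊔ Y ≤ Q ⊔ C(Q) := sup_le_sup_left YQ Q
  have FY : Q ⊔ Y ≤ C(Y) := sup_le (cents_symm YQ) ab
  have cF : ∀ x ∈ Q ⊔ Y, ∀ y ∈ Q ⊔ Y, x * y * x⁻¹ * y⁻¹ ∈ Z ∧ ζ (x * y * x⁻¹ * y⁻¹) = a x * σ (a y) + a y * σ (a x) :=
    fun x hx y hy0 => by
      obtain ⟨u, hu, y, hy, rfl⟩ := (mem_sup_of_norm (norms_of_cents YQ)).1 hy0
      rw [show x * (u * y) * x⁻¹ * (u * y)⁻¹ = x * u * (x⁻¹ * (x * y * x⁻¹) * y⁻¹) * u⁻¹ by group,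
        cj_comm' (cm (FY hx) hy).symm, mul_inv_cancel_right, o.ad _ (mQ hu) _ (mC (YQ hy)), o.co.aC (YQ hy), add_zero]
      exact o.co.cmx (FQ hx) hu
  have aH := mem_cj.1 (hg o.st.tT)
  have aa : g⁻¹ * t * g * (g⁻¹ * t * g) = 1 := by
    rw [show g⁻¹ * t * g * (g⁻¹ * t * g) = g⁻¹ * (t * t) * g by group, o.st.tt]; group
  have nZ : g ∈ N(Z) := o.zeq (by rw [← cj_norm]; exact (o.QT.trans hg).trans (cj_mono g fun x hx => o.co.nZ (HQ hx)))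
    (le_cent1_iff.2 (by rw [← cj_cent]; exact mem_cj.2 (o.co.invz (HQ aH) aa)))
  have eZ := cj_of_mem_norm nZ
  obtain ⟨-, b2, b3⟩ := o.bq h2 (X := cj g (Q ⊔ Y)) ((o.co.pQ.sup pY (norms_of_cents YQ)).J g)
    (by rw [← cj_norm]; exact (o.QT.trans hg).trans (cj_mono g HF)) (eZ.ge.trans (cj_mono g (ZY.trans le_sup_right)))
    (by rw [← eZ, ← cj_cent]; exact cj_mono g (FQ.trans o.co.QCZ)) (fun x hx y hy => eZ.le (mem_cj.2 (by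
      convert (cF _ (mem_cj.1 hx) _ (mem_cj.1 hy)).1 using 1; group)))
    (fun k => g0 (cj_mono g (sup_le_sup_right (le_inf o.QT (o.st.QL.trans o.LU)) Y) k)) (o.big n ZY ct hg)
  have mB : ∀ x, x ∈ cj g (Q ⊔ Y) ⊓ C[t] ↔ g⁻¹ * x * g ∈ (Q ⊔ Y) ⊓ C[g⁻¹ * t * g] := fun x => by
    rw [← mem_cj, cj_inf, cj_cent1, show g * (g⁻¹ * t * g) * g⁻¹ = t by group]
  rcases o.co.c3 (HQ aH) (aa ▸ one_mem _) with v | ⟨c, hc, ha⟩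
  swap
  · refine (b3 fun x hx => mem_cent.2 fun y hy => ?_).elim
    have f : ∀ x ∈ (Q ⊔ Y) ⊓ C[g⁻¹ * t * g], c * σ (a x) = a x := fun x hx => by
      rw [← ha.e x (FQ hx.1), cj_comm' (mem_cent1.1 hx.2).symm]
    have hx' := (mB x).1 hx
    have hy' := (mB y).1 hy
    have := of_cm1 (o.z0 _ (cF _ hy'.1 _ hx'.1).1 ((cF _ hy'.1 _ hx'.1).2.trans (o.fl.rfix_b (f _ hy') (f _ hx') hc)))
    exact mul_right_cancel (b := g) (by simpa [mul_assoc] using this)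
  obtain ⟨u, hu, y, hy, e, he, e1⟩ := o.cvT n YQ aH v
  obtain rfl : e = t := (o.st.two_mem h2 he).resolve_left (by
    rintro rfl
    exact g0 (mem_cj.2 (e1 ▸ mul_mem (mul_mem_sup ⟨o.QT hu, o.LU (o.st.QL hu)⟩ hy) (one_mem _))))
  by_cases u0 : a u = 0
  · have m := mul_mem (ZY ((o.co.aQ hu).1 u0)) hy
    obtain ⟨k, hk, e2⟩ := o.st.p6' (g := g⁻¹) (mem_cj_inv.2 (show g * (g⁻¹ * e * g) * g⁻¹ ∈ E by simpa [mul_assoc] using he))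
      (fun k => o.t1 (conj_eq_one_iff.1 (by rwa [inv_inv]))) (e1 ▸ mul_mem (YQ m) o.st.tQ)
      (mem_cent1_symm.1 (e1 ▸ mul_mem (Yh m) (mem_cent1_symm.1 o.st.h1C)))
    obtain ⟨w, hw, e3⟩ := hH _ m k hk (by rw [e2 e he, inv_inv, e1])
    exact ⟨g * w, mem_cent1.2 (comm_of_cj (by rw [show g * w * e * (g * w)⁻¹ = g * (w * e * w⁻¹) * g⁻¹ by group, e3, ← e1]; group)),
      by simpa using mem_sup_right hw⟩
  by_cases l0' : l0 = 0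
  · exact (hR l0' _ (inv_mem nZ) _ (mul_mem_sup hu hy) (by rwa [o.ad _ (mQ hu) _ (mC (YQ hy)), o.co.aC (YQ hy), add_zero])
      (by rw [inv_inv, e1])).elim
  exfalso
  obtain ⟨v, hv, e2⟩ := o.asj (l0 * (m1 + 1) * a u)
  obtain ⟨w, hw, w1, w2, w3, w4⟩ := W2 _ (o.fl.bfix (a v) (a u))
  have m := mul_mem_sup hv hw
  have c1 := cm (YQ hw) hv
  have c2 : v * w ∈ C[g⁻¹ * e * g] := mem_cent1.2 (of_cm1 (by
    have c3 := cm (YQ hw) hu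
    have c4 := cm (FY m) hy
    have c5 := cm o.st.tQ hv
    have k := o.co.cmZ hv hu
    have : v * u * v⁻¹ * u⁻¹ = (w * e * w⁻¹ * e⁻¹)⁻¹ := by
      rw [o.co.zi w1]; exact o.co.zinj k w1 (by rw [w2, o.co.cmq hv hu])
    have c6 := cm (o.co.CZ (YQ hy)) w1
    have c7 := cm (o.co.QZ hu) w1
    have c8 := cm (o.co.QZ hv) w1
    rw [e1]
    calc _ = v * (w * u * w⁻¹) * v⁻¹ * (v * w * y * (v * w)⁻¹) * (v * (w * e * w⁻¹ * e⁻¹) * v⁻¹) * (v * e * v⁻¹) *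
          (u * y * e)⁻¹ := by group
      _ = v * u * v⁻¹ * u⁻¹ * (u * (y * (w * e * w⁻¹ * e⁻¹) * y⁻¹) * u⁻¹) := by
        rw [cj_comm' c3.symm, cj_comm' c4.symm, cj_comm' c8.symm, cj_comm' c5]; group
      _ = 1 := by rw [cj_comm' c6.symm, cj_comm' c7.symm, this, inv_mul_cancel]))
  have c3 : v * w * (v * w) = 1 := by
    rw [mul_assoc, ← mul_assoc w, ← c1, mul_assoc, ← mul_assoc]
    refine o.z0 _ (mul_mem (o.sq v hv).1 w3) ?_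
    rw [o.zad _ (o.sq v hv).1 _ w3, (o.sq v hv).2, w4, e2]
    simp only [map_mul, map_add, map_one, l0f]
    linear_combination (l0 * l0 * a u * σ (a u)) * o.m1n + (l0 * l0 * a u * σ (a u) * (2 + m1 + σ m1)) * o.fl.two
  have := b2 (g * (v * w) * g⁻¹) ((mB _).2 (by simpa [mul_assoc] using And.intro m c2)) (by
    rw [show g * (v * w) * g⁻¹ * (g * (v * w) * g⁻¹) = g * (v * w * (v * w)) * g⁻¹ by group, c3]; group)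
  have := o.co.aZ ((mem_normalizer_iff.1 nZ _).2 this)
  rw [o.ad _ (mQ hv) _ (mC (YQ hw)), o.co.aC (YQ hw), add_zero, e2] at this
  exact mul_ne_zero (mul_ne_zero l0' (mt o.fl.add_eq.1 o.m1ne)) u0 this

end Pc
end H17.GM
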