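/-
Centralizer `E × U` with a `U₃(2ⁿ)` component, part 11: the special group of order `q⁵`.
-/
import Cfsg.Agent.H17.GM10

set_option autoImplicit false
set_option linter.unusedSectionVars false

namespace H17.GM
open Cfsg Subgroup H18 H17.GS H17.TS
open H19 hiding eq_bot_mono

universe u

variable {G : Type u} [Group G] [Finite G] {A B D E H K L M P Q R S T U V W X Y Y' Z : Subgroup G}
  {b c d e g h j k p p' r s t u v w x y z h0 h1 : G} {F : Type*} [Field F] [Finite F] {σ : F →+* F} {q m : ℕ}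
  {a ζ κ ω f f' ξ η : G → F} {m0 m1 k0 ε : F}

theorem half' (l : W ≤ Y) (nW : R ≤ N(W)) (h1 : ∀ r ∈ R, t * r * t⁻¹ * r⁻¹ ∈ Y) : #R * #W ≤ #(R ⊓ cmr t W) * #Y := by
  classical
  have := FX.idx_le (K := R ⊓ cmr t W) (X := R) (ι := Y ⧸ W.subgroupOf Y)
    (fun r => if h : r ∈ R then QuotientGroup.mk ⟨_, h1 r h⟩ else QuotientGroup.mk 1) fun x hx y hy e => by
      simp only [hx, hy, dif_pos] at e
      have m := mul_mem (inv_mem hx) hy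
      refine ⟨m, nW m, ?_⟩
      convert conj_mem_of_norm' (nW hx) (mem_subgroupOf.1 ((QuotientGroup.eq (s := W.subgroupOf Y)).1 e)) using 1
      simp only [Subgroup.coe_mul, Subgroup.coe_inv]; group
  have e1 := card_inf_mul_relIndex (R ⊓ cmr t W) R
  have e2 := card_inf_mul_relIndex W Y
  rw [inf_eq_left.2 inf_le_left] at e1
  rw [inf_eq_left.2 l] at e2
  rw [← e1, mul_assoc]
  refine Nat.mul_le_mul_left _ ?_
  rw [← e2, mul_comm]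
  exact Nat.mul_le_mul_left _ this

/-- the elements of an abelian group inverted by `t` -/
def ivs (ab : X ≤ C(X)) (t : G) : Subgroup G where
  carrier := {x | x ∈ X ∧ t * x * t⁻¹ = x⁻¹}
  one_mem' := ⟨one_mem _, by simp⟩
  mul_mem' := fun {x y} hx hy => ⟨mul_mem hx.1 hy.1, by
    rw [cm' ab hx.1 hy.1, mul_inv_rev, ← hx.2, ← hy.2, conj_mul, cm' ab hx.1 hy.1]⟩
  inv_mem' := fun {x} hx => ⟨inv_mem hx.1, by rw [← conj_inv, hx.2]⟩

theorem mem_sup_zp (n : r ∈ N(X)) (sq : r * r ∈ X) (hx : x ∈ X ⊔ zpowers r) : x ∈ X ∨ x * r⁻¹ ∈ X := by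
  obtain ⟨y, hy, _, ⟨i, rfl⟩, rfl⟩ := (mem_sup_of_norm (zpowers_le' n)).1 hx
  have r2 : ∀ j : ℤ, r ^ (2 * j) ∈ X := fun j => by rw [zpow_mul, zpow_two]; exact zpow_mem sq j
  rcases Int.even_or_odd' i with ⟨j, rfl | rfl⟩
  · exact .inl (mul_mem hy (r2 j))
  · exact .inr (by simpa [zpow_add_one, mul_assoc] using mul_mem hy (r2 j))

theorem tcm' (tt : t * t = 1) (y : G) : t * (y * t * y⁻¹ * t⁻¹) * t⁻¹ = (y * t * y⁻¹ * t⁻¹)⁻¹ := by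
  have ti : t⁻¹ = t := inv_eq_of_mul_eq_one_left tt
  rw [ti]
  calc _ = (t * y * t * y⁻¹) * (t * t) := by group
    _ = _ := by rw [tt]; simp only [mul_inv_rev, ti, inv_inv, mul_one, mul_assoc]

theorem conj_inv' (t y : G) : t * y⁻¹ * t⁻¹ = (t * y * t⁻¹)⁻¹ := by group

theorem c2_card (l : K ≤ X) (c : #X ≤ 2 * #K) : C2 K X := c2_of (by
  have := card_mul_relIndex l
  exact Nat.le_of_mul_le_mul_left (by omega) (card_pos K))

theorem C2.odd (c : C2 K X) (hx : x ∈ X) (o : PiE {2}ᶜ x) : x ∈ K := by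
  obtain ⟨j, hj⟩ := Nat.not_even_iff_odd.1 (mt even_iff_two_dvd.1 ((piN_compl_singleton Nat.prime_two).1 o))
  have := c.sq (pow_mem hx (j + 1))
  rwa [← pow_add, show j + 1 + (j + 1) = orderOf x + 1 by omega, pow_succ, pow_orderOf_eq_one, one_mul] at this

/-- the exceptional configuration -/
structure Gm (σ : F →+* F) (t : G) (E Q Z T W R : Subgroup G) (ζ ω : G → F) : Prop where
  WR : W ≤ R
  RQ : R ≤ C(Q)
  pR : PG 2 R
  nT : T ≤ N(R)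
  tW : ∀ r ∈ R, r * t * r⁻¹ * t⁻¹ ∈ W
  sq : ∀ r ∈ R, r * r ∈ Z
  ker : ∀ r ∈ R, da ω t r = 0 → r ∈ W
  on : ∀ l, σ l = l → ∃ r ∈ R, da ω t r = l
  mx : ∀ k ∈ cmod Q Z, k ∈ cmod (W ⊔ E) W → E2 k → k ∈ Q ⊔ R ⊔ E
  g2 : ∀ r ∈ R, ∀ y ∈ W, ζ (r * y * r⁻¹ * y⁻¹) * ζ (r * y * r⁻¹ * y⁻¹) = da ω t r * ω y

namespace Pc
variable (o : Pc σ q t E U L Q Z T W P a ζ κ ω h0 h1 m0 m1 1) (γ : Gm σ t E Q Z T W R ζ ω) (h2 : #E = 2)
include o

theorem sqW (hy : y ∈ W) : ζ (y * y) = ω y := by simp [(o.sqP y (o.WP hy)).2, o.aW hy, o.κW y hy]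
theorem ivW (hy : y ∈ W) : t * y * t⁻¹ = y⁻¹ := by
  have := o.co.zinj (o.cmP y (o.WP hy) t o.tP).1 (o.sqP y (o.WP hy)).1 ((o.cmt (o.WP hy)).trans (o.sqW hy).symm)
  rw [← inv_inj, inv_inv, ← mul_right_inj y, ← this]; group

include γ
theorem FQ : Q ⊔ R ≤ Q ⊔ C(Q) := sup_le_sup_left γ.RQ Q
theorem FZ : Q ⊔ R ≤ C(Z) := (o.FQ γ).trans o.co.QCZ
theorem ZF : Z ≤ Q ⊔ R := o.ZQ.trans le_sup_left
theorem P0F : Q ⊔ W ≤ Q ⊔ R := sup_le_sup_left γ.WR Q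
theorem pF : PG 2 (Q ⊔ R) := o.co.pQ.sup γ.pR (norms_of_cents γ.RQ)
theorem mF (h : x ∈ Q ⊔ R) : ∃ u ∈ Q, ∃ r ∈ R, x = u * r := (mem_sup_of_norm (norms_of_cents γ.RQ)).1 h
theorem sqF (h : x ∈ Q ⊔ R) : x * x ∈ Z := by
  obtain ⟨u, hu, r, hr, rfl⟩ := o.mF γ h
  rw [mul_assoc, ← mul_assoc r, ← cm (γ.RQ hr) hu, mul_assoc, ← mul_assoc]
  exact mul_mem (o.sq u hu).1 (γ.sq r hr)
theorem cF (h : x ∈ Q ⊔ R) (h' : y ∈ Q ⊔ R) : x * y * x⁻¹ * y⁻¹ ∈ Z :=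
  cm_of_sq (norms_of_cents (o.FZ γ)) (fun _ => o.sqF γ) h h'
theorem ur (hu : u ∈ Q) (hr : r ∈ R) (c : y ∈ C(Q)) (h : r * y * r⁻¹ * y⁻¹ ∈ W) :
    u * r * y * (u * r)⁻¹ * y⁻¹ = r * y * r⁻¹ * y⁻¹ := by
  rw [show u * r * y * (u * r)⁻¹ * y⁻¹ = u * (r * y * r⁻¹ * y⁻¹) * u⁻¹ * (u * y * u⁻¹ * y⁻¹) by group,
    cj_comm' (cm (o.WQ h) hu), cm1 (cm c hu), mul_one]
theorem tF (h : x ∈ Q ⊔ R) : x * t * x⁻¹ * t⁻¹ ∈ W := by
  obtain ⟨u, hu, r, hr, rfl⟩ := o.mF γ h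
  rw [o.ur γ hu hr o.st.tQ (γ.tW r hr)]; exact γ.tW r hr
theorem ωF (h : x ∈ Q ⊔ R) (hy : y ∈ W) : x * y * x⁻¹ ∈ W ∧ ω (x * y * x⁻¹) = ω y := by
  have m := o.cF γ h (mem_sup_right (γ.WR hy))
  have := (o.zm m (o.WP hy)).2.2
  rw [inv_mul_cancel_right] at this
  exact ⟨by simpa using mul_mem (o.ZW m) hy, this⟩
theorem adF : Ad (da ω t) (Q ⊔ R) := fun k hk l hl => by
  unfold da
  rw [show k * l * t * (k * l)⁻¹ * t⁻¹ = k * (l * t * l⁻¹ * t⁻¹) * k⁻¹ * (k * t * k⁻¹ * t⁻¹) by group,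
    o.ωad _ (o.WP (o.ωF γ hk (o.tF γ hl)).1) _ (o.WP (o.tF γ hk)), (o.ωF γ hk (o.tF γ hl)).2, add_comm]
theorem kF (h : x ∈ Q ⊔ R) (e : da ω t x = 0) : x ∈ Q ⊔ W := by
  obtain ⟨u, hu, r, hr, rfl⟩ := o.mF γ h
  rw [da, o.ur γ hu hr o.st.tQ (γ.tW r hr)] at e
  exact mul_mem_sup hu (γ.ker r hr e)
theorem gF (h : x ∈ Q ⊔ R) (hy : y ∈ W) : ζ (x * y * x⁻¹ * y⁻¹) * ζ (x * y * x⁻¹ * y⁻¹) = da ω t x * ω y := by
  obtain ⟨u, hu, r, hr, rfl⟩ := o.mF γ h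
  rw [da, o.ur γ hu hr o.st.tQ (γ.tW r hr), o.ur γ hu hr (o.WQ hy)
    (o.ZW (o.cF γ (mem_sup_right hr) (mem_sup_right (γ.WR hy))))]
  exact γ.g2 r hr y hy
theorem dP (h : x ∈ P) : da ω t x = 0 := o.ωZ (o.cmP x h t o.tP).1
theorem cardF : #(Q ⊔ R) = q ^ 5 := by
  rw [(o.adF γ).card_eq (o.P0F γ) (fun x hx => ⟨fun k => o.dP γ (o.P0P k), o.kF γ hx⟩) (I := {x | σ x = x})
    (fun x hx => o.ωf _ (o.WP (o.tF γ hx))) fun y hy => let ⟨u, hu, e⟩ := γ.on y hy; ⟨u, mem_sup_right hu, e⟩, o.cardP0,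
    o.fl.card0]; ring
theorem tcj (hy : y ∈ W) : ∃ w ∈ R, w * t * w⁻¹ = y * t := by
  obtain ⟨r, hr, e⟩ := γ.on _ (o.ωf y (o.WP hy))
  have m := γ.tW r hr
  obtain ⟨z, hz, e'⟩ := o.eqz (o.WP hy) (o.WP m) (by rw [o.aW hy, o.aW m]) (by rw [o.κW _ hy, o.κW _ m]) e.symm
  have m' := mul_mem (o.WP m) o.tP
  obtain ⟨w, hw, e2⟩ := o.trW hz m' (by rw [o.κad _ (o.WP m) _ o.tP, o.κW _ m, o.κt, zero_add]; exact one_ne_zero)
  exact ⟨w * r, mul_mem (γ.WR hw) hr, by rw [e', mul_assoc z, ← e2]; group⟩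
theorem d4 (h : x ∈ Q ⊔ R) (e : x * t * (x * t) ∈ Z) : x ∈ Q ⊔ W := inv_mem_iff.1 (o.kF γ (inv_mem h) (o.ωZ (by
  convert mul_mem (inv_mem (o.sqF γ h)) e using 1; rw [o.st.ti']; group)))
theorem tcF (h : x ∈ Q ⊔ R) (e : x * t * (x * t) = 1) : ∃ w ∈ R, w * t * w⁻¹ = x * t := by
  have m := o.d4 γ h (e ▸ one_mem Z)
  have := (o.sqe (mul_mem (o.P0P m) o.tP)).1 e
  rw [o.aad _ (o.P0P m) _ o.tP, o.κad _ (o.P0P m) _ o.tP, o.at', o.κP0 m, o.κt, add_zero, zero_add, o.fl.aa, zero_mul,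
    add_zero, o.fl.n0] at this
  exact o.tcj γ (o.mW (o.P0P m) this (o.κP0 m))
theorem FZn (n : g ∈ N(Q ⊔ R)) : g ∈ N(Z) := mem_norm_of fun z hz => by
  obtain ⟨u, hu, rfl⟩ := o.co.zsq hz
  convert o.sqF γ (conj_mem_of_norm n (mem_sup_left hu)) using 1; group
theorem TF : T ⊔ R ≤ N(Q ⊔ R) := norms_sup (sup_le o.st.TQ (γ.RQ.trans (cent_le_norm Q))) (sup_le γ.nT le_normalizer)
theorem Rct (y : G) (hy : y ∈ R) (c : y ∈ C[t]) : y ∈ Z :=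
  have := γ.ker y hy (by rw [da, cm1 (mem_cent1.1 c), o.ωad.one]); o.ωW y this (o.ct (o.WP this) c)
theorem t0F : t ∉ Q ⊔ R := fun h => by simpa [o.κt] using o.κP0 (o.kF γ h (o.dP γ o.tP))

include h2
omit γ in
theorem noT (pX : PG 2 X) (n : Q ≤ N(X)) (cZ : X ≤ C(Z)) (sq : ∀ x ∈ X, x * x ∈ Z) (c : #X = q ^ 5) : t ∉ X := fun h => by
  have cX := fun x hx y hy => cm_of_sq (r := x) (s := y) (norms_of_cents cZ) sq hx hy
  have k := FX.cent_bd fun x hx => cX x hx t h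
  have q4 := o.fl.q4
  have pB := pX.infl C[t]
  have l : ∀ x ∈ X ⊓ C[t], x ∈ cmod Q Z → x ∈ E ⊔ Q := fun x hx v => o.st.cv2 hx.2 v (pB.elt hx)
  rw [c, o.co.cardZ, pow_succ] at k
  have k := Nat.le_of_mul_le_mul_right k (by omega)
  rcases o.co.rb (K := E ⊔ Z) pB (o.st.nQ_of pB inf_le_right (norms_inf n (norms_of_le o.st.QC)))
    (fun x hx => o.PQv (o.ZP (sq x hx.1))) (fun x hx y hy => o.co.ZC (cX x hx.1 y hy.1)) (fun x hx v => o.st.EQQ (l x hx v))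
    fun x hx v => o.st.cq2 hx.2 v (pB.elt hx) with k' | k'
  · have := H19.card_le fun x hx => l x hx (k' hx)
    rw [o.st.cardEQ, h2] at this
    have : 0 < q ^ 3 := by positivity
    nlinarith
  · rw [o.st.cardA, h2] at k'
    have : 0 < q ^ 2 := by positivity
    nlinarith

theorem uqF (n : E ⊔ Q ≤ cj g N(Q ⊔ R)) : g ∈ N(Q ⊔ R) := by
  have q4 := o.fl.q4
  have tE : t ∈ E ⊔ Q := mem_sup_left o.tE
  have cE : ∀ {Y : Subgroup G}, t ∈ Y → E ≤ Y := fun h e he => (o.st.two_mem h2 he).elim (· ▸ one_mem _) (· ▸ h)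
  have nZ : E ⊔ Q ≤ N(cj g Z) := by rw [← cj_norm]; exact n.trans (cj_mono g fun _ => o.FZn γ)
  have nA : ∀ x ∈ C(Z), x * t * x⁻¹ * t⁻¹ ∈ Z → x ∈ N(E ⊔ Z) := fun x c h => norm_of_cmod (Y := Z) le_sup_right fun y hy =>
    ((sup_le (cE ⟨cent_le_norm Z (o.PZ o.tP), h⟩) fun z hz =>
      ⟨le_normalizer hz, cm1 (cm c hz).symm ▸ one_mem Z⟩ : E ⊔ Z ≤ cmr x Z) hy).2
  have eZ : cj g Z = Z := cj_of_mem_norm (o.zeq (le_sup_right.trans nZ) (by_contra fun k => by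
    have lB := o.zle (B := cj g Z ⊓ C[t]) (fun x hx => (o.cjz hx.1).1) (fun x hx => (o.cjz hx.1).2) inf_le_right
      (norms_inf (le_sup_right.trans nZ) (norms_of_le o.st.QC))
    obtain ⟨z, hz, z0, -, -, c⟩ := ela (o.co.pZ.J g) o.st.pEQ nZ (norms_inf nZ (norms_of_le o.st.EQC))
      (inf_lt_left.2 k)
    have cQ := fun u hu => lB (c u (mem_sup_right hu))
    have nq := norm_of_cmod o.ZQ cQ
    have v : z ∈ cmod Q Z := ⟨nq, o.co.nZ nq, cQ⟩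
    have m := o.hP (nA z (o.co.cvZ v) (lB (c t tE))) (e2_inv (o.cjz hz).1) v
    have s := (o.sqe m).1 (o.cjz hz).1
    obtain ⟨-, -, -, -, e, he, -, -, -, e3⟩ := o.dec m
    rcases o.st.two_mem h2 he with rfl | rfl
    · rw [o.κad.one] at e3
      have a0 : a z ≠ 0 := fun e => z0 ⟨hz, mem_cent1.2 ((o.cme m o.tP).2 (by simpa [e, e3, o.at', o.κt] using s))⟩
      refine z0 ⟨hz, o.st.ZCt ((eq_of_le_of_card_eq (fun y hy => ?_) (card_cj g Z).symm).ge hz)⟩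
      obtain ⟨v, hv⟩ := o.fl.bsurj a0 (o.zf y hy)
      obtain ⟨u, hu, rfl⟩ := o.asj v
      exact o.co.zinj (cQ u hu) hy (by rw [(o.co.cmx (o.PQ m) hu).2, hv]) ▸ (c u (mem_sup_right hu)).1
    · rw [e3, o.κt, o.fl.aa, zero_mul, add_zero, o.fl.n0] at s
      have m' := mul_mem m o.tP
      obtain ⟨w, -, k⟩ := o.tcj γ (o.mW m' (by rw [o.aad _ m _ o.tP, s, o.at', add_zero])
        (by rw [o.κad _ m _ o.tP, e3, o.fl.aa]))
      rw [mul_assoc z, o.st.tt, mul_one] at k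
      exact (o.cjz hz).2 (k ▸ (dc_of o.tE o.t1).J w)))
  have pX := (o.pF γ).J g
  have cX : #(cj g (Q ⊔ R)) = q ^ 5 := by rw [card_cj, o.cardF γ]
  have sq : ∀ r ∈ cj g (Q ⊔ R), r * r ∈ Z := fun x hx => eZ.le (mem_cj.2 (by
    convert o.sqF γ (mem_cj.1 hx) using 1; group))
  have cZ : cj g (Q ⊔ R) ≤ C(Z) := by rw [← eZ, ← cj_cent]; exact cj_mono g (o.FZ γ)
  have ZX : Z ≤ cj g (Q ⊔ R) := eZ.ge.trans (cj_mono g (o.ZF γ))
  rw [cj_norm] at n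
  rw [mem_norm_iff_cj]
  generalize cj g (Q ⊔ R) = X at *
  have cm2 := fun x hx y hy => cm_of_sq (r := x) (s := y) (norms_of_cents cZ) sq hx hy
  have t0 : ∀ y ∈ W, y * t ∉ X := fun y hy h => by
    obtain ⟨w, hw, e⟩ := o.tcj γ hy
    have c := γ.RQ (inv_mem hw)
    refine o.noT h2 (pX.J w⁻¹) (by rw [← cj_norm, ← cj_of_mem_cent c]; exact cj_mono _ (le_sup_right.trans n))
      (by rw [← cj_of_mem_cent (o.co.CZ c), ← cj_cent]; exact cj_mono _ cZ) (fun x hx => ?_) (by rw [card_cj, cX])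
      (mem_cj_inv.2 (e ▸ h))
    convert conj_mem_of_norm (cent_le_norm Z (o.co.CZ c)) (sq _ (mem_cj_inv.1 hx)) using 1; group
  have t1 : t ∉ X := by simpa using t0 1 W.one_mem
  obtain ⟨k1, -⟩ := half o.st.tt (n tE) (cent_le_norm Z (o.PZ o.tP)) ZX (norms_of_cents cZ) sq
  set Y := X ⊓ cmr t Z
  have nY : Q ≤ N(Y) := fun u hu => mem_norm_of fun y hy => ⟨conj_mem_of_norm (n (mem_sup_right hu)) hy.1,
    cent_le_norm Z (cZ (conj_mem_of_norm (n (mem_sup_right hu)) hy.1)), by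
      have := conj_mem_of_norm (cent_le_norm Z (o.co.QZ hu)) hy.2.2
      rwa [show u * (t * y * t⁻¹ * y⁻¹) * u⁻¹ = u * t * u⁻¹ * (u * y * u⁻¹) * (u * t * u⁻¹)⁻¹ * (u * y * u⁻¹)⁻¹ by group,
        cj_comm' (mem_cent1.1 (o.st.QC hu))] at this⟩
  have ZY : Z ≤ Y := fun z hz => ⟨ZX hz, le_normalizer hz, cm1 (mem_cent1.1 (o.st.ZCt hz)).symm ▸ one_mem Z⟩
  have ab : Z(Y) ≤ C(Z(Y)) := inf_le_right.trans (cent_mono inf_le_left)
  set I := ivs ab t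
  have ZI : Z ≤ I := fun z hz => ⟨⟨ZY hz, cents_symm (inf_le_left.trans cZ) hz⟩, by
    rw [o.co.zi hz, cj_comm' (mem_cent1.1 (o.st.ZCt hz)).symm]⟩
  have kI : ∀ r ∈ X, t * r * t⁻¹ * r⁻¹ ∈ I := fun r hr => by
    refine ⟨⟨k1 r hr, mem_cent.2 fun y hy => (of_cm1 ?_).symm⟩, by
      rw [show t * r * t⁻¹ * r⁻¹ = (r * t * r⁻¹ * t⁻¹)⁻¹ by group, conj_inv', tcm' o.st.tt r]⟩
    have m := conj_mem_of_norm (n tE) hr
    have c1 := cm (cZ m) (cm2 _ (inv_mem hr) y hy.1)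
    have c2 := cm (cZ hr) hy.2.2
    have c3 := mem_cent1.1 (o.st.ZCt (cm2 r hr y hy.1))
    have c4 := cm (cZ hr) (cm2 r hr y hy.1)
    rw [cm_mul (cZ m) (cm2 _ (inv_mem hr) y hy.1)]
    have e1 : t * r * t⁻¹ * y * (t * r * t⁻¹)⁻¹ * y⁻¹ = r * y * r⁻¹ * y⁻¹ := by
      have c5 := cm (cZ hr) (conj_mem_of_norm' (cent_le_norm Z (o.PZ o.tP)) (inv_mem hy.2.2))
      calc _ = t * (r * (t⁻¹ * (t * y * t⁻¹ * y⁻¹)⁻¹ * t) * r⁻¹ * (r * y * r⁻¹ * y⁻¹) *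
            (t⁻¹ * (t * y * t⁻¹ * y⁻¹)⁻¹ * t)⁻¹) * t⁻¹ := by group
        _ = t * (r * y * r⁻¹ * y⁻¹) * t⁻¹ := by
          rw [cj_comm' c5.symm, cj_comm' (cm' (o.co.ZC.trans o.co.CZ)
            (conj_mem_of_norm' (cent_le_norm Z (o.PZ o.tP)) (inv_mem hy.2.2)) (cm2 r hr y hy.1))]
        _ = _ := cj_comm' c3.symm
    rw [e1, ← cj_comm' (cm (cZ (inv_mem hr)) (cm2 r hr y hy.1)).symm]; group
  have k2 := half' ZI (norms_of_cents cZ) kI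
  have IX : I ≤ X := fun x hx => hx.1.1.1
  have k3 : #I ≤ q * q := by
    have := Ad.card_le (f := fun x => ζ (x * x)) (X := I) (K := Z) (fun x hx y hy => by
      beta_reduce
      rw [(o.co.zs2 (cZ (IX hx)) (sq x (IX hx)) (sq y (IX hy)) (cm2 x (IX hx) y (IX hy))).2, cm1 (cm' ab hx.1 hy.1), o.co.z1,
        add_zero]) (fun x hx e => ?_) (I := {x | σ x = x}) fun x hx => o.zf _ (sq x (IX hx))
    · rwa [o.co.cardZ, o.fl.card0] at this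
    have s : ∀ x ∈ I ⊓ C[t], x * x = 1 := fun x hx => by
      have := hx.1.2
      rw [cj_comm' (mem_cent1.1 hx.2).symm] at this
      exact mul_eq_one_iff_eq_inv.2 this
    obtain ⟨e', he, z, hz, rfl⟩ := o.st.mA.1 (o.st.ne s inf_le_right (norms_inf (fun u hu => mem_norm_of fun y hy =>
      ⟨conj_mem_of_norm (norms_inf nY (nY.trans (norm_le_norm_cent Y)) hu) hy.1, by
        conv_lhs => rw [← cj_comm' (mem_cent1.1 (o.st.QC hu))]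
        rw [← conj_inv' u y, ← hy.2]; group⟩) (norms_of_le o.st.QC)) ⟨hx, mem_cent1.2 (comm_of_cj' (hx.2.trans
          (inv_eq_of_mul_eq_one_left (o.z0 _ (sq x (IX hx)) e))))⟩)
    rcases o.st.two_mem h2 he with rfl | rfl
    · simpa using hz
    · exact (t1 ((mul_mem_cancel_right (ZX hz)).1 (IX hx))).elim
  rw [cX, o.co.cardZ] at k2
  have k4 : q ^ 4 ≤ #Y := Nat.le_of_mul_le_mul_right (by nlinarith [Nat.mul_le_mul_left #Y k3]) (show 0 < q * q by positivity)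
  have pY := pX.infl (cmr t Z)
  have YA : Y ≤ N(E ⊔ Z) := fun y hy => nA y (cZ hy.1) (cm_swap hy.2.2)
  have l : ∀ x ∈ Y, x ∈ cmod Q Z → x ∈ P := fun x hx => o.hP (YA hx) (pY.elt hx)
  have YP : Y ≤ P := by
    rcases o.co.rb (K := W) pY (fun x hx => o.MQ (YA hx)) (fun x hx => o.PQv (o.ZP (sq x hx.1)))
      (fun x hx y hy => o.co.ZC (cm2 x hx.1 y hy.1)) (fun x hx v => o.PQ (l x hx v)) fun x hx v => by
        obtain ⟨w, hw, e, he, rfl⟩ := (mem_sup_of_norm o.EW).1 (o.mWE (l x hx (o.co.QCv (mC v))) (o.co.aC v))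
        rcases o.st.two_mem h2 he with rfl | rfl
        · simpa using hw
        · exact (t0 w hw hx.1).elim with k | k
    · exact fun x hx => l x hx (k hx)
    · rw [o.cardW] at k
      have : 0 < q ^ 3 := by positivity
      nlinarith
  have c2 := c2_card YP (by rw [o.cardP, h2]; omega)
  have WY : W ≤ Y := fun y hy => by
    simpa [mul_assoc, o.st.tt] using c2 _ (mul_mem (o.WP hy) o.tP) t o.tP (fun k => t0 y hy k.1) fun k => t1 k.1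
  have IW : I ≤ W := fun x hx => by
    have m := YP hx.1.1
    have e1 := o.cW m (cent_mono WY hx.1.2)
    have := o.cmt m
    rw [show x * t * x⁻¹ * t⁻¹ = x * (t * x * t⁻¹)⁻¹ by group, hx.2, inv_inv, (o.sqP x m).2, e1] at this
    exact o.mW m (o.fl.n0.1 (by simpa using this)) e1
  have k5 : #Y ≤ q ^ 4 := by
    have e := card_mul_relIndex YP
    have : Y.relIndex P ≠ 1 := fun e => t1 (relIndex_eq_one.1 e o.tP).1
    have := relIndex_pos Y P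
    rw [o.cardP, h2] at e
    nlinarith [show 2 ≤ Y.relIndex P by omega]
  have e1 := eq_of_le_of_card_ge IW (by
    rw [o.cardW]
    exact Nat.le_of_mul_le_mul_left (by nlinarith [Nat.mul_le_mul_right #I k5]) (show 0 < q ^ 4 by positivity))
  have e2 := eq_of_le_of_card_ge (H := Y) (o.P0e ▸ le_inf YP (cents_symm fun x hx => (e1.ge hx).1.2)) (o.cardP0 ▸ k4)
  have PX : Q ⊔ W ≤ X := e2.ge.trans inf_le_left
  refine eq_of_le_of_card_eq (fun x hx => ?_) (cX.trans (o.cardF γ).symm)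
  have cQ := fun u hu => cm2 x hx u (PX (mem_sup_left hu))
  have cW := fun u hu => o.ZW (cm2 x hx u (PX (mem_sup_right hu)))
  have nq := norm_of_cmod o.ZQ cQ
  have c3 : ∀ y ∈ W ⊔ E, x * y * x⁻¹ * y⁻¹ ∈ W := fun y hy => ((sup_le (fun y hy => ⟨le_normalizer hy, cW y hy⟩)
    (cE ⟨o.EW o.tE, cm_swap (IW (kI x hx))⟩) : W ⊔ E ≤ cmr x W) hy).2
  obtain ⟨p, hp, e, he, rfl⟩ := (mem_sup_of_norm ((o.st.ET.trans le_sup_left).trans (o.TF γ))).1 (γ.mx x ⟨nq, o.co.nZ nq, cQ⟩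
    ⟨norm_of_cmod le_sup_left c3, norm_of_cmod le_rfl cW, c3⟩ (pX.elt hx))
  rcases o.st.two_mem h2 he with rfl | rfl
  · simpa using hp
  · exact (t1 ((mul_mem_cancel_left (PX (o.d4 γ hp (sq _ hx)))).1 hx)).elim

end Pc
end H17.GM
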