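/-
Standard `U₃(2ⁿ)` with odd core, part 1: case I and the step lemma.
-/
import Cfsg.Agent.H17.GN0

set_option autoImplicit false
set_option linter.unusedSectionVars false

namespace H17.GN
open Cfsg Subgroup H18 H17.GS H17.TS
open H17.GM hiding St Pc
open H19 hiding eq_bot_mono

universe u

variable {G : Type u} [Group G] [Finite G] {A B D E H K L M P Q R S T U V W X Y Y' Z : Subgroup G}
  {b c d e g h j k r s t u v w x y z h0 h1 : G} {F : Type*} [Field F] [Finite F] {σ : F →+* F} {q m : ℕ} {a ζ : G → F}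
  {m0 m1 : F}

namespace St
variable (o : St σ q t E U L Q Z T a ζ h0 h1 m0 m1)
include o

theorem n2E (h2 : E2 x) (n : x ∈ N(E)) : x ∈ C[t] := by
  obtain ⟨y, hy, k, c⟩ := fixinv1 h2 n o.tE (FX.ord2 o.tt o.t1)
  exact o.CE y hy (ne_one_of_ord2 k) ▸ mem_cent1_symm.1 c

theorem c2U (h2 : #E = 2) : C2 U C[t] := fun x hx y hy x0 y0 => by
  obtain ⟨e, he, u, hu, rfl⟩ := o.dc x hx
  obtain ⟨e', he', v, hv, rfl⟩ := o.dc y hy
  obtain rfl := (o.two_mem h2 he).resolve_left (by rintro rfl; exact x0 (by simpa using hu))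
  obtain rfl := (o.two_mem h2 he').resolve_left (by rintro rfl; exact y0 (by simpa using hv))
  rw [mul_assoc, ← mul_assoc u, o.ec he (o.UC hu), mul_assoc, ← mul_assoc, o.tt, one_mul]
  exact mul_mem hu hv

theorem tU : t ∉ U := fun h => o.t1 (o.eq1 o.tE h)

theorem c1N (h2 : #E = 2) (hI : ∀ x ∈ E ⊔ Z, Dc E x → x ∈ E) (n : g ∈ N(T)) : g ∈ C[t] := by
  have m := conj_mem_of_norm n o.tT
  have c : g * t * g⁻¹ ∈ C(T) := by
    rw [← cj_of_mem_norm n, ← cj_cent, conj_mem_cj]; exact le_cent1_iff.1 o.sylT.le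
  have := hI _ (o.cq2 (o.sylT.le m) (cent_mono o.QT c) (o.pT.elt m)) ((dc_of o.tE o.t1).J g)
  exact mem_cent1.2 (comm_of_cj ((o.two_mem h2 this).resolve_left (mt conj_eq_one_iff.1 o.t1)))

theorem hcZ : Hc t Q Z Z 0 :=
  ⟨o.co.ZC.trans o.co.CZ, le_rfl, o.co.ZC, fun _ _ => o.co.nZ, fun y hy => by
    rw [o.co.zi hy, cj_comm' (mem_cent1.1 (o.ZCt hy)).symm], fun _ hy _ => hy, fun y hy => by simpa [pow_two] using o.co.zz hy,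
    fun z hz => ⟨z, hz, by simp⟩⟩

theorem Z0N : (U ⊓ C(L)) ≤ C[t] ⊓ cmod Q Z := le_inf (inf_le_left.trans o.UC)
  ((inf_le_right.trans (cent_mono o.QL)).trans (le_sup_right.trans o.co.QCv))

section Step
variable (i : Hc t Q Z Y m)
include i

theorem lad : Ad (lv ζ m) Y := fun x hx y hy => by
  unfold lv; rw [i.mp hx hy, o.zad _ (i.pz hx) _ (i.pz hy)]
theorem lsq (hy : y ∈ Y) (e : lv ζ m y = 0) : ∃ x ∈ Y, x * x = y := i.sqrt m le_rfl hy (o.z0 _ (i.pz hy) e)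
theorem lcz (hk : k ∈ C(Z)) (hy : y ∈ Y) : lv ζ m (k * y * k⁻¹) = lv ζ m y := by
  unfold lv; rw [conj_pow, cj_comm' (cm hk (i.pz hy)).symm]
theorem lsc {l : F} (ha : Act Q a c l id) (hy : y ∈ Y) : lv ζ m (c * y * c⁻¹) = l * σ l * lv ζ m y := by
  unfold lv; rw [conj_pow, o.co.actz1 ha (i.pz hy)]
theorem lfix (hy : y ∈ Y) : σ (lv ζ m y) = lv ζ m y := o.zf _ (i.pz hy)
theorem lon {l : F} (hl : σ l = l) : ∃ y ∈ Y, lv ζ m y = l := by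
  obtain ⟨z, hz, rfl⟩ := o.co.zsj hl
  obtain ⟨y, hy, rfl⟩ := i.on z hz
  exact ⟨y, hy, rfl⟩
theorem l2 (hy : y ∈ Y) : lv ζ m (y * y) = 0 := by rw [o.lad i y hy y hy, o.fl.aa]
theorem linv (hy : y ∈ Y) : lv ζ m y⁻¹ = lv ζ m y := by rw [(o.lad i).inv hy, o.fl.neg]
theorem EY : E ≤ N(Y) := fun e he => i.nr e (o.EC he) (cent_le_norm Q (o.EQ he))
theorem nYE (hc : c ∈ C[t]) (n : c ∈ N(Q)) : c ∈ N(Y ⊔ E) :=
  norms_sup (zpowers_le' (i.nr c hc n)) (zpowers_le' (cent_le_norm E (o.CEc hc))) (mem_zpowers c)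
theorem Z0Y : (U ⊓ C(L)) ≤ C(Y) := fun _ hz =>
  i.cent (i.nr _ (o.Z0N hz).1 (o.Z0N hz).2.1) (o.oD.elt hz) (o.co.cvZ (o.Z0N hz).2)
theorem h1Y : h1 ∈ C(Y) := i.cent (i.nr _ o.h1C o.h1a.n)
  (let ⟨j, e, _⟩ := o.h1e; e ▸ (odd_pi o.h0o).e_pow j) o.h1Z

theorem kY (n : k ∈ N(Y)) (hk : ∀ e ∈ E, k * e * k⁻¹ * e⁻¹ ∈ Y) : k ∈ cmod (Y ⊔ E) Y := by
  have : ∀ x ∈ Y ⊔ E, k * x * k⁻¹ * x⁻¹ ∈ Y := fun x hx => by
    obtain ⟨y, hy, e, he, rfl⟩ := (mem_sup_of_norm (o.EY i)).1 hx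
    convert mul_mem (mul_mem (conj_mem_of_norm n hy) (hk e he)) (inv_mem hy) using 1; group
  exact ⟨norm_of_cmod le_sup_left this, n, this⟩

theorem cK (hc : c ∈ C[t]) (n : c ∈ N(Q)) : c ∈ cmod (Y ⊔ E) Y :=
  o.kY i (i.nr c hc n) fun e he => by rw [o.ec he hc]; simp

theorem dad : Ad (dv ζ m t) (cmod Q Z ⊓ cmod (Y ⊔ E) Y) := fun k hk l hl => by
  have t1 : t ∈ Y ⊔ E := mem_sup_right o.tE
  unfold dv
  rw [show k * l * t * (k * l)⁻¹ * t⁻¹ = k * (l * t * l⁻¹ * t⁻¹) * k⁻¹ * (k * t * k⁻¹ * t⁻¹) by group,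
    o.lad i _ (conj_mem_of_norm hk.2.2.1 (hl.2.2.2 t t1)) _ (hk.2.2.2 t t1), o.lcz i (o.co.cvZ hk.1) (hl.2.2.2 t t1),
    add_comm]

theorem dsc {l : F} (hc : c ∈ C[t]) (ha : Act Q a c l id) (hk : k * t * k⁻¹ * t⁻¹ ∈ Y) :
    dv ζ m t (c * k * c⁻¹) = l * σ l * dv ζ m t k := by
  unfold dv
  rw [← o.lsc i ha hk]
  conv_lhs => rw [← cj_comm' (mem_cent1.1 hc)]
  congr 1; group

theorem dC (hc : c ∈ C[t]) : dv ζ m t c = 0 := by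
  unfold dv; rw [mem_cent1.1 hc]; simpa using (o.lad i).one
theorem dY (hy : y ∈ Y) : dv ζ m t y = 0 := by unfold dv; rw [i.tcm hy, o.l2 i hy]

theorem kg (n1 : g ∈ N(Q)) (n2 : g ∈ N(Y)) (n3 : g ∈ N(Y ⊔ E)) (hy : y ∈ Y) (y0 : lv ζ m y ≠ 0)
    (e : y * t ∈ cj g E) : ∃ k ∈ cmod Q Z ⊓ cmod (Y ⊔ E) Y, dv ζ m t k ≠ 0 := by
  obtain ⟨c, -, τ, ha⟩ := o.co.sl n1
  obtain ⟨j, hj⟩ := o.fl.aut τ
  have a1 := ha.cj o.h0a
  have a2 := (o.h0a.pow (2 ^ j)).inv (pow_ne_zero _ o.m00)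
  have k1 := cmod_cj n3 n2 (o.cK i o.h0C o.h0a.n)
  have c1 : g * h0 * g⁻¹ ∈ C(cj g E) := by rw [← cj_cent]; exact conj_mem_cj.2 (o.CEc o.h0C)
  have c2 : (h0 ^ 2 ^ j)⁻¹ ∈ C[t] := inv_mem (pow_mem o.h0C _)
  rw [← hj] at a2
  have t0 : τ m0 ≠ 0 := by simpa using o.m00
  have t1 : τ m0 * σ (τ m0) ≠ 1 := by
    rw [o.fl.comm, ← map_mul]; exact fun e => o.n01 (τ.injective (e.trans (map_one τ).symm))
  generalize g * h0 * g⁻¹ = h at *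
  generalize (h0 ^ 2 ^ j)⁻¹ = h' at *
  refine ⟨h' * h, ⟨o.co.cv_iff.2 (inv_mul_cancel₀ t0 ▸ a2.smul a1), mul_mem (o.cK i c2 a2.n) k1⟩, ?_⟩
  have m1 := conj_mem_of_norm k1.2.1 (inv_mem hy)
  have : h' * h * t * (h' * h)⁻¹ * t⁻¹ = h' * (h * y⁻¹ * h⁻¹ * y) * h'⁻¹ := by
    calc _ = h' * (h * y⁻¹ * h⁻¹ * (h * (y * t) * h⁻¹)) * h'⁻¹ * t⁻¹ := by group
      _ = h' * (h * y⁻¹ * h⁻¹ * y) * h'⁻¹ * (h' * t * h'⁻¹) * t⁻¹ := by rw [cj_comm' (cm c1 e).symm]; group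
      _ = _ := by rw [cj_comm' (mem_cent1.1 c2)]; group
  unfold dv
  rw [this, o.lsc i a2 (mul_mem m1 hy), o.lad i _ m1 _ hy, o.lsc i a1 (inv_mem hy), o.linv i hy, ← add_one_mul]
  exact mul_ne_zero (mt o.fl.n0.1 (inv_ne_zero t0)) (mul_ne_zero (mt o.fl.add_eq.1 t1) y0)

theorem kerd (hk : k ∈ cmod Q Z ⊓ cmod (Y ⊔ E) Y) (e : dv ζ m t k = 0) :
    ∃ p ∈ Q ⊔ Y ⊔ E, ∃ y ∈ (U ⊓ C(L)), k = p * y := by
  obtain ⟨x, hx, k1⟩ := o.lsq i (hk.2.2.2 t (mem_sup_right o.tE)) e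
  have c : x⁻¹ * k ∈ C[t] := mem_cent1.2 (comm_of_cj (by
    calc _ = x⁻¹ * (k * t * k⁻¹ * t⁻¹) * (t * x * t⁻¹) * t := by group
      _ = _ := by rw [← k1, i.iv x hx]; group))
  obtain ⟨e, he, u, hu, y, hy, k2⟩ := o.cvd c (mul_mem (inv_mem (o.co.QCv (mC (i.YQ hx)))) hk.1)
  exact ⟨x * e * u, mul_mem (mul_mem (mem_sup_left (mem_sup_right hx)) (mem_sup_right he)) (mem_sup_left (mem_sup_left hu)),
    y, hy, by rw [eq_mul_of_inv_mul_eq k2]; group⟩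

theorem step (hE : #E = 2 ∨ Y = Z) (hk : ∃ k ∈ cmod Q Z ⊓ cmod (Y ⊔ E) Y, dv ζ m t k ≠ 0) :
    ∃ Y', Sp σ t h1 E Q Z Y Y' ζ m := by
  set K := cmod Q Z ⊓ cmod (Y ⊔ E) Y with hK
  have ad := o.dad i
  have tY : ∀ k ∈ K, k * t * k⁻¹ * t⁻¹ ∈ Y := fun k hk => hk.2.2.2 t (mem_sup_right o.tE)
  have nK : ∀ c ∈ C[t], c ∈ N(Q) → c ∈ N(K) := fun c hc n => norms_inf (zpowers_le' (cmod_norm n (o.co.nZ n)))
    (zpowers_le' (cmod_norm (o.nYE i hc n) (i.nr c hc n))) (mem_zpowers c)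
  have CK : C[t] ⊓ cmod Q Z ≤ K := fun c hc => ⟨hc.2, o.cK i hc.1 hc.2.1⟩
  have YK : Y ≤ K := fun y hy => ⟨o.co.QCv (mC (i.YQ hy)), o.kY i (le_normalizer hy) fun e he => comm_mem_l hy (o.EY i he)⟩
  have EQK : E ⊔ Q ≤ K := fun x hx => CK ⟨o.EQC hx, o.co.QCv (o.EQQ hx)⟩
  have PK : Q ⊔ Y ⊔ E ≤ K := sup_le (sup_le (le_sup_right.trans EQK) YK) (le_sup_left.trans EQK)
  have nQY : E ≤ N(Q ⊔ Y) := norms_sup (norms_of_cents o.EQ) (o.EY i)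
  have pP : PG 2 (Q ⊔ Y ⊔ E) := (o.co.pQ.sup i.pg (norms_of_cents i.YQ)).sup o.pE nQY
  have ZP : (U ⊓ C(L)) ≤ C(Q ⊔ Y ⊔ E) := cents_sup (cents_sup (o.Z0c.trans (cent_mono le_sup_right)) (o.Z0Y i))
    (o.Z0c.trans (cent_mono le_sup_left))
  have d0 : ∀ p ∈ Q ⊔ Y ⊔ E, dv ζ m t p = 0 := fun p hp =>
    ((sup_le (sup_le (fun u hu => ⟨PK (mem_sup_left (mem_sup_left hu)), o.dC i (o.QC hu)⟩) fun u hu => ⟨YK hu, o.dY i hu⟩)
      fun u hu => ⟨PK (mem_sup_right hu), o.dC i (o.EC hu)⟩ : Q ⊔ Y ⊔ E ≤ ad.ker) hp).2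
  have on : ∀ l, σ l = l → ∃ k ∈ K, dv ζ m t k = l := fun l hl => by
    by_cases l0 : l = 0
    · exact ⟨1, one_mem _, l0 ▸ ad.one⟩
    obtain ⟨k, hk, k0⟩ := hk
    obtain ⟨j, hj⟩ := o.hN (l := l / dv ζ m t k) (by rw [map_div₀, hl, dv, o.lfix i (tY k hk)]) (div_ne_zero l0 k0)
    exact ⟨_, conj_mem_of_norm (nK _ (pow_mem o.h0C j) (o.h0a.pow j).n) hk, by
      rw [o.dsc i (pow_mem o.h0C j) (o.h0a.pow j) (tY k hk), hj, div_mul_cancel₀ _ k0]⟩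
  have n1 : m0 * σ m0 + 1 ≠ 0 := mt o.fl.add_eq.1 o.n01
  have dh : ∀ k ∈ K, dv ζ m t (h0 * k * h0⁻¹ * k⁻¹) = (m0 * σ m0 + 1) * dv ζ m t k := fun k hk => by
    rw [ad _ (conj_mem_of_norm (nK _ o.h0C o.h0a.n) hk) _ (inv_mem hk), ad.inv hk, o.fl.neg,
      o.dsc i o.h0C o.h0a (tY k hk), add_one_mul]
  have dfx : ∀ k ∈ K, σ (dv ζ m t k) = dv ζ m t k := fun k hk => o.lfix i (tY k hk)
  obtain ⟨R, pR, RK, mR, nR, kR, -, cZ0⟩ := sylK' o.fl.aa ad PK pP (le_trans o.Z0N CK) o.oD ZP (fun k hk => o.kerd i hk)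
    (fun y hy => o.dC i (o.Z0N hy).1) (nK _ o.h0C o.h0a.n) (cents_symm inf_le_right o.h0L) fun k hk => by
      obtain ⟨k', hk', e⟩ := on (dv ζ m t k / (m0 * σ m0 + 1)) (by rw [map_div₀, dfx k hk, map_add, o.fl.nfix, map_one])
      exact ⟨k', hk', by rw [dh _ hk', e, mul_div_cancel₀ _ n1]⟩
  have PR : Q ⊔ Y ⊔ E ≤ R := fun p hp => mR p (PK hp) (pP.elt hp)
  have mP : ∀ p ∈ Q ⊔ Y ⊔ E, ∃ u ∈ Q, ∃ x ∈ Y ⊔ E, p = u * x := fun p hp =>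
    (mem_sup_of_norm (sup_le (norms_of_cents i.YQ) (norms_of_cents o.EQ))).1 (sup_assoc Q Y E ▸ hp)
  have YEQ : Y ⊔ E ≤ C(Q) := sup_le i.YQ o.EQ
  have mYE : ∀ p ∈ Q ⊔ Y ⊔ E, p ∈ C(Q) → p ∈ Y ⊔ E := fun p hp c => by
    obtain ⟨u, hu, x, hx, rfl⟩ := mP p hp
    exact mul_mem (mem_sup_left (i.ZY ((o.mz u hu).1 ((mul_mem_cancel_right (YEQ hx)).1 c)))) hx
  have o1 : PiE {2}ᶜ h1 := let ⟨j, e, _⟩ := o.h1e; e ▸ (odd_pi o.h0o).e_pow j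
  have spl : ∀ r ∈ R, ∃ n ∈ Q ⊔ Y ⊔ E, n * r ∈ C(Q) ∧ n * r ∈ C[h1] := fun r hr => by
    have z1 : zpowers h1 ≤ C[t] ⊓ N(Q) := zpowers_le' ⟨o.h1C, o.h1a.n⟩
    obtain ⟨n, hn, c⟩ := exists_mul_mem_cent (A := zpowers h1) (H := Q ⊔ Y ⊔ E) (k := r)
      (norms_sup (norms_sup (z1.trans inf_le_right) fun x hx => i.nr x (z1 hx).1 (z1 hx).2)
        (norms_of_cents (z1.trans (inf_le_left.trans o.CEc)))) (pP.coprime (piG_zpowers.2 o1))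
      (.inl (sol_zpowers h1)) fun x hx => kR _ (comm_mem_r (nR (nK x (z1 hx).1 (z1 hx).2)) hr) (by
        have n := nK x (z1 hx).1 (z1 hx).2
        rw [ad _ (conj_mem_of_norm n (RK hr)) _ (inv_mem (RK hr)), ad.inv (RK hr), o.fl.neg, o.fl.add_eq, dv, dv,
          ← o.lcz i (zpowers_le' o.h1Z hx) (tY r (RK hr))]
        conv_lhs => rw [← cj_comm' (mem_cent1.1 (z1 hx).1)]
        congr 1; group)
    rw [cent_zpowers] at c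
    exact ⟨n, hn, o.co.cq_of (mul_mem (PK hn) (RK hr)).1 o.h1a o.m1n o.m1ne (by rw [mem_cent1.1 c, mul_inv_cancel_right, mul_inv_cancel]; exact one_mem _), c⟩
  set R1 := R ⊓ C(Q)
  have onR : ∀ l, σ l = l → ∃ r ∈ R1, dv ζ m t r = l := fun l hl => by
    obtain ⟨k, hk, rfl⟩ := on l hl
    have e := constt_mul_compl {2} k
    have m2 := constt_mem {2} hk
    have m3 := constt_mem {2}ᶜ hk
    have r1 := mR _ m2 (constt_pi _ k)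
    obtain ⟨n, hn, c, -⟩ := spl _ r1
    refine ⟨_, ⟨mul_mem (PR hn) r1, c⟩, ?_⟩
    obtain ⟨j, hj⟩ := Nat.not_even_iff_odd.1 (mt even_iff_two_dvd.1
      ((piN_compl_singleton Nat.prime_two).1 (constt_pi {2}ᶜ k)))
    have e0 : dv ζ m t (constt {2}ᶜ k) = 0 := by
      have e1 := pow_orderOf_eq_one (constt {2}ᶜ k)
      generalize constt {2}ᶜ k = x at *
      have := ad _ (mul_mem (pow_mem m3 j) (pow_mem m3 j)) x m3
      rwa [ad _ (pow_mem m3 j) _ (pow_mem m3 j), o.fl.aa, zero_add, ← pow_add, ← pow_succ, ← two_mul, ← hj, e1, ad.one,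
        eq_comm] at this
    rw [ad _ (PK hn) _ m2, d0 n hn, zero_add, ← add_zero (dv ζ m t _), ← e0, ← ad _ m2 _ m3, e]
  have kR1 : ∀ r ∈ R1, dv ζ m t r = 0 → r ∈ Y ⊔ E := fun r hr e => mYE r (kR r hr.1 e) hr.2
  have dY : ∀ e ∈ E, e ≠ 1 → ∀ y ∈ Y, Dc E (y * e) := fun e he e1 y hy => by
    rcases hE with hE | rfl
    · obtain rfl := (o.two_mem hE he).resolve_left e1
      obtain ⟨k, hk, k1⟩ := on _ (o.lfix i hy)
      obtain ⟨x, hx, k2⟩ := o.lsq i (mul_mem hy (inv_mem (tY k hk))) (by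
        rw [o.lad i _ hy _ (inv_mem (tY k hk)), o.linv i (tY k hk), ← dv, k1, o.fl.aa])
      refine ⟨x * k, e, he, e1, ?_⟩
      calc _ = x * x * (k * e * k⁻¹ * e⁻¹) * e := by rw [k2]; group
        _ = x * ((k * e * k⁻¹ * e⁻¹) * (e * x⁻¹ * e⁻¹)) * e := by
          rw [i.iv _ (inv_mem hx), inv_inv, ← i.cm hx (tY k hk)]; group
        _ = _ := by group
    · by_cases y1 : y = 1
      · simpa [y1] using dc_of he e1
      obtain ⟨k, hk, k0⟩ := hk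
      have m2 := hk.2.2.2 e (mem_sup_right he)
      obtain ⟨j, hj⟩ := o.ztr m2 (fun k1 => k0 (o.dC i (o.CE e he e1 ▸ mem_cent1.2 (comm_of_cj (mul_inv_eq_one.1 k1)))))
        hy y1
      refine ⟨h0 ^ j * k, e, he, e1, ?_⟩
      rw [← hj, mul_assoc _ _ e, o.ec he (inv_mem (pow_mem o.h0C j))]; group
  have sq : ∀ r ∈ R1, r * r ∈ Y := fun r hr => by
    obtain ⟨y, hy, e, he, k⟩ := (mem_sup_of_norm (o.EY i)).1 (kR1 _ (mul_mem hr hr) (by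
      rw [ad r (RK hr.1) r (RK hr.1), o.fl.aa]))
    by_cases e1 : e = 1
    · rw [k, e1, mul_one]; exact hy
    · exact (o.nsq (k ▸ dY e he e1 y hy)).elim
  have nY : R1 ≤ N(Y) := fun r hr => (RK hr.1).2.2.1
  have nR1 : ∀ c ∈ C[t], c ∈ N(Q) → c ∈ N(R1) := fun c hc n =>
    norms_inf (zpowers_le' (nR (nK c hc n))) (zpowers_le' (norm_le_norm_cent Q n)) (mem_zpowers c)
  have YER : Y ⊔ E ≤ R1 := le_inf ((sup_le_sup_right le_sup_right E).trans PR) YEQ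
  have zh : zpowers h0 ≤ N(R1) := zpowers_le' (nR1 _ o.h0C o.h0a.n)
  have zY : zpowers h0 ≤ N(Y) := zpowers_le' (i.nr _ o.h0C o.h0a.n)
  have l1 : Y ⊔ ⁅R1, zpowers h0⁆ ≤ R1 := sup_le (le_sup_left.trans YER) (commg_le_left zh)
  have on' : ∀ l, σ l = l → ∃ r ∈ Y ⊔ ⁅R1, zpowers h0⁆, dv ζ m t r = l := fun l hl => by
    obtain ⟨r, hr, e⟩ := onR (l / (m0 * σ m0 + 1)) (by rw [map_div₀, hl, map_add, o.fl.nfix, map_one])
    exact ⟨h0 * r * h0⁻¹ * r⁻¹, mem_sup_right (by rw [commg_comm]; exact comm_mem (mem_zpowers h0) hr), by rw [dh r (RK hr.1), e, mul_div_cancel₀ _ n1]⟩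
  refine ⟨Y ⊔ ⁅R1, zpowers h0⁆, le_sup_left, l1.trans inf_le_right, pR.of_le (l1.trans inf_le_left), fun c hc n => ?_,
    fun r hr => ?_, fun r hr => (RK (l1 hr).1).2, fun r hr => sq r (l1 hr), fun r hr e => ?_, on', fun k h1 h2 h3 => ?_, dY⟩
  · refine mem_norm_of_cj_le ?_
    rw [cj_sup, cj_of_mem_norm (i.nr c hc n), cj_comm, cj_of_mem_norm (nR1 c hc n), cj_zpowers]
    refine sup_le le_sup_left (commg_le_iff.2 fun r hr x hx => ?_)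
    obtain ⟨j, rfl⟩ := (mem_powers_iff_mem_zpowers.2 hx : ∃ j : ℕ, _ ^ j = x)
    obtain ⟨d, -, τ, ha⟩ := o.co.sl n
    obtain ⟨l, hl⟩ := o.fl.aut τ
    have a1 := (ha.cj o.h0a).pow j
    have a2 := (o.h0a.pow (2 ^ l * j)).inv (pow_ne_zero _ o.m00)
    have a3 := a2.smul a1
    rw [hl, ← pow_mul, inv_mul_cancel₀ (pow_ne_zero _ o.m00)] at a3
    obtain ⟨e, he, u, hu, y, hy, k⟩ := o.cvd (mul_mem (inv_mem (pow_mem o.h0C _))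
      (pow_mem (mul_mem (mul_mem hc o.h0C) (inv_mem hc)) j)) (o.co.cv_iff.2 a3)
    beta_reduce
    rw [eq_mul_of_inv_mul_eq k]
    have c1 := cm hr.2 hu
    have c2 := cm (cZ0 hr.1) hy
    have c3 := cm_of_sq nY sq hr (YER (mem_sup_right he))
    have c4 := comm_mem hr (pow_mem (mem_zpowers h0) (2 ^ l * j))
    have c5 := zY (pow_mem (mem_zpowers h0) (2 ^ l * j))
    generalize h0 ^ (2 ^ l * j) = h at *
    have : r * (h * (e * u * y)) * r⁻¹ * (h * (e * u * y))⁻¹ =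
        (r * h * r⁻¹ * h⁻¹) * (h * (r * e * r⁻¹ * e⁻¹) * h⁻¹) := by
      calc _ = r * h * e * u * (r⁻¹ * (r * y) * r⁻¹) * y⁻¹ * u⁻¹ * e⁻¹ * h⁻¹ := by group
        _ = r * h * e * (r⁻¹ * (r * u) * r⁻¹) * u⁻¹ * e⁻¹ * h⁻¹ := by rw [← c2]; group
        _ = _ := by rw [← c1]; group
    rw [this]
    exact mul_mem (mem_sup_right c4) (mem_sup_left (conj_mem_of_norm c5 c3))
  · obtain ⟨n, hn, c1, c2⟩ := spl r (l1 hr).1
    have c3 : r ∈ C(Q) := (l1 hr).2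
    exact (mul_mem_cancel_left ((sup_le (le_cent1_iff.2 (o.h1Y i)) (le_cent1_iff.2 (o.CEc o.h1C)) : Y ⊔ E ≤ C[h1])
      (mYE n hn ((mul_mem_cancel_right c3).1 c1)))).1 c2
  · obtain ⟨y, hy, x, hx, rfl⟩ := (mem_sup_of_norm (o.EY i)).1 (kR1 r (l1 hr) e)
    have := ab_commg_inf_cent (V := quo Y R1) (A := quo Y (zpowers h0))
      ((ab_quo_iff nY).2 (commg_le_iff.2 fun r hr s hs => cm_of_sq nY sq hr hs)) (quo_norms zh)
      (cop_quo ((pR.infl _).coprime (piG_zpowers.2 (odd_pi o.h0o))) Y)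
    rw [← quo_comm nY zY] at this
    refine mul_mem hy ((qmk_eq_one (x := ⟨x, o.EY i hx⟩)).1 (mem_bot.1 (this.le ⟨?_, ?_⟩)))
    · exact (qmk_mem_quo ((commg_le_left zh).trans nY)).2 ((mul_mem_cancel_left (mem_sup_left hy)).1 hr)
    · exact quo_cents (cents_symm (zpowers_le' (o.CEc o.h0C))) (mem_im_of hx)
  · have hr := mR k ⟨h1, h2⟩ h3
    obtain ⟨n, hn, c, -⟩ := spl k hr
    have r1 : n * k ∈ R1 := ⟨mul_mem (PR hn) hr, c⟩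
    obtain ⟨r, hr', e⟩ := on' _ (dfx _ (RK r1.1))
    have := kR1 _ (mul_mem (inv_mem (l1 hr')) r1) (by
      rw [ad _ (inv_mem (RK (l1 hr').1)) _ (RK r1.1), ad.inv (RK (l1 hr').1), e, neg_add_cancel])
    have l2 : Q ⊔ Y ⊔ E ≤ Q ⊔ (Y ⊔ ⁅R1, zpowers h0⁆) ⊔ E := sup_le_sup_right (sup_le_sup_left le_sup_left Q) E
    exact (mul_mem_cancel_left (l2 hn)).1 ((mul_mem_cancel_left (inv_mem (mem_sup_left (mem_sup_right hr')))).1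
      (l2 (sup_le_sup_right le_sup_right E this)))

end Step
end St

end H17.GN
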