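/-
Standard `U₃(2ⁿ)` with odd core, part 2: coordinates on `P = QWE`.
-/
import Cfsg.Agent.H17.GN1

set_option autoImplicit false
set_option linter.unusedSectionVars false

namespace H17.GN
open Cfsg Subgroup H18 H17.GS H17.TS
open H17.GM hiding St Pc
open H19 hiding eq_bot_mono

universe u

variable {G : Type u} [Group G] [Finite G] {A B D E H K L M P Q R S T U V W X Y Y' Z : Subgroup G}
  {b c d e g h j k p p' r s t u v w x y z h0 h1 : G} {F : Type*} [Field F] [Finite F] {σ : F →+* F} {q m : ℕ}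
  {a ζ κ ω f f' : G → F} {m0 m1 k0 : F}

/-- coordinates on `P = QWE` -/
structure Pc (σ : F →+* F) (q : ℕ) (t : G) (E U L Q Z T W P : Subgroup G) (a ζ κ ω : G → F) (h0 h1 : G) (m0 m1 k0 : F) :
    Prop extends St σ q t E U L Q Z T a ζ h0 h1 m0 m1 where
  ZW : Z ≤ W
  WQ : W ≤ C(Q)
  Wh : W ≤ C[h1]
  nW : ∀ c ∈ C[t], c ∈ N(Q) → c ∈ N(W)
  Pe : P = Q ⊔ W ⊔ E
  pP : PG 2 P
  mx : ∀ k ∈ cmod Q Z, k ∈ cmod (E ⊔ Z) Z → E2 k → k ∈ P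
  dA : ∀ x ∈ E ⊔ Z, x ∉ Z → Dc E x
  cmP : ∀ p ∈ P, ∀ p' ∈ P, p * p' * p⁻¹ * p'⁻¹ ∈ Z ∧
    ζ (p * p' * p⁻¹ * p'⁻¹) = a p * σ (a p') + a p' * σ (a p) + κ p * ω p' + κ p' * ω p
  sqP : ∀ p ∈ P, p * p ∈ Z ∧ ζ (p * p) = a p * σ (a p) + (κ p + k0) * ω p
  κad : Ad κ P
  ωad : Ad ω P
  κf : ∀ p ∈ P, σ (κ p) = κ p
  ωf : ∀ p ∈ P, σ (ω p) = ω p
  k0f : σ k0 = k0
  κQ : ∀ p ∈ Q, κ p = 0
  κW : ∀ p ∈ W, κ p = 0
  ωQ : ∀ p ∈ Q, ω p = 0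
  ωE : ∀ p ∈ E, ω p = 0
  κt : κ t = 1
  κE : ∀ p ∈ E, κ p = 0 → p = 1
  ωW : ∀ p ∈ W, ω p = 0 → p ∈ Z
  ωs : ∀ l, σ l = l → ∃ w ∈ W, ω w = l

namespace St
variable (o : St σ q t E U L Q Z T a ζ h0 h1 m0 m1)
include o

theorem gN (l : F) (hl : σ l = l) (l0 : l ≠ 0) : ∃ i : ℕ, (m0 * σ m0) ^ i = l :=
  let ⟨i, hi⟩ := o.hN hl l0; ⟨i, by rw [mul_pow, ← map_pow, hi]⟩

theorem cjA (n : g ∈ N(Q)) (hx : x ∈ cj g E) (x1 : x ≠ 1) (h : x ∈ C[t]) : cj g E ≤ E ⊔ Z := fun y hy =>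
  o.cq2 (mem_cent1.2 (cm (by rw [← cj_cent]; exact cj_mono g o.CEc (o.cjC hx x1 ▸ mem_cent1_symm.1 h)) hy))
    (by rw [← cj_of_mem_norm n, ← cj_cent]; exact cj_mono g o.EQ hy) ((o.pE.J g).elt hy)

theorem cjD (hx : x ∈ cj g E) (x1 : x ≠ 1) : Dc E x := by
  obtain ⟨e, he, rfl⟩ := mem_cj'.1 hx
  exact (dc_of he fun k => x1 (by simp [k])).J g

theorem cjZ : cj g E ⊓ Z = ⊥ := eq_bot_iff.2 fun x hx => by_contra fun x1 => o.zD hx.2 (o.cjD hx.1 x1)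

theorem cjA' (n : g ∈ N(Z)) (l : cj g E ≤ E ⊔ Z) : cj g E ⊔ Z = E ⊔ Z :=
  eq_of_le_of_card_eq (sup_le l le_sup_right) (by
    rw [card_sup_of_disjoint (by rw [← cj_of_mem_norm n, ← cj_norm]; exact cj_mono g (norms_of_cents (o.ZCt.trans o.CEc)))
      o.cjZ, card_cj, o.cardA, o.co.cardZ])

theorem start (hx : x ∈ E ⊔ Z) (hD : Dc E x) (x0 : x ∉ E) : ∃ W, Sp σ t h1 E Q Z Z W ζ 0 := by
  obtain ⟨g, e, he, e1, rfl⟩ := hD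
  have x1 : g * e * g⁻¹ ≠ 1 := mt conj_eq_one_iff.1 e1
  obtain ⟨k, hk, e'⟩ := o.p6' (conj_mem_cj.2 he) x1 (o.AQ hx)
    (mem_cent1_symm.1 ((sup_le (le_cent1_iff.2 (o.CEc o.h1C)) (le_cent1_iff.2 o.h1Z) : E ⊔ Z ≤ C[h1]) hx))
  rw [← e' e he] at hx x0 x1
  have l := o.cjA hk (conj_mem_cj.2 he) x1 (o.AC hx)
  have e2 := o.cjA' (o.co.nZ hk) l
  obtain ⟨y, hy, z, hz, e3⟩ := (mem_sup_of_norm (by
    rw [← cj_of_mem_norm (o.co.nZ hk), ← cj_norm]; exact cj_mono k (norms_of_cents (o.ZCt.trans o.CEc)))).1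
    (e2.ge (mem_sup_left o.tE))
  refine o.step o.hcZ (.inr rfl) (o.kg o.hcZ hk (o.co.nZ hk) (mem_norm_iff_cj.2 (by
    rw [cj_sup, cj_of_mem_norm (o.co.nZ hk), sup_comm, e2, sup_comm])) hz (fun k0 => x0 ?_) ?_)
  · obtain rfl := o.z0 z hz (by simpa [lv] using k0)
    rw [mul_one] at e3
    exact (o.tiE o.tE o.t1 (e3 ▸ hy)).le (conj_mem_cj.2 he)
  · rwa [mem_cent1.1 (o.ZCt hz), e3, mul_assoc, o.co.zz hz, mul_one]

theorem pc_of (s : Sp σ t h1 E Q Z Z W ζ 0) :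
    ∃ κ ω k0, Pc σ q t E U L Q Z T W (Q ⊔ W ⊔ E) a ζ κ ω h0 h1 m0 m1 k0 := by
  set P := Q ⊔ W ⊔ E
  have QP : Q ≤ P := le_sup_left.trans le_sup_left
  have WP : W ≤ P := le_sup_right.trans le_sup_left
  have EP : E ≤ P := le_sup_right
  have PQ : P ≤ Q ⊔ C(Q) := sup_le (sup_le_sup_left s.CQ Q) (o.EQ.trans le_sup_right)
  have PZ := PQ.trans o.co.QCZ
  have WE : ∀ w ∈ W, ∀ e ∈ E, w * e * w⁻¹ * e⁻¹ ∈ Z := fun w hw e he => (s.K hw).2.2 e (mem_sup_right he)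
  have WW : ∀ w ∈ W, ∀ e ∈ W, w * e * w⁻¹ * e⁻¹ ∈ Z := fun w hw e he =>
    cm_of_sq (norms_of_cents (WP.trans PZ)) s.sq hw he
  have c1 : ∀ {x y : G}, x * y = y * x → x * y * x⁻¹ * y⁻¹ = 1 := fun e => by rw [e]; group
  have sup3 : ∀ x, (∀ y ∈ Q, x * y * x⁻¹ * y⁻¹ ∈ Z) → (∀ y ∈ W, x * y * x⁻¹ * y⁻¹ ∈ Z) → (∀ y ∈ E, x * y * x⁻¹ * y⁻¹ ∈ Z) →
      ∀ y ∈ P, x * y * x⁻¹ * y⁻¹ ∈ Z := fun x h1 h2 h3 y hy =>
    ((sup_le (sup_le (fun y hy => ⟨cent_le_norm Z (PZ (QP hy)), h1 y hy⟩) fun y hy => ⟨cent_le_norm Z (PZ (WP hy)), h2 y hy⟩)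
      fun y hy => ⟨cent_le_norm Z (PZ (EP hy)), h3 y hy⟩ : P ≤ cmr x Z) hy).2
  have cQ : ∀ x ∈ P, ∀ y ∈ Q, x * y * x⁻¹ * y⁻¹ ∈ Z := fun x hx y hy => (o.co.cmx (PQ hx) hy).1
  have PP : ∀ x ∈ P, ∀ y ∈ P, x * y * x⁻¹ * y⁻¹ ∈ Z := fun x hx => sup3 x (cQ x hx)
    (fun y hy => cm_swap (sup3 y (cQ y (WP hy)) (WW y hy) (WE y hy) x hx))
    fun y hy => cm_swap (sup3 y (cQ y (EP hy)) (fun w hw => cm_swap (WE w hw y hy))
      (fun e he => c1 (o.ec he (o.EC hy)) ▸ one_mem Z) x hx)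
  have dv0 : ∀ w, dv ζ 0 t w = ζ (w * t * w⁻¹ * t⁻¹) := fun w => by simp [dv, lv]
  obtain ⟨w0, hw0, e0⟩ := s.on 1 (map_one σ)
  rw [dv0] at e0
  set ω : G → F := fun p => ζ (p * t * p⁻¹ * t⁻¹) with hω
  set κ : G → F := fun p => ζ (p * w0 * p⁻¹ * w0⁻¹) with hκ
  have ωad : Ad ω P := o.co.zc1 PZ fun x hx => PP x hx t (EP o.tE)
  have κad : Ad κ P := o.co.zc1 PZ fun x hx => PP x hx w0 (WP hw0)
  have ωf : ∀ p ∈ P, σ (ω p) = ω p := fun p hp => o.zf _ (PP p hp t (EP o.tE))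
  have ωW : ∀ p ∈ W, ω p = 0 → p ∈ Z := fun p hp e => s.ker p hp (by rwa [dv0])
  have ωs : ∀ l, σ l = l → ∃ w ∈ W, ω w = l := fun l hl => by simpa only [dv0] using s.on l hl
  have nW := s.nr _ o.h0C o.h0a.n
  have ωe : ∀ e ∈ E, ∀ w ∈ W, ζ (h0 * w * h0⁻¹ * e * (h0 * w * h0⁻¹)⁻¹ * e⁻¹) = m0 * σ m0 * ζ (w * e * w⁻¹ * e⁻¹) :=
    fun e he w hw => by rw [← o.co.zcj o.h0a (WE w hw e he), cj_comm' (o.ec he o.h0C)]
  have zc : ∀ x ∈ P, ∀ z ∈ Z, ζ (z * x * z⁻¹ * x⁻¹) = 0 := fun x hx z hz => by rw [c1 (cm (PZ hx) hz), o.co.z1]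
  have ab : ∀ w ∈ W, ∀ v ∈ W, ζ (w * v * w⁻¹ * v⁻¹) = 0 := by
    obtain ⟨c, hc⟩ := w1 o.fl (ωad.mono WP) (ωad.mono WP) (fun x y => ζ (x * y * x⁻¹ * y⁻¹))
      (fun y hy => o.co.zc1 (WP.trans PZ) fun x hx => WW x hx y hy) (fun y hy => o.co.zc2 (WP.trans PZ) (WW y hy))
      (fun y hy x hx e => zc y (WP hy) x (ωW x hx e))
      (fun y hy x hx e => (o.co.zsw (WW x hx y hy)).trans (zc y (WP hy) x (ωW x hx e)))
      (fun x hx => ωf x (WP hx)) (fun x hx => ωf x (WP hx)) ωs ωs o.gN (o.fl.nfix m0) nW nW (ωe t o.tE) (ωe t o.tE)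
      fun x hx y hy => o.co.zcj o.h0a (WW x hx y hy)
    have := hc w0 hw0 w0 hw0
    obtain rfl : c = 0 := by simpa [o.co.z1, show ω w0 = 1 from e0] using this.symm
    exact fun w hw v hv => mul_self_eq_zero.1 (by simpa using hc w hw v hv)
  have gW : ∀ x ∈ W, ω x ≠ 0 → ∃ i : ℕ, (m0 * σ m0) ^ i = ω x := fun x hx => o.gN _ (ωf x (WP hx))
  have we : ∀ e ∈ E, ∀ w ∈ W, ζ (w * e * w⁻¹ * e⁻¹) = κ e * ω w := fun e he w hw => by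
    have ad := o.co.zc1 (WP.trans PZ) fun x hx => WE x hx e he
    have z := fun x hx k => zc e (EP he) x (ωW x hx k)
    rw [lin1 nW (fun x hx y hy => (ωad.mono WP).wd ad z hx hy) z (ωe t o.tE) (ωe e he) gW hw0 e0 w hw,
      ← o.co.zsw (WE w0 hw0 e he)]
  have sW : ∀ w ∈ W, ζ (w * w) = ζ (w0 * w0) * ω w := by
    have ad : Ad (fun w => ζ (w * w)) W := fun x hx y hy => by
      beta_reduce; rw [(o.co.zs2 (PZ (WP hx)) (s.sq x hx) (s.sq y hy) (WW x hx y hy)).2, ab x hx y hy, add_zero]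
    have z : ∀ x ∈ W, ω x = 0 → ζ (x * x) = 0 := fun x hx k => by rw [o.co.zz (ωW x hx k), o.co.z1]
    exact lin1 nW (fun x hx y hy => (ωad.mono WP).wd ad z hx hy) z (ωe t o.tE) (fun x hx => by
      rw [← o.co.actz1 o.h0a (s.sq x hx)]; congr 1; group) gW hw0 e0
  have κQ : ∀ p ∈ Q, κ p = 0 := fun p hp => by simp only [hκ]; rw [c1 (cm (s.CQ hw0) hp), o.co.z1]
  have ωQ : ∀ p ∈ Q, ω p = 0 := fun p hp => by simp only [hω]; rw [c1 (mem_cent1.1 (o.QC hp)), o.co.z1]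
  have ωE : ∀ p ∈ E, ω p = 0 := fun p hp => by simp only [hω]; rw [c1 (mem_cent1.1 (o.EC hp)), o.co.z1]
  have κW : ∀ p ∈ W, κ p = 0 := fun p hp => ab p hp w0 hw0
  have aW : ∀ p ∈ W, a p = 0 := fun p hp => o.co.aC (s.CQ hp)
  have aE : ∀ p ∈ E, a p = 0 := fun p hp => o.co.aC (o.EQ hp)
  have aad := o.ad.mono PQ
  have s3 : ∀ {f : G → F}, Ad f P → (∀ x ∈ Q, f x = 0) → (∀ x ∈ W, f x = 0) → (∀ x ∈ E, f x = 0) → ∀ x ∈ P, f x = 0 :=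
    fun h h1 h2 h3 => h.sup0 ((h.mono le_sup_left).sup0 h1 h2) h3
  have cmP : ∀ p ∈ P, ∀ p' ∈ P,
      ζ (p * p' * p⁻¹ * p'⁻¹) = a p * σ (a p') + a p' * σ (a p) + κ p * ω p' + κ p' * ω p := by
    have ad : ∀ p ∈ P, Ad (fun p' => ζ (p * p' * p⁻¹ * p'⁻¹) - (a p * σ (a p') + a p' * σ (a p) + κ p * ω p' + κ p' * ω p)) P :=
      fun p hp x hx y hy => by
        have := o.co.zc2 PZ (PP p hp) x hx y hy
        beta_reduce at this ⊢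
        rw [this, aad x hx y hy, κad x hx y hy, ωad x hx y hy, map_add]; ring
    have sw : ∀ p ∈ P, ∀ p' ∈ P, ζ (p * p' * p⁻¹ * p'⁻¹) - (a p * σ (a p') + a p' * σ (a p) + κ p * ω p' + κ p' * ω p) =
        ζ (p' * p * p'⁻¹ * p⁻¹) - (a p' * σ (a p) + a p * σ (a p') + κ p' * ω p + κ p * ω p') := fun p hp p' hp' => by
      rw [o.co.zsw (PP p hp p' hp')]; ring
    have q0 : ∀ p ∈ P, ∀ p' ∈ Q,
        ζ (p * p' * p⁻¹ * p'⁻¹) - (a p * σ (a p') + a p' * σ (a p) + κ p * ω p' + κ p' * ω p) = 0 := fun p hp u hu => by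
      rw [(o.co.cmx (PQ hp) hu).2, κQ u hu, ωQ u hu]; ring
    refine fun p hp p' hp' => sub_eq_zero.1 (s3 (ad p hp) (q0 p hp) (fun w hw => ?_) (fun e he => ?_) p' hp')
    · refine (sw p hp w (WP hw)).trans (s3 (ad w (WP hw)) (q0 w (WP hw)) (fun v hv => ?_) (fun e he => ?_) p hp)
      · simp [ab w hw v hv, aW w hw, κW w hw, κW v hv]
      · simp [we e he w hw, aW w hw, κW w hw]
    · refine (sw p hp e (EP he)).trans (s3 (ad e (EP he)) (q0 e (EP he)) (fun v hv => ?_) (fun e' he' => ?_) p hp)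
      · simp [o.co.zsw (WE v hv e he), we e he v hv, aE e he, κW v hv]
      · simp [c1 (o.ec he' (o.EC he)), o.co.z1, aE e he, ωE e he, ωE e' he']
  have sZ : ∀ p ∈ P, p * p ∈ Z := fun p hp => by
    obtain ⟨x, hx, e, he, rfl⟩ := (mem_sup_of_norm (norms_sup (norms_of_cents o.EQ)
      fun e he => s.nr e (o.EC he) (cent_le_norm Q (o.EQ he)))).1 hp
    obtain ⟨u, hu, w, hw, rfl⟩ := (mem_sup_of_norm (norms_of_cents s.CQ)).1 hx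
    exact (o.co.zs2 (PZ (mem_sup_left hx)) (o.co.zs2 (o.co.QZ hu) (o.sq u hu).1 (s.sq w hw) (PP u (QP hu) w (WP hw))).1
      (o.Eel e he ▸ one_mem Z) (PP _ (mem_sup_left hx) e (EP he))).1
  refine ⟨κ, ω, ζ (w0 * w0), o, s.le, s.CQ, s.c1, s.nr, rfl, ?_, fun k h1 h2 => s.mx k h1 (sup_comm E Z ▸ h2),
    fun x hx x0 => ?_, fun p hp p' hp' => ⟨PP p hp p' hp', cmP p hp p' hp'⟩, fun p hp => ⟨sZ p hp, sub_eq_zero.1 (s3
      (f := fun p => ζ (p * p) - (a p * σ (a p) + (κ p + ζ (w0 * w0)) * ω p)) (fun x hx y hy => ?_) (fun x hx => ?_)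
      (fun x hx => ?_) (fun x hx => ?_) p hp)⟩, κad, ωad, fun p hp => o.zf _ (PP p hp w0 (WP hw0)), ωf,
    o.zf _ (s.sq w0 hw0), κQ, κW, ωQ, ωE, (o.co.zsw (WE w0 hw0 t o.tE)).trans e0, fun e he k => ?_, ωW, ωs⟩
  · exact PiN.of_elt fun p hp => e2_of_pow (k := 2) (by
      rw [show 2 ^ 2 = 2 * 2 from rfl, pow_mul, pow_two, pow_two, o.co.zz (sZ p hp)])
  · obtain ⟨e, he, z, hz, rfl⟩ := o.mA.1 hx
    exact o.ec he (o.ZCt hz) ▸ s.dY e he (fun k => x0 (by simpa [k] using hz)) z hz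
  · beta_reduce
    rw [(o.co.zs2 (PZ hx) (sZ x hx) (sZ y hy) (PP x hx y hy)).2, cmP x hx y hy, aad x hx y hy, κad x hx y hy,
      ωad x hx y hy, map_add]; ring
  · simp [(o.sq x hx).2, ωQ x hx]
  · simp [sW x hx, aW x hx, κW x hx]
  · simp [o.Eel x hx, o.co.z1, aE x hx, ωE x hx]
  · by_contra e1
    have : w0 ∈ C[t] := o.CE e he e1 ▸ mem_cent1.2 (comm_of_cj (mul_inv_eq_one.1 (o.z0 _ (WE w0 hw0 e he) (by
      rw [we e he w0 hw0, k, zero_mul]))))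
    simp [c1 (mem_cent1.1 this), o.co.z1] at e0

end St

end H17.GN
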