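/-
Standard `U₃(2ⁿ)` with odd core, part 3: the structure of `P`.
-/
import Cfsg.Agent.H17.GN2

set_option autoImplicit false
set_option linter.unusedSectionVars false

namespace H17.GN
open Cfsg Subgroup H18 H17.GS H17.TS
open H17.GM hiding St Pc
open H19 hiding eq_bot_mono

universe u

variable {G : Type u} [Group G] [Finite G] {A B D E H K L M P Q R S T U V W X Y Y' Z : Subgroup G}
  {b c d e g h j k p p' r s t u v w x y z h0 h1 : G} {F : Type*} [Field F] [Finite F] {σ : F →+* F} {q m : ℕ}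
  {a ζ κ ω f f' : G → F} {m0 m1 k0 : F}

namespace Pc
variable (o : Pc σ q t E U L Q Z T W P a ζ κ ω h0 h1 m0 m1 k0)
include o

theorem st : St σ q t E U L Q Z T a ζ h0 h1 m0 m1 := o.toSt
theorem co : Co σ q Q Z a ζ := o.st.co
theorem P0P : Q ⊔ W ≤ P := o.Pe ▸ le_sup_left
theorem QP : Q ≤ P := le_sup_left.trans o.P0P
theorem WP : W ≤ P := le_sup_right.trans o.P0P
theorem EP : E ≤ P := o.Pe ▸ le_sup_right
theorem ZP : Z ≤ P := o.ZQ.trans o.QP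
theorem AP : E ⊔ Z ≤ P := sup_le o.EP o.ZP
theorem EQP : E ⊔ Q ≤ P := sup_le o.EP o.QP
theorem WEP : W ⊔ E ≤ P := sup_le o.WP o.EP
theorem tP : t ∈ P := o.EP o.tE
theorem PQ : P ≤ Q ⊔ C(Q) := o.Pe ▸ sup_le (sup_le_sup_left o.WQ Q) (o.st.EQ.trans le_sup_right)
theorem PZ : P ≤ C(Z) := o.PQ.trans o.co.QCZ
theorem aad : Ad a P := o.ad.mono o.PQ
theorem aW (h : p ∈ W) : a p = 0 := o.co.aC (o.WQ h)
theorem aE (h : p ∈ E) : a p = 0 := o.co.aC (o.st.EQ h)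
theorem aA (h : p ∈ E ⊔ Z) : a p = 0 := o.co.aC (o.st.AQ h)
theorem aWE (h : p ∈ W ⊔ E) : a p = 0 := o.co.aC (sup_le o.WQ o.st.EQ h)
theorem κP0 (h : p ∈ Q ⊔ W) : κ p = 0 := (o.κad.mono o.P0P).sup0 o.κQ o.κW p h
theorem ωEQ (h : p ∈ E ⊔ Q) : ω p = 0 := (o.ωad.mono o.EQP).sup0 o.ωE o.ωQ p h
theorem ωA (h : p ∈ E ⊔ Z) : ω p = 0 := o.ωEQ (o.st.AEQ h)
theorem κZ (h : p ∈ Z) : κ p = 0 := o.κQ p (o.ZQ h)
theorem ωZ (h : p ∈ Z) : ω p = 0 := o.ωQ p (o.ZQ h)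
theorem at' : a t = 0 := o.aE o.tE
theorem ωt : ω t = 0 := o.ωE t o.tE
theorem EW : E ≤ N(W) := fun e he => o.nW e (o.st.EC he) (cent_le_norm Q (o.st.EQ he))

theorem dec (h : p ∈ P) : ∃ u ∈ Q, ∃ w ∈ W, ∃ e ∈ E, p = u * w * e ∧ a p = a u ∧ ω p = ω w ∧ κ p = κ e := by
  obtain ⟨x, hx, e, he, rfl⟩ := (mem_sup_of_norm (norms_sup (norms_of_cents o.st.EQ) o.EW)).1 (o.Pe ▸ h)
  obtain ⟨u, hu, w, hw, rfl⟩ := (mem_sup_of_norm (norms_of_cents o.WQ)).1 hx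
  refine ⟨u, hu, w, hw, e, he, rfl, ?_, ?_, ?_⟩
  · rw [o.aad _ (o.P0P hx) _ (o.EP he), o.aad _ (o.QP hu) _ (o.WP hw), o.aW hw, o.aE he, add_zero, add_zero]
  · rw [o.ωad _ (o.P0P hx) _ (o.EP he), o.ωad _ (o.QP hu) _ (o.WP hw), o.ωQ u hu, o.ωE e he, add_zero, zero_add]
  · rw [o.κad _ (o.P0P hx) _ (o.EP he), o.κP0 hx, zero_add]

theorem mP0 (h : p ∈ P) (k : κ p = 0) : p ∈ Q ⊔ W := by
  obtain ⟨u, hu, w, hw, e, he, rfl, -, -, e3⟩ := o.dec h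
  rw [o.κE e he (e3 ▸ k), mul_one]; exact mul_mem_sup hu hw
theorem mEQ (h : p ∈ P) (k : ω p = 0) : p ∈ E ⊔ Q := by
  obtain ⟨u, hu, w, hw, e, he, rfl, -, e2, -⟩ := o.dec h
  exact mul_mem (mem_sup_right (mul_mem hu (o.ZQ (o.ωW w hw (e2 ▸ k))))) (mem_sup_left he)
theorem mWE (h : p ∈ P) (k : a p = 0) : p ∈ W ⊔ E := by
  obtain ⟨u, hu, w, hw, e, he, rfl, e1, -, -⟩ := o.dec h
  exact mul_mem_sup (mul_mem (o.ZW ((o.co.aQ hu).1 (e1 ▸ k))) hw) he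
theorem mW (h : p ∈ P) (k1 : a p = 0) (k : κ p = 0) : p ∈ W := by
  obtain ⟨u, hu, w, hw, e, he, rfl, e1, -, e3⟩ := o.dec h
  rw [o.κE e he (e3 ▸ k), mul_one]; exact mul_mem (o.ZW ((o.co.aQ hu).1 (e1 ▸ k1))) hw
theorem mA (h : p ∈ P) (k1 : a p = 0) (k : ω p = 0) : p ∈ E ⊔ Z :=
  o.st.AC' (o.mEQ h k) ((o.a0 p (o.PQ h)).1 k1)
theorem mQ' (h : p ∈ P) (k1 : κ p = 0) (k : ω p = 0) : p ∈ Q := by
  obtain ⟨u, hu, w, hw, e, he, rfl, -, e2, e3⟩ := o.dec h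
  rw [o.κE e he (e3 ▸ k1), mul_one]; exact mul_mem hu (o.ZQ (o.ωW w hw (e2 ▸ k)))
theorem mZ (h : p ∈ P) (k1 : a p = 0) (k2 : κ p = 0) (k : ω p = 0) : p ∈ Z := o.ωW p (o.mW h k1 k2) k

theorem ex (he : e ∈ E) (x : F) {l : F} (hl : σ l = l) : ∃ p ∈ P, a p = x ∧ ω p = l ∧ κ p = κ e := by
  obtain ⟨u, hu, rfl⟩ := o.asj x
  obtain ⟨w, hw, rfl⟩ := o.ωs l hl
  have m := mul_mem (o.QP hu) (o.WP hw)
  refine ⟨u * w * e, mul_mem m (o.EP he), ?_, ?_, ?_⟩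
  · rw [o.aad _ m _ (o.EP he), o.aad _ (o.QP hu) _ (o.WP hw), o.aW hw, o.aE he, add_zero, add_zero]
  · rw [o.ωad _ m _ (o.EP he), o.ωad _ (o.QP hu) _ (o.WP hw), o.ωQ u hu, o.ωE e he, add_zero, zero_add]
  · rw [o.κad _ m _ (o.EP he), o.κP0 (mul_mem_sup hu hw), zero_add]
theorem ex0 (x : F) {l : F} (hl : σ l = l) : ∃ p ∈ P, a p = x ∧ ω p = l ∧ κ p = 0 :=
  o.κad.one ▸ o.ex E.one_mem x hl
theorem ex1 (x : F) {l : F} (hl : σ l = l) : ∃ p ∈ P, a p = x ∧ ω p = l ∧ κ p = 1 := o.κt ▸ o.ex o.tE x hl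

theorem cmt (h : p ∈ P) : ζ (p * t * p⁻¹ * t⁻¹) = ω p := by
  simp [(o.cmP p h t o.tP).2, o.at', o.ωt, o.κt]
theorem cme (h : p ∈ P) (h' : p' ∈ P) :
    p * p' = p' * p ↔ a p * σ (a p') + a p' * σ (a p) + κ p * ω p' + κ p' * ω p = 0 := by
  rw [← (o.cmP p h p' h').2, o.co.z0' (o.cmP p h p' h').1]; exact ⟨cm1, of_cm1⟩
theorem sqe (h : p ∈ P) : p * p = 1 ↔ a p * σ (a p) + (κ p + k0) * ω p = 0 := by
  rw [← (o.sqP p h).2, o.co.z0' (o.sqP p h).1]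
theorem P0W : Q ⊔ W ≤ C(W) := fun p h => mem_cent.2 fun w hw =>
  (o.cme (o.WP hw) (o.P0P h)).2 (by simp [o.aW hw, o.κW w hw, o.κP0 h])
theorem Wab : W ≤ C(W) := le_sup_right.trans o.P0W
theorem cW (h : p ∈ P) (c : p ∈ C(W)) : κ p = 0 := by
  obtain ⟨w, hw, e⟩ := o.ωs 1 (map_one σ)
  simpa [o.aW hw, o.κW w hw, e] using (o.cme (o.WP hw) h).1 (cm c hw)
theorem ct (h : p ∈ P) (c : p ∈ C[t]) : ω p = 0 := by rw [← o.cmt h, cm1 (mem_cent1.1 c), o.co.z1]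
theorem P0e : Q ⊔ W = P ⊓ C(W) := le_antisymm (le_inf o.P0P o.P0W) fun _ h => o.mP0 h.1 (o.cW h.1 h.2)
theorem eqz (h : p ∈ P) (h' : p' ∈ P) (e1 : a p = a p') (e2 : κ p = κ p') (e3 : ω p = ω p') : ∃ z ∈ Z, p = z * p' :=
  ⟨p * p'⁻¹, o.mZ (mul_mem h (inv_mem h')) (by rw [o.aad _ h _ (inv_mem h'), o.aad.inv h', e1, add_neg_cancel])
    (by rw [o.κad _ h _ (inv_mem h'), o.κad.inv h', e2, add_neg_cancel])
    (by rw [o.ωad _ h _ (inv_mem h'), o.ωad.inv h', e3, add_neg_cancel]), by group⟩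
theorem zm (hz : z ∈ Z) (h : p ∈ P) : a (z * p) = a p ∧ κ (z * p) = κ p ∧ ω (z * p) = ω p :=
  ⟨by rw [o.aad _ (o.ZP hz) _ h, o.co.aZ hz, zero_add], by rw [o.κad _ (o.ZP hz) _ h, o.κZ hz, zero_add],
    by rw [o.ωad _ (o.ZP hz) _ h, o.ωZ hz, zero_add]⟩

theorem cardW : #W = q * q := by
  rw [(o.ωad.mono o.WP).card_eq o.ZW (fun x hx => ⟨o.ωZ, o.ωW x hx⟩) (I := {x | σ x = x}) (fun x hx => o.ωf x (o.WP hx))
    o.ωs, o.co.cardZ, o.fl.card0]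
theorem cardP0 : #(Q ⊔ W) = q ^ 4 := by
  rw [(o.aad.mono o.P0P).card_eq le_sup_right (fun x hx => ⟨o.aW, fun k => o.mW (o.P0P hx) k (o.κP0 hx)⟩) (I := Set.univ)
    (fun _ _ => trivial) fun y _ => let ⟨u, hu, e⟩ := o.asj y; ⟨u, mem_sup_left hu, e⟩, o.cardW, Set.ncard_univ, o.fl.card]
  ring
theorem cardP : #P = #E * q ^ 4 := by
  rw [o.ωad.card_eq o.EQP (fun x hx => ⟨o.ωEQ, o.mEQ hx⟩) (I := {x | σ x = x}) o.ωf
    fun y hy => let ⟨u, hu, e⟩ := o.ωs y hy; ⟨u, o.WP hu, e⟩, o.st.cardEQ, o.fl.card0]; ring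
theorem cardWE : #(W ⊔ E) = #E * q * q := by
  rw [(o.ωad.mono o.WEP).card_eq (sup_le le_sup_right (o.ZW.trans le_sup_left))
    (fun x hx => ⟨o.ωA, o.mA (o.WEP hx) (o.aWE hx)⟩) (I := {x | σ x = x}) (fun x hx => o.ωf x (o.WEP hx))
    fun y hy => let ⟨u, hu, e⟩ := o.ωs y hy; ⟨u, mem_sup_left hu, e⟩, o.st.cardA, o.fl.card0]
theorem cardE : #E ≤ q := by
  simpa [o.fl.card0] using (o.κad.mono o.EP).card_le (K := ⊥) (fun x hx k => mem_bot.2 (o.κE x hx k)) (I := {x | σ x = x})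
    fun x hx => o.κf x (o.EP hx)
theorem κs (h : #E = q) {l : F} (hl : σ l = l) : ∃ e ∈ E, κ e = l := by
  have := (o.κad.mono o.EP).card (K := ⊥) fun x hx => mem_bot.trans ⟨fun k => k ▸ o.κad.one, o.κE x hx⟩
  rw [bot_inf_eq, card_bot, one_mul, h, ← o.fl.card0] at this
  exact (Set.eq_of_subset_of_ncard_le (s := κ '' E) (by rintro _ ⟨x, hx, rfl⟩; exact o.κf x (o.EP hx)) this.le).ge hl

theorem PP : P ≤ cmod P Z := fun p h => ⟨le_normalizer h, cent_le_norm Z (o.PZ h), fun x hx => (o.cmP p h x hx).1⟩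
theorem nX (l : Z ≤ X) (l' : X ≤ P) : P ≤ N(X) := fun p h => norm_of_cmod l fun x hx => (o.cmP p h x (l' hx)).1
theorem PQv : P ≤ cmod Q Z := o.PQ.trans o.co.QCv

theorem MZ (n : g ∈ N(E ⊔ Z)) : g ∈ N(Z) := mem_norm_of fun z hz => by_contra fun k =>
  o.st.zD hz (o.dA _ (conj_mem_of_norm n (mem_sup_right hz)) k).J'
theorem h1A : E ⊔ Z ≤ C[h1] := sup_le (le_cent1_iff.2 (o.st.CEc o.st.h1C)) (le_cent1_iff.2 o.st.h1Z)
theorem MQ (n : g ∈ N(E ⊔ Z)) : g ∈ N(Q) := by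
  have m := conj_mem_of_norm n (mem_sup_left o.tE)
  obtain ⟨k, hk, e⟩ := o.st.p6' (conj_mem_cj.2 o.tE) (mt conj_eq_one_iff.1 o.t1) (o.st.AQ m) (mem_cent1_symm.1 (o.h1A m))
  have c : k⁻¹ * g ∈ C[t] := mem_cent1.2 (comm_of_cj (by
    rw [show k⁻¹ * g * t * (k⁻¹ * g)⁻¹ = k⁻¹ * (g * t * g⁻¹) * k by group, ← e t o.tE]; group))
  obtain ⟨z, hz, z1⟩ := o.co.Z1
  exact (mul_mem_cancel_left (inv_mem hk)).1 (o.ti _ (o.st.CnL c) (ne_bot_of_mem (x := z) ⟨o.ZQ hz, cj_mono _ o.ZQ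
    ((cj_of_mem_norm (mul_mem (inv_mem (o.co.nZ hk)) (o.MZ n))).ge hz)⟩ z1))
theorem MP (n : g ∈ N(E ⊔ Z)) : g ∈ N(P) := mem_norm_of fun p hp =>
  o.mx _ (cmod_cj (o.MQ n) (o.MZ n) (o.PQv hp)) (cmod_cj n (o.MZ n) ⟨o.nX le_sup_right o.AP hp, (o.PP hp).2.1,
    fun x hx => (o.cmP p hp x (o.AP hx)).1⟩) ((o.pP.elt hp).e_conj g)
theorem nA (hc : c ∈ C[t]) (n : c ∈ N(Q)) : c ∈ N(E ⊔ Z) :=
  norms_sup (zpowers_le' (cent_le_norm E (o.st.CEc hc))) (zpowers_le' (o.co.nZ n)) (mem_zpowers c)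
theorem nP (hc : c ∈ C[t]) (n : c ∈ N(Q)) : c ∈ N(P) := o.MP (o.nA hc n)
theorem PA : P ≤ N(E ⊔ Z) := o.nX le_sup_right o.AP

theorem ωe {l : F} (ha : Act Q a c l id) (hc : c ∈ C[t]) (h : p ∈ P) : ω (c * p * c⁻¹) = l * σ l * ω p := by
  rw [← o.cmt h, ← o.co.zcj ha (o.cmP p h t o.tP).1, cj_comm' (mem_cent1.1 hc), o.cmt (conj_mem_of_norm (o.nP hc ha.n) h)]
theorem κe (hc : c ∈ C[t]) (n : c ∈ N(Q)) (h : p ∈ P) : κ (c * p * c⁻¹) = κ p := by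
  obtain ⟨u, hu, w, hw, e, he, rfl, -, -, e3⟩ := o.dec h
  have m := mul_mem_sup (conj_mem_of_norm n hu) (conj_mem_of_norm (o.nW c hc n) hw)
  rw [show c * (u * w * e) * c⁻¹ = c * u * c⁻¹ * (c * w * c⁻¹) * (c * e * c⁻¹) by group, cj_comm' (o.st.ec he hc),
    o.κad _ (o.P0P m) _ (o.EP he), o.κP0 m, zero_add, e3]

theorem trW (hz : z ∈ Z) (hp : p ∈ P) (k : κ p ≠ 0) : ∃ w ∈ W, w * p * w⁻¹ = z * p := by
  obtain ⟨w, hw, e⟩ := o.ωs (ζ z / κ p) (by rw [map_div₀, o.zf z hz, o.κf p hp])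
  exact ⟨w, hw, by
    rw [← o.co.zinj (o.cmP w (o.WP hw) p hp).1 hz (by simp [(o.cmP w (o.WP hw) p hp).2, o.aW hw, o.κW w hw, e, mul_div_cancel₀ _ k])]
    group⟩

theorem M2 (n : x ∈ N(E ⊔ Z)) (h2 : E2 x) : ∃ w ∈ W, w⁻¹ * x ∈ C[t] := by
  obtain ⟨y, hy, y0, -, -, k⟩ := ela o.st.pA h2.pg (zpowers_le' n) (zpowers_le' (o.MZ n))
    (lt_of_le_of_ne le_sup_right fun e => o.st.zD (e.ge (mem_sup_left o.tE)) (dc_of o.tE o.t1))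
  obtain ⟨e, he, z, hz, rfl⟩ := o.st.mA.1 hy
  have e1 : e ≠ 1 := fun k => y0 (by simpa [k] using hz)
  have m : x * e * x⁻¹ * e⁻¹ ∈ Z := by
    have := mul_mem (mul_mem (cm_swap (k x (mem_zpowers x))) (conj_mem_of_norm (cent_le_norm Z (o.PZ (o.EP he))) hz))
      (conj_mem_of_norm (cent_le_norm Z (o.PZ (o.EP he))) (conj_mem_of_norm (o.MZ n) (inv_mem hz)))
    have c := cm (o.PZ (o.EP he)) (conj_mem_of_norm (o.MZ n) hz)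
    have c' := cm (o.PZ (conj_mem_of_norm (o.MP n) (o.EP he))) (conj_mem_of_norm (o.MZ n) hz)
    convert this using 1
    calc _ = x * e * x⁻¹ * (x * z * x⁻¹ * e⁻¹ * e) * (x * z⁻¹ * x⁻¹) * e⁻¹ := by group
      _ = _ := by group
  obtain ⟨w, hw, k⟩ := o.trW m (o.EP he) (mt (o.κE e he) e1)
  exact ⟨w, hw, o.CE e he e1 ▸ mem_cent1.2 (comm_of_cj (by
    rw [show w⁻¹ * x * e * (w⁻¹ * x)⁻¹ = w⁻¹ * (x * e * x⁻¹ * e⁻¹ * e) * w by group, ← k]; group))⟩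

theorem hP (n : x ∈ N(E ⊔ Z)) (h2 : E2 x) (v : x ∈ cmod Q Z) : x ∈ P := by
  obtain ⟨w, hw, c⟩ := o.M2 n h2
  exact (mul_mem_cancel_left (inv_mem (o.WP hw))).1 (o.EQP (o.st.cv2 c (mul_mem (inv_mem (o.PQv (o.WP hw))) v)
    ((o.pP.sup h2.pg (zpowers_le' (o.MP n))).elt (mul_mem_sup (inv_mem (o.WP hw)) (mem_zpowers x)))))

theorem star (pX : PG 2 X) (n : X ≤ N(E ⊔ Z)) (sq : ∀ x ∈ X, x * x ∈ Z) (cX : X ≤ C(Z)) (c : #X = #P) : X = P := by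
  have l : ∀ x ∈ X, x ∈ cmod Q Z → x ∈ P := fun x hx => o.hP (n hx) (pX.elt hx)
  rcases o.co.rb (K := W ⊔ E) pX (fun x hx => o.MQ (n hx)) (fun x hx => o.PQv (o.ZP (sq x hx)))
    (fun x hx y hy => o.co.ZC (cm_of_sq (norms_of_cents cX) sq hx hy)) (fun x hx v => o.PQ (l x hx v))
    fun x hx v => o.mWE (l x hx (o.co.QCv (mC v))) (o.co.aC v) with k | k
  · exact eq_of_le_of_card_eq (fun x hx => l x hx (k hx)) c
  · rw [c, o.cardP, o.cardWE] at k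
    have := o.fl.q4
    have := card_pos E
    have : 0 < #E * q ^ 3 := by positivity
    nlinarith

theorem cjP (n : g ∈ N(Z)) (l : cj g P ≤ N(E ⊔ Z)) : g ∈ N(P) :=
  mem_norm_iff_cj.2 (o.star (o.pP.J g) l (fun x hx => by
    obtain ⟨p, hp, rfl⟩ := mem_cj'.1 hx
    convert conj_mem_of_norm n (o.sqP p hp).1 using 1; group)
    (by rw [← cj_of_mem_norm n, ← cj_cent]; exact cj_mono g o.PZ) (card_cj g P))

theorem WD (hw : w ∈ W) (h : Dc E w) : #E = q := by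
  obtain ⟨g, e, he, e1, rfl⟩ := h
  obtain ⟨k, hk, e'⟩ := o.st.p6' (conj_mem_cj.2 he) (mt conj_eq_one_iff.1 e1) (o.WQ hw) (mem_cent1_symm.1 (o.Wh hw))
  rw [← e' e he] at hw
  have : cj k⁻¹ W ≤ E ⊔ Z := fun x hx => o.st.cq2 (o.CE e he e1 ▸ mem_cent1.2 (by
    simpa using cm' o.Wab (mem_cj_inv.1 hx) hw)) (by rw [← cj_of_mem_norm (inv_mem hk), ← cj_cent]; exact cj_mono _ o.WQ hx)
    (((o.pP.of_le o.WP).J _).elt hx)
  have := H19.card_le this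
  rw [card_cj, o.cardW, o.st.cardA] at this
  exact le_antisymm o.cardE (Nat.le_of_mul_le_mul_right this (by have := o.fl.q4; omega))

theorem cmS (h : p ∈ P) (k : p ∉ W) (hz : z ∈ Z) : ∃ p' ∈ P, p * p' * p⁻¹ * p'⁻¹ = z := by
  by_cases k1 : κ p = 0
  · obtain ⟨v, hv⟩ := o.fl.bsurj (fun e => k (o.mW h e k1)) (o.zf z hz)
    obtain ⟨u, hu, rfl⟩ := o.asj v
    exact ⟨u, o.QP hu, o.co.zinj (o.cmP p h u (o.QP hu)).1 hz (by simp [(o.cmP p h u (o.QP hu)).2, k1, o.κQ u hu, hv])⟩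
  · obtain ⟨w, hw, e⟩ := o.trW hz h k1
    exact ⟨w, o.WP hw, by
      rw [← o.co.zi hz, show z = w * p * w⁻¹ * p⁻¹ by rw [e]; group]; group⟩

theorem PZn (n : g ∈ N(P)) : g ∈ N(Z) := mem_norm_of fun z hz => by
  obtain ⟨u, hu, rfl⟩ := o.co.zsq hz
  convert (o.sqP _ (conj_mem_of_norm n (o.QP hu))).1 using 1; group

theorem PWn (c : #E ≠ q) (n : g ∈ N(P)) : g ∈ N(W) := mem_norm_of fun w hw => by_contra fun k => by
  have ad := o.co.zc2 (y := w) o.PZ fun x hx => (o.cmP w (o.WP hw) x hx).1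
  have := o.co.zad.card_le (K := ⊥) (fun x hx e => o.z0 x hx e) (I := (fun e => κ e * ω w) '' E) fun z hz => by
    obtain ⟨p, hp, e⟩ := o.cmS (conj_mem_of_norm n (o.WP hw)) k (conj_mem_of_norm (o.PZn n) hz)
    have m := conj_mem_of_norm' n hp
    obtain ⟨-, -, -, -, e', he', -, -, -, e3⟩ := o.dec m
    refine ⟨e', he', ?_⟩
    rw [show z = w * (g⁻¹ * p * g) * w⁻¹ * (g⁻¹ * p * g)⁻¹ by
      rw [show z = g⁻¹ * (g * z * g⁻¹) * g by group, ← e]; group, (o.cmP w (o.WP hw) _ m).2]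
    simp [o.aW hw, o.κW w hw, e3]
  rw [o.co.cardZ, card_bot, one_mul] at this
  exact c (le_antisymm o.cardE (this.trans (Set.ncard_image_le (s := (E : Set G)))))

end Pc

end H17.GN
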