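/-
Standard `U₃(2ⁿ)` with odd core, part 4: the subgroup `R₀` of order `q⁶`.
-/
import Cfsg.Agent.H17.GN3

set_option autoImplicit false
set_option linter.unusedSectionVars false

namespace H17.GN
open Cfsg Subgroup H18 H17.GS H17.TS
open H17.GM hiding St Pc
open H19 hiding eq_bot_mono

universe u

variable {G : Type u} [Group G] [Finite G] {A B D E H K L M P Q R S T U V W X Y Y' Z : Subgroup G}
  {b c d e g h j k p p' r s t u v w x y z h0 h1 : G} {F : Type*} [Field F] [Finite F] {σ : F →+* F} {q m : ℕ}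
  {a ζ κ ω f f' : G → F} {m0 m1 k0 : F}

theorem St.onto (o : St σ q t E U L Q Z T a ζ h0 h1 m0 m1) (hf : Ad f X) (n : h0 ∈ N(X))
    (e : ∀ x ∈ X, f (h0 * x * h0⁻¹) = m0 * f x) (hx : x ∈ X) (x0 : f x ≠ 0) (y : F) : ∃ x ∈ X, f x = y := by
  have k := fun i x (hx : x ∈ X) => (⟨_, conj_mem_of_norm (pow_mem n i) hx, eqv_pow n e i x hx⟩ : ∃ y ∈ X, f y = m0 ^ i * f x)
  have k' : ∀ l, σ l = l → ∀ x ∈ X, ∃ y ∈ X, f y = l * f x := fun l hl x hx => by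
    by_cases l0 : l = 0
    · exact ⟨1, one_mem _, by rw [l0, hf.one, zero_mul]⟩
    · obtain ⟨i, rfl⟩ := o.hF l hl l0; exact k i x hx
  obtain ⟨α, β, ha, hb, e'⟩ := o.fl.basis (o.fl.trne o.m1n o.m1ne) (y / f x)
  obtain ⟨i, -, hi⟩ := o.h1e
  obtain ⟨x1, m1, e1⟩ := k' α ha x hx
  obtain ⟨x2, m2, e2⟩ := k i x hx
  obtain ⟨x3, m3, e3⟩ := k' β hb x2 m2
  exact ⟨_, mul_mem m1 m3, by rw [hf _ m1 _ m3, e1, e3, e2, ← hi, ← mul_assoc, ← add_mul, ← e', div_mul_cancel₀ _ x0]⟩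

namespace Pc
variable (o : Pc σ q t E U L Q Z T W P a ζ κ ω h0 h1 m0 m1 0)
include o

theorem W2 (hw : w ∈ W) : w * w = 1 := (o.sqe (o.WP hw)).2 (by simp [o.aW hw, o.κW w hw])
theorem ac (hk : k ∈ cmod (Q ⊔ W) W) (hp : p ∈ Q ⊔ W) : a (k * p * k⁻¹) = a p := by
  have := o.aad _ (o.WP (hk.2.2 p hp)) _ (o.P0P hp)
  rwa [inv_mul_cancel_right, o.aW (hk.2.2 p hp), zero_add] at this
theorem dad (he : e ∈ P) : Ad (da a e) (cmod (Q ⊔ W) W ⊓ cmod P (Q ⊔ W)) := fun k hk l hl => by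
  unfold da
  rw [show k * l * e * (k * l)⁻¹ * e⁻¹ = k * (l * e * l⁻¹ * e⁻¹) * k⁻¹ * (k * e * k⁻¹ * e⁻¹) by group,
    o.aad _ (o.P0P (conj_mem_of_norm hk.1.1 (hl.2.2.2 e he))) _ (o.P0P (hk.2.2.2 e he)), o.ac hk.1 (hl.2.2.2 e he), add_comm]
theorem nP0 (n : g ∈ N(P)) (n' : g ∈ N(W)) : g ∈ N(Q ⊔ W) :=
  o.P0e ▸ norms_inf (zpowers_le' n) (zpowers_le' (norm_le_norm_cent W n')) (mem_zpowers g)
theorem nK0 (n : g ∈ N(P)) (n' : g ∈ N(W)) : g ∈ N(K0 P Q W) :=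
  norms_inf (norms_inf (zpowers_le' (cmod_norm (o.nP0 n n') n')) (zpowers_le' (cmod_norm n (o.nP0 n n'))))
    (zpowers_le' (norm_le_norm_cent W n')) (mem_zpowers g)
theorem nK0' (hc : c ∈ C[t]) (n : c ∈ N(Q)) : c ∈ N(K0 P Q W) := o.nK0 (o.nP hc n) (o.nW c hc n)
theorem dae {l : F} (ha : Act Q a c l id) (hc : c ∈ C[t]) (he : e ∈ E) (hk : k * e * k⁻¹ * e⁻¹ ∈ P) :
    da a e (c * k * c⁻¹) = l * da a e k := by
  unfold da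
  rw [← id_eq (a (k * e * k⁻¹ * e⁻¹)), ← ha.e _ (o.PQ hk)]
  conv_lhs => rw [← cj_comm' (o.st.ec he hc)]
  congr 1; group
theorem cP0 (hc : c ∈ C[t]) (n : c ∈ N(Q)) : c ∈ cmod P (Q ⊔ W) :=
  ⟨o.nP hc n, o.nP0 (o.nP hc n) (o.nW c hc n), fun p hp => by
    have m := conj_mem_of_norm (o.nP hc n) hp
    exact o.mP0 (mul_mem m (inv_mem hp)) (by rw [o.κad _ m _ (inv_mem hp), o.κe hc n hp, o.κad.inv hp, add_neg_cancel])⟩
theorem PK : P ≤ cmod (Q ⊔ W) W ⊓ cmod P (Q ⊔ W) := fun p hp =>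
  ⟨⟨o.nX (o.ZW.trans le_sup_right) o.P0P hp, o.nX o.ZW o.WP hp, fun x hx => o.ZW (o.cmP p hp x (o.P0P hx)).1⟩,
    le_normalizer hp, o.nX (o.ZW.trans le_sup_right) o.P0P hp, fun x hx => mem_sup_right (o.ZW (o.cmP p hp x hx).1)⟩
theorem P0K : Q ⊔ W ≤ K0 P Q W := le_inf (o.P0P.trans o.PK) o.P0W
theorem daP (hp : p ∈ P) (he : e ∈ P) : da a e p = 0 := o.co.aZ (o.cmP p hp e he).1
theorem Z0W : (U ⊓ C(L)) ≤ C(W) := cents_of_stable (H := Z) (o.co.pZ.coprime o.oD) (fun _ h => o.co.cvZ (o.st.Z0N h).2)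
  (commg_le_iff.2 fun w hw y hy => by
    have m := conj_mem_of_norm (o.nW y (o.st.Z0N hy).1 (o.st.Z0N hy).2.1) (inv_mem hw)
    refine o.ωW _ (by simpa [mul_assoc] using mul_mem hw m) ?_
    rw [show w * y * w⁻¹ * y⁻¹ = w * (y * w⁻¹ * y⁻¹) by group, o.ωad _ (o.WP hw) _ (o.WP m),
      o.ωe (o.co.cv_iff.1 (o.st.Z0N hy).2) (o.st.Z0N hy).1 (o.WP (inv_mem hw)), o.ωad.inv (o.WP hw)]; simp)
theorem Z0P : (U ⊓ C(L)) ≤ C(P) := o.Pe ▸ cents_sup (cents_sup (o.st.Z0c.trans (cent_mono le_sup_right)) o.Z0W)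
  (o.st.Z0c.trans (cent_mono le_sup_left))

theorem tZ (hw : w ∈ W) (h : w * t * (w * t) = 1) : w ∈ Z := o.ωW w hw (by
  simpa [o.aad _ (o.WP hw) _ o.tP, o.κad _ (o.WP hw) _ o.tP, o.ωad _ (o.WP hw) _ o.tP, o.aW hw, o.at', o.ωt, o.κW w hw, o.κt]
    using (o.sqe (mul_mem (o.WP hw) o.tP)).1 h)

theorem r0a (n : g ∈ N(P)) (n' : g ∈ N(W)) (hp : p ∈ Q ⊔ W) (p0 : a p ≠ 0) (e : p * t ∈ cj g E) :
    ∃ R, Rz t Q W P R a := by
  have ad := o.dad o.tP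
  have tP0 : ∀ k ∈ K0 P Q W, k * t * k⁻¹ * t⁻¹ ∈ Q ⊔ W := fun k hk => hk.1.2.2.2 t o.tP
  have nh := o.nK0' o.st.h0C o.h0a.n
  have dh := fun k hk => o.dae o.h0a o.st.h0C o.tE (o.P0P (tP0 k hk))
  have m3 : m1 + 1 ≠ 0 := mt o.fl.add_eq.1 o.m1ne
  obtain ⟨k, hk, k0⟩ : ∃ k ∈ cmod (Q ⊔ W) W ⊓ cmod P (Q ⊔ W), da a t k ≠ 0 := by
    have n0 := o.nP0 n n'
    obtain ⟨c, c0, τ, ha⟩ := o.co.slx (o.aad.mono o.P0P) (fun v => let ⟨u, hu, e⟩ := o.asj v; ⟨u, mem_sup_left hu, e⟩) n0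
      (o.PZn n) fun u hu => by simpa [o.κP0 hu] using o.sqP u (o.P0P hu)
    obtain ⟨j, hj⟩ := o.fl.aut τ
    have n1 := (o.cP0 o.st.h0C o.h0a.n).2.1
    have a1 : ∀ x ∈ Q ⊔ W, a (g * h0 * g⁻¹ * x * (g * h0 * g⁻¹)⁻¹) = τ m0 * a x := fun x hx => by
      have m := conj_mem_of_norm' n0 hx
      have := ha _ m
      rw [show g * (g⁻¹ * x * g) * g⁻¹ = x by group] at this
      rw [show g * h0 * g⁻¹ * x * (g * h0 * g⁻¹)⁻¹ = g * (h0 * (g⁻¹ * x * g) * h0⁻¹) * g⁻¹ by group,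
        ha _ (conj_mem_of_norm n1 m), o.h0a.e _ (o.PQ (o.P0P m)), id, this, map_mul]; ring
    have a2 := (o.h0a.pow (2 ^ j)).inv (pow_ne_zero _ o.st.m00)
    have k1 := cmod_cj n n0 (o.cP0 o.st.h0C o.h0a.n)
    have k2 := mul_mem (mul_mem n' (o.nW _ o.st.h0C o.h0a.n)) (inv_mem n')
    have c1 : g * h0 * g⁻¹ ∈ C(cj g E) := by rw [← cj_cent]; exact conj_mem_cj.2 (o.st.CEc o.st.h0C)
    have c2 : (h0 ^ 2 ^ j)⁻¹ ∈ C[t] := inv_mem (pow_mem o.st.h0C _)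
    rw [← hj] at a2
    have t0 : τ m0 ≠ 0 := by simpa using o.st.m00
    have t1 : τ m0 ≠ 1 := fun e => o.st.m01 (τ.injective (e.trans (map_one τ).symm))
    generalize g * h0 * g⁻¹ = h at *
    generalize (h0 ^ 2 ^ j)⁻¹ = h' at *
    have k3 := mul_mem (o.cP0 c2 a2.n) k1
    refine ⟨h' * h, ⟨⟨k3.2.1, mul_mem (o.nW _ c2 a2.n) k2, fun x hx => ?_⟩, k3⟩, ?_⟩
    · have m := conj_mem_of_norm k3.2.1 hx
      have m' := mul_mem m (inv_mem hx)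
      refine o.mW (o.P0P m') ?_ (o.κP0 m')
      rw [o.aad _ (o.P0P m) _ (o.P0P (inv_mem hx)), show h' * h * x * (h' * h)⁻¹ = h' * (h * x * h⁻¹) * h'⁻¹ by group,
        a2.e _ (o.PQ (o.P0P (conj_mem_of_norm k1.2.1 hx))), id, a1 x hx, inv_mul_cancel_left₀ t0, o.aad.inv (o.P0P hx),
        add_neg_cancel]
    · have m1 := conj_mem_of_norm k1.2.1 (inv_mem hp)
      have : h' * h * t * (h' * h)⁻¹ * t⁻¹ = h' * (h * p⁻¹ * h⁻¹ * p) * h'⁻¹ := by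
        calc _ = h' * (h * p⁻¹ * h⁻¹ * (h * (p * t) * h⁻¹)) * h'⁻¹ * t⁻¹ := by group
          _ = h' * (h * p⁻¹ * h⁻¹ * p) * h'⁻¹ * (h' * t * h'⁻¹) * t⁻¹ := by rw [cj_comm' (cm c1 e).symm]; group
          _ = _ := by rw [cj_comm' (mem_cent1.1 c2)]; group
      unfold da
      rw [this, a2.e _ (o.PQ (o.P0P (mul_mem m1 hp))), id, o.aad _ (o.P0P m1) _ (o.P0P hp), a1 _ (inv_mem hp),
        o.co.ainv (o.PQ (o.P0P hp)), ← add_one_mul]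
      exact mul_ne_zero (inv_ne_zero t0) (mul_ne_zero (mt o.fl.add_eq.1 t1) p0)
  have d1 : ∀ k ∈ cmod (Q ⊔ W) W ⊓ cmod P (Q ⊔ W), h1 * k * h1⁻¹ * k⁻¹ ∈ K0 P Q W ∧
      da a t (h1 * k * h1⁻¹ * k⁻¹) = (m1 + 1) * da a t k := fun k hk => by
    have n1 := o.nP o.st.h1C o.st.h1a.n
    have n2 := o.nW _ o.st.h1C o.st.h1a.n
    have m : h1 * k * h1⁻¹ ∈ cmod (Q ⊔ W) W ⊓ cmod P (Q ⊔ W) := ⟨cmod_cj (o.nP0 n1 n2) n2 hk.1, cmod_cj n1 (o.nP0 n1 n2) hk.2⟩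
    exact ⟨⟨Subgroup.mul_mem _ m (inv_mem hk), comm_mem_l (K := C(W)) (le_cent1_iff.1 o.Wh) (norm_le_norm_cent W hk.1.2.1)⟩, by
      rw [ad _ m _ (inv_mem hk), ad.inv hk, o.fl.neg, o.dae o.st.h1a o.st.h1C o.tE (o.P0P (hk.2.2.2 t o.tP)), add_one_mul]⟩
  have on := o.st.onto (ad.mono (inf_le_left : K0 P Q W ≤ _)) nh dh (d1 k hk).1 (by rw [(d1 k hk).2]; exact mul_ne_zero m3 k0)
  have ZK : (U ⊓ C(L)) ≤ K0 P Q W := fun y hy => ⟨⟨⟨cent_le_norm _ (cent_mono o.P0P (o.Z0P hy)), cent_le_norm _ (o.Z0W hy),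
    fun x hx => cm1 (cm (o.Z0P hy) (o.P0P hx)).symm ▸ one_mem W⟩, o.cP0 (o.st.Z0N hy).1 (o.st.Z0N hy).2.1⟩, o.Z0W hy⟩
  obtain ⟨R, pR, RK, mR, nR, kR, oR, -⟩ := sylK' o.fl.aa (ad.mono (inf_le_left : K0 P Q W ≤ _)) o.P0K (o.pP.of_le o.P0P) ZK o.oD
    (o.Z0P.trans (cent_mono o.P0P)) (fun k hk e => by
      have m := o.mW (o.P0P (tP0 k hk)) e (o.κP0 (tP0 k hk))
      obtain ⟨w, hw, e'⟩ := o.trW (o.tZ m (by
        rw [inv_mul_cancel_right, show k * t * k⁻¹ * (k * t * k⁻¹) = k * (t * t) * k⁻¹ by group, o.st.tt]; group)) o.tP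
        (by simp [o.κt])
      have hk' := mul_mem (inv_mem (o.P0K (mem_sup_right hw))) hk
      have c : w⁻¹ * k ∈ C[t] := mem_cent1.2 (comm_of_cj (by
        rw [show w⁻¹ * k * t * (w⁻¹ * k)⁻¹ = w⁻¹ * (k * t * k⁻¹ * t⁻¹ * t) * w by group, ← e']; group))
      have cQ : ∀ u ∈ Q, w⁻¹ * k * u * (w⁻¹ * k)⁻¹ * u⁻¹ ∈ Z := fun u hu => by
        have m := hk'.1.1.2.2 u (mem_sup_left hu)
        exact o.ωW _ m (o.ct (o.WP m) (mul_mem (mul_mem (mul_mem c (o.st.QC hu)) (inv_mem c)) (inv_mem (o.st.QC hu))))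
      have nq := norm_of_cmod o.ZQ cQ
      obtain ⟨e, he, u, hu, y, hy, e2⟩ := o.st.cvd c ⟨nq, o.co.nZ nq, cQ⟩
      have : e ∈ C(W) := (mul_mem_cancel_right (o.P0W (mem_sup_left hu))).1
        ((mul_mem_cancel_right (o.Z0W hy)).1 (e2 ▸ hk'.2))
      rw [o.κE e he (o.cW (o.EP he) this), one_mul] at e2
      exact ⟨w * u, mul_mem (mem_sup_right hw) (mem_sup_left hu), y, hy, by rw [mul_assoc, ← e2]; group⟩)
    (fun y hy => by unfold da; rw [cm1 (mem_cent1.1 (o.st.Z0N hy).1), o.aad.one]) (o.nK0' o.st.h1C o.st.h1a.n)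
    (cents_symm inf_le_right o.st.h1L) fun k hk => by
      obtain ⟨k', hk', e⟩ := on (da a t k / (m1 + 1))
      exact ⟨k', hk', by rw [(d1 k' hk'.1).2, e, mul_div_cancel₀ _ m3]⟩
  have onR : ∀ x, ∃ r ∈ R, da a t r = x := fun x => by
    obtain ⟨k, hk, rfl⟩ := on x; exact oR k hk
  have adR : Ad (da a t) R := ad.mono (RK.trans inf_le_left)
  have s0 : ∀ r ∈ R, r * r ∈ Q ⊔ W := fun r hr => kR _ (mul_mem hr hr) (by rw [adR r hr r hr, o.fl.aa])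
  have n0 : R ≤ N(Q ⊔ W) := fun r hr => (RK hr).1.1.1
  have c0 := fun r hr s hs => cm_of_sq (r := r) (s := s) n0 s0 hr hs
  have nR0 := nR nh
  have ab : ∀ r ∈ R, ∀ s ∈ R, a (r * s * r⁻¹ * s⁻¹) = 0 := by
    have b1 : ∀ y ∈ R, Ad (fun x => a (x * y * x⁻¹ * y⁻¹)) R := fun y hy x hx x' hx' => by
      beta_reduce
      rw [show x * x' * y * (x * x')⁻¹ * y⁻¹ = x * (x' * y * x'⁻¹ * y⁻¹) * x⁻¹ * (x * y * x⁻¹ * y⁻¹) by group,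
        o.aad _ (o.P0P (conj_mem_of_norm (n0 hx) (c0 x' hx' y hy))) _ (o.P0P (c0 x hx y hy)),
        o.ac (RK hx).1.1 (c0 x' hx' y hy), add_comm]
    have sw : ∀ x ∈ R, ∀ y ∈ R, a (x * y * x⁻¹ * y⁻¹) = a (y * x * y⁻¹ * x⁻¹) := fun x hx y hy => by
      rw [← o.co.ainv (o.PQ (o.P0P (c0 x hx y hy)))]; congr 1; group
    have b2 : ∀ x ∈ R, Ad (fun y => a (x * y * x⁻¹ * y⁻¹)) R := fun x hx y hy y' hy' => by
      beta_reduce; rw [sw x hx _ (mul_mem hy hy'), sw x hx y hy, sw x hx y' hy']; exact b1 x hx y hy y' hy'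
    have k2 : ∀ x ∈ R, ∀ y ∈ R, da a t y = 0 → a (x * y * x⁻¹ * y⁻¹) = 0 := fun x hx y hy e =>
      o.aW ((RK hx).1.1.2.2 y (kR y hy e))
    obtain ⟨c, hc⟩ := bil_of adR adR (fun x y => a (x * y * x⁻¹ * y⁻¹)) b1 b2
      (fun y hy x hx e => (sw x hx y hy).trans (k2 y hy x hx e)) k2
    have hm : ∀ (i : ℕ) x y, c (m0 ^ i * x) (m0 ^ i * y) = m0 ^ i * c x y := fun i x y => by
      obtain ⟨x, hx, rfl⟩ := onR x
      obtain ⟨y, hy, rfl⟩ := onR y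
      have e := eqv_pow nR0 (fun x hx => dh x (RK hx)) i
      rw [← e x hx, ← e y hy, hc _ (conj_mem_of_norm (pow_mem nR0 i) hx) _ (conj_mem_of_norm (pow_mem nR0 i) hy), hc x hx y hy,
        ← id_eq (a (x * y * x⁻¹ * y⁻¹)), ← (o.h0a.pow i).e _ (o.PQ (o.P0P (c0 x hx y hy)))]
      congr 1; group
    intro r hr s hs
    rw [← hc r hr s hs]
    refine o.fl.alt0 c (fun x x' y => ?_) (fun x y y' => ?_) (fun x => ?_) (fun l x y hl l0 => ?_) o.m1n o.m1ne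
      (fun x y => ?_) _ _
    · obtain ⟨x, hx, rfl⟩ := onR x
      obtain ⟨x', hx', rfl⟩ := onR x'
      obtain ⟨y, hy, rfl⟩ := onR y
      rw [← adR x hx x' hx', hc _ (mul_mem hx hx') y hy, hc x hx y hy, hc x' hx' y hy]; exact b1 y hy x hx x' hx'
    · obtain ⟨x, hx, rfl⟩ := onR x
      obtain ⟨y', hy', rfl⟩ := onR y'
      obtain ⟨y, hy, rfl⟩ := onR y
      rw [← adR y hy y' hy', hc _ hx _ (mul_mem hy hy'), hc x hx y hy, hc x hx y' hy']; exact b2 x hx y hy y' hy'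
    · obtain ⟨x, hx, rfl⟩ := onR x
      rw [hc x hx x hx, cm1 rfl, o.aad.one]
    · obtain ⟨i, rfl⟩ := o.hF l hl l0; exact hm i x y
    · obtain ⟨i, -, rfl⟩ := o.h1e; exact hm i x y
  have cW : ∀ r ∈ R, ∀ s ∈ R, r * s * r⁻¹ * s⁻¹ ∈ W := fun r hr s hs =>
    o.mW (o.P0P (c0 r hr s hs)) (ab r hr s hs) (o.κP0 (c0 r hr s hs))
  refine ⟨R, RK, pR, mR, nR, kR, onR, fun r hr => by_contra fun r0 => ?_⟩
  have sq := o.st.onto (f := fun r => a (r * r)) (X := R) (fun x hx y hy => by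
      beta_reduce
      rw [show x * y * (x * y) = x * x * (x⁻¹ * y * x⁻¹⁻¹ * y⁻¹) * (y * y) by group,
        o.aad _ (o.P0P (mul_mem (s0 x hx) (c0 _ (inv_mem hx) y hy))) _ (o.P0P (s0 y hy)),
        o.aad _ (o.P0P (s0 x hx)) _ (o.P0P (c0 _ (inv_mem hx) y hy)), ab _ (inv_mem hx) y hy, add_zero]) nR0
    (fun x hx => by rw [← id_eq (a (x * x)), ← o.h0a.e _ (o.PQ (o.P0P (s0 x hx)))]; congr 1; group) hr
    fun e => r0 (o.mW (o.P0P (s0 r hr)) e (o.κP0 (s0 r hr)))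
  obtain ⟨x, hx, e1⟩ := sq 1
  obtain ⟨v, hv⟩ := o.fl.bsurj one_ne_zero (map_one σ)
  obtain ⟨u, hu, rfl⟩ := o.asj v
  have hu' := mR u (o.P0K (mem_sup_left hu)) (o.co.pQ.elt hu)
  have := (o.cme (o.P0P (s0 x hx)) (o.QP hu)).1 (of_cm1 (by
    rw [cm_mul (RK hx).2 (cW x hx u hu'), o.W2 (cW x hx u hu')]))
  rw [e1, hv, o.κP0 (s0 x hx), o.κQ u hu] at this
  simp at this

end Pc

end H17.GN
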