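/-
Standard `U₃(2ⁿ)` with odd core, part 5: coordinates on `R₀` and the transfer.
-/
import Cfsg.Agent.H17.GN4

set_option autoImplicit false
set_option linter.unusedSectionVars false

namespace H17.GN
open Cfsg Subgroup H18 H17.GS H17.TS
open H17.GM hiding St Pc
open H19 hiding eq_bot_mono

universe u

variable {G : Type u} [Group G] [Finite G] {A B D E H K L M P Q R S T U V W X Y Y' Z : Subgroup G}
  {b c d e g h j k p p' r s t u v w x y z h0 h1 : G} {F : Type*} [Field F] [Finite F] {σ : F →+* F} {q m : ℕ}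
  {a ζ κ ω f f' ξ η : G → F} {m0 m1 k0 ε : F}

theorem St.w2 (o : St σ q t E U L Q Z T a ζ h0 h1 m0 m1) (hf : Ad f X) (hg : Ad f' Y) (β : G → G → F)
    (b1 : ∀ y ∈ Y, Ad (β · y) X) (b2 : ∀ x ∈ X, Ad (β x) Y) (k1 : ∀ y ∈ Y, ∀ x ∈ X, f x = 0 → β x y = 0)
    (k2 : ∀ x ∈ X, ∀ y ∈ Y, f' y = 0 → β x y = 0) (fs : ∀ l, ∃ x ∈ X, f x = l) (gs : ∀ l, ∃ x ∈ Y, f' x = l)
    (n1 : h0 ∈ N(X)) (n2 : h0 ∈ N(Y)) (ef : ∀ x ∈ X, f (h0 * x * h0⁻¹) = m0 * f x)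
    (eg : ∀ x ∈ Y, f' (h0 * x * h0⁻¹) = m0 * f' x)
    (eb : ∀ x ∈ X, ∀ y ∈ Y, β (h0 * x * h0⁻¹) (h0 * y * h0⁻¹) = m0 * σ m0 * β x y)
    (bf : ∀ x ∈ X, ∀ y ∈ Y, σ (β x y) = β x y) :
    ∃ d, ∀ x ∈ X, ∀ y ∈ Y, β x y = d * f x * σ (f' y) + σ d * σ (f x) * f' y := by
  obtain ⟨c, hc⟩ := bil_of hf hg β b1 b2 k1 k2
  have hm : ∀ (i : ℕ) x y, c (m0 ^ i * x) (m0 ^ i * y) = m0 ^ i * σ (m0 ^ i) * c x y := fun i x y => by
    induction i with
    | zero => simp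
    | succ i ih =>
      obtain ⟨x', m1, e1⟩ := fs (m0 ^ i * x)
      obtain ⟨y', m2, e2⟩ := gs (m0 ^ i * y)
      rw [pow_succ', mul_assoc, mul_assoc m0, ← e1, ← e2, ← ef x' m1, ← eg y' m2,
        hc _ (conj_mem_of_norm n1 m1) _ (conj_mem_of_norm n2 m2), eb x' m1 y' m2, ← hc x' m1 y' m2, e1, e2, ih, map_mul]
      ring
  refine (o.fl.hs c (fun x x' y => ?_) (fun x y y' => ?_) (fun l x y hl l0 => ?_) o.m1n o.m1ne (fun x y => ?_)
    fun x y => ?_).imp fun d hd x hx y hy => by rw [← hc x hx y hy, hd]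
  · obtain ⟨x, m1, rfl⟩ := fs x
    obtain ⟨x', m2, rfl⟩ := fs x'
    obtain ⟨y, m3, rfl⟩ := gs y
    rw [← hf x m1 x' m2, hc _ (mul_mem m1 m2) y m3, hc x m1 y m3, hc x' m2 y m3]; exact b1 y m3 x m1 x' m2
  · obtain ⟨x, m1, rfl⟩ := fs x
    obtain ⟨y, m2, rfl⟩ := gs y
    obtain ⟨y', m3, rfl⟩ := gs y'
    rw [← hg y m2 y' m3, hc _ m1 _ (mul_mem m2 m3), hc x m1 y m2, hc x m1 y' m3, b2 x m1 y m2 y' m3]
  · obtain ⟨i, rfl⟩ := o.hF l hl l0; rw [hm, hl]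
  · obtain ⟨i, -, e⟩ := o.h1e; rw [e, hm, ← e, o.m1n, one_mul]
  · obtain ⟨x, m1, rfl⟩ := fs x
    obtain ⟨y, m2, rfl⟩ := gs y
    rw [hc x m1 y m2, bf x m1 y m2]

theorem St.m0o (o : St σ q t E U L Q Z T a ζ h0 h1 m0 m1) : m0 ^ orderOf h0 = 1 := by
  have := o.co.uniq (o.h0a.pow (orderOf h0)) (pow_orderOf_eq_one h0 ▸ o.co.cv_iff.1 (one_mem _)) 1
  exact (mul_one _).symm.trans (this.trans (mul_one 1))

namespace Pc
variable (o : Pc σ q t E U L Q Z T W P a ζ κ ω h0 h1 m0 m1 0) (rz : Rz t Q W P R a)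
include o rz

theorem RW : R ≤ C(W) := fun _ hr => (rz.le hr).2
theorem P0R : Q ⊔ W ≤ R := fun p hp => rz.mx p (o.P0K hp) (o.pP.elt (o.P0P hp))
theorem WR : W ≤ R := le_sup_right.trans (o.P0R rz)
theorem cR (hr : r ∈ R) (hs : s ∈ R) : r * s * r⁻¹ * s⁻¹ ∈ W := cm_of_sq (norms_of_cents (o.RW rz)) rz.sq hr hs
theorem nR (hc : c ∈ C[t]) (n : c ∈ N(Q)) : c ∈ N(R) := rz.nr (o.nK0' hc n)
theorem adR (he : e ∈ P) : Ad (da a e) R := (o.dad he).mono (rz.le.trans inf_le_left)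
theorem RE (hr : r ∈ R) (he : e ∈ P) : r * e * r⁻¹ * e⁻¹ ∈ Q ⊔ W := (rz.le hr).1.2.2.2 e he
theorem cardR : #R = q ^ 6 := by
  rw [(o.adR rz o.tP).card_eq (o.P0R rz) (fun x hx => ⟨fun k => o.daP (o.P0P k) o.tP, rz.ker x hx⟩) (I := Set.univ)
    (fun _ _ => trivial) fun y _ => rz.on y, o.cardP0, Set.ncard_univ, o.fl.card]; ring

theorem r0b : #E = 2 ∧ ∃ ξ η ε, Rc σ t Q Z W R a ζ ω ξ η ε := by
  have nR := o.nR rz o.st.h0C o.h0a.n
  have nW := o.nW _ o.st.h0C o.h0a.n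
  have n0 := o.nP0 (o.nP o.st.h0C o.h0a.n) nW
  have RW := o.RW rz
  have P0R := o.P0R rz
  have ah : ∀ x ∈ Q ⊔ W, a (h0 * x * h0⁻¹) = m0 * a x := fun x hx => o.h0a.e x (o.PQ (o.P0P hx))
  obtain ⟨ξ0, a0, e0, -⟩ := (o.aad.mono o.P0P).ext o.fl.aa le_sup_right P0R (norms_of_cents RW) rz.sq (fun _ => o.aW) ⊤
    fun _ _ => trivial
  obtain ⟨ξ, aξ, eξ, -, hξ⟩ := a0.avg o.fl.two nR n0 o.h0o o.st.m0o (fun x hx => by
    rw [e0 _ (conj_mem_of_norm n0 hx), e0 x hx, ah x hx]) ⊤ (fun _ _ => trivial) fun _ _ => trivial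
  replace eξ : ∀ x ∈ Q ⊔ W, ξ x = a x := fun x hx => (eξ x hx).trans (e0 x hx)
  clear e0 a0 ξ0
  obtain ⟨η0, a0, e0, f0⟩ := o.zad.ext (W := ⊥) o.fl.aa bot_le o.ZW (fun _ _ => mem_norm_of fun x hx => by simpa using hx) (fun w hw => o.W2 hw)
    (fun w hw => by rw [mem_bot.1 hw, o.co.z1]) (F0 σ) o.zf
  have nZ := o.co.nZ o.h0a.n
  obtain ⟨η, aη, eη, fη, hη⟩ := a0.avg o.fl.two nW nZ o.h0o (m := m0 * σ m0)
    (by rw [mul_pow, ← map_pow, o.st.m0o, map_one, mul_one]) (fun x hx => by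
      rw [e0 _ (conj_mem_of_norm nZ hx), e0 x hx, o.co.actz1 o.h0a hx]) (F0 σ) f0
    fun y (hy : σ y = y) => show σ _ = _ by rw [map_mul, map_inv₀, o.fl.nfix, hy]
  replace eη : ∀ x ∈ Z, η x = ζ x := fun x hx => (eη x hx).trans (e0 x hx)
  replace fη : ∀ x ∈ W, σ (η x) = η x := fη
  clear e0 a0 f0 η0
  have cR := fun r hr s hs => o.cR rz (r := r) (s := s) hr hs
  have adt := o.adR rz o.tP
  have dh : ∀ x ∈ R, da a t (h0 * x * h0⁻¹) = m0 * da a t x := fun x hx =>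
    o.dae o.h0a o.st.h0C o.tE (o.P0P (o.RE rz hx o.tP))
  have ηh : ∀ x y, η (h0 * x * h0⁻¹ * (h0 * y * h0⁻¹) * (h0 * x * h0⁻¹)⁻¹ * (h0 * y * h0⁻¹)⁻¹) =
      m0 * σ m0 * η (x * y * x⁻¹ * y⁻¹) := fun x y => by rw [← hη]; congr 1; group
  have d0 : ∀ p ∈ Q ⊔ W, da a t p = 0 := fun p hp => o.daP (o.P0P hp) o.tP
  have aP0 : ∀ v, ∃ u ∈ Q ⊔ W, a u = v := fun v => let ⟨u, hu, e⟩ := o.asj v; ⟨u, mem_sup_left hu, e⟩
  obtain ⟨d, hd⟩ := o.st.w2 (o.aad.mono o.P0P) adt (fun p r => η (p * r * p⁻¹ * r⁻¹) + (a p * σ (ξ r) + ξ r * σ (a p)))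
    (fun y hy x hx x' hx' => by
      have := aη.c1 (P0R.trans RW) (fun x hx => cR x (P0R hx) y hy) x hx x' hx'
      beta_reduce at this ⊢
      rw [this, o.aad x (o.P0P hx) x' (o.P0P hx'), map_add]; ring)
    (fun y hy x hx x' hx' => by
      have := aη.c2 RW (cR y (P0R hy)) x hx x' hx'
      beta_reduce at this ⊢
      rw [this, aξ x hx x' hx', map_add]; ring)
    (fun y hy x hx e => by simp [cm1 (cm (RW hy) (o.mW (o.P0P hx) e (o.κP0 hx))), aη.one, e])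
    (fun x hx y hy e => by
      have m := rz.ker y hy e
      have := o.cmP x (o.P0P hx) y (o.P0P m)
      simp only [eη _ this.1, this.2, eξ y m, o.κP0 hx, o.κP0 m, zero_mul, add_zero, o.fl.aa])
    aP0 rz.on n0 nR ah dh (fun x hx y hy => by simp only [ηh, ah x hx, hξ, map_mul]; ring)
    fun x hx y hy => by rw [map_add, fη _ (cR x (P0R hx) y hy), o.fl.bfix]
  obtain ⟨ξ', hξ'⟩ : ∃ ξ' : G → F, ∀ r, ξ' r = ξ r + σ d * da a t r := ⟨_, fun _ => rfl⟩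
  have aξ' : Ad ξ' R := fun x hx y hy => by rw [hξ', hξ', hξ', aξ x hx y hy, adt x hx y hy]; ring
  have eξ' : ∀ x ∈ Q ⊔ W, ξ' x = a x := fun x hx => by rw [hξ', eξ x hx, d0 x hx, mul_zero, add_zero]
  have ξh : ∀ x ∈ R, ξ' (h0 * x * h0⁻¹) = m0 * ξ' x := fun x hx => by rw [hξ', hξ', hξ, dh x hx]; ring
  have F1 : ∀ p ∈ Q ⊔ W, ∀ r ∈ R, η (p * r * p⁻¹ * r⁻¹) = a p * σ (ξ' r) + ξ' r * σ (a p) := fun p hp r hr => by
    have := hd p hp r hr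
    rw [hξ', map_add, map_mul, o.fl.ss]
    linear_combination this - (a p * σ (ξ r) + ξ r * σ (a p)) * o.fl.two
  clear hd hξ' hξ eξ aξ ξ d
  have ηe : ∀ e ∈ E, ∀ w ∈ W, η (e * w * e⁻¹) = η w + κ e * ω w := fun e he w hw => by
    have := o.cmP e (o.EP he) w (o.WP hw)
    have k := aη _ (o.ZW this.1) w hw
    rw [inv_mul_cancel_right, eη _ this.1, this.2] at k
    simpa [o.aE he, o.aW hw, o.κW w hw, add_comm] using k
  have pe : ∀ e ∈ E, ∀ r ∈ R, e * r * e⁻¹ * r⁻¹ ∈ Q ⊔ W ∧ a (e * r * e⁻¹ * r⁻¹) = da a e r := fun e he r hr =>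
    ⟨cm_swap (o.RE rz hr (o.EP he)), by rw [da, ← o.co.ainv (o.PQ (o.P0P (o.RE rz hr (o.EP he))))]; congr 1; group⟩
  have F2 : ∀ e ∈ E, ∀ r ∈ R, ∀ p ∈ Q ⊔ W, κ e * ω (p * r * p⁻¹ * r⁻¹) = a p * σ (da a e r) + da a e r * σ (a p) :=
    fun e he r hr p hp => by
      have m1 := conj_mem_of_norm (o.PK (o.EP he)).1.1 hp
      have m2 := mul_mem (P0R (pe e he r hr).1) hr
      have := F1 _ m1 _ m2
      rw [aξ' _ (P0R (pe e he r hr).1) r hr, eξ' _ (pe e he r hr).1, (pe e he r hr).2, o.ac (o.PK (o.EP he)).1 hp,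
        show e * p * e⁻¹ * (e * r * e⁻¹ * r⁻¹ * r) * (e * p * e⁻¹)⁻¹ * (e * r * e⁻¹ * r⁻¹ * r)⁻¹ =
          e * (p * r * p⁻¹ * r⁻¹) * e⁻¹ by group, ηe e he _ (cR p (P0R hp) r hr), F1 p hp r hr, map_add] at this
      linear_combination this
  have de : ∀ e ∈ E, ∀ r ∈ R, da a e r = κ e * da a t r := fun e he r hr => o.fl.add_eq.1 (o.fl.nondeg fun v => by
    obtain ⟨p, hp, rfl⟩ := aP0 v
    have e1 := F2 e he r hr p hp
    have e2 := F2 t o.tE r hr p hp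
    rw [o.κt, one_mul] at e2
    rw [e2] at e1
    rw [map_add, map_mul, o.κf e (o.EP he)]
    linear_combination -e1 + (κ e * (a p * σ (da a t r) + da a t r * σ (a p))) * o.fl.two)
  have F3 : ∀ e ∈ E, ∀ r ∈ R, κ e * ω (r * r) = da a e r * σ (da a e r) + (da a e r * σ (ξ' r) + ξ' r * σ (da a e r)) :=
    fun e he r hr => by
      obtain ⟨m, e1⟩ := pe e he r hr
      have s1 := o.sqP _ (o.P0P m)
      have := aη.s2 (RW (P0R m)) (o.ZW s1.1) (rz.sq r hr) (cR _ (P0R m) r hr)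
      rw [F1 _ m r hr, eη _ s1.1, s1.2, e1, o.κP0 m, show e * r * e⁻¹ * r⁻¹ * r * (e * r * e⁻¹ * r⁻¹ * r) =
        e * (r * r) * e⁻¹ by group, ηe e he _ (rz.sq r hr)] at this
      linear_combination this - (da a e r * σ (ξ' r) + ξ' r * σ (da a e r)) * o.fl.two
  have sq2 := fun r hr => (one_mul _).symm.trans (o.κt ▸ F3 t o.tE r hr)
  refine ⟨?_, ?_⟩
  · obtain ⟨r, hr, e1⟩ := rz.on 1
    rw [← FX.card_zp o.st.tt o.t1, le_antisymm (zpowers_le' o.tE) fun e he => ?_]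
    have := F3 e he r hr
    rw [sq2 r hr, de e he r hr, e1, map_mul, o.κf e (o.EP he), map_one] at this
    rcases mul_eq_zero.1 (show κ e * (κ e + 1) = 0 by linear_combination -this + κ e * o.fl.two) with k | k
    · rw [o.κE e he k]; exact one_mem _
    · rw [mul_eq_one_iff_eq_inv.1 (o.κE _ (mul_mem he o.tE) (by rw [o.κad _ (o.EP he) _ o.tP, o.κt, k]))]
      exact inv_mem (mem_zpowers t)
  have k2 : ∀ x ∈ R, ∀ y ∈ R, da a t x = 0 → η (x * y * x⁻¹ * y⁻¹) + (ξ' x * σ (ξ' y) + ξ' y * σ (ξ' x)) = 0 :=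
    fun x hx y hy e => by rw [F1 x (rz.ker x hx e) y hy, eξ' x (rz.ker x hx e), o.fl.aa]
  obtain ⟨d, hd⟩ := o.st.w2 adt adt (fun p r => η (p * r * p⁻¹ * r⁻¹) + (ξ' p * σ (ξ' r) + ξ' r * σ (ξ' p)))
    (fun y hy x hx x' hx' => by
      have := aη.c1 RW (fun x hx => cR x hx y hy) x hx x' hx'
      beta_reduce at this ⊢
      rw [this, aξ' x hx x' hx', map_add]; ring)
    (fun y hy x hx x' hx' => by
      have := aη.c2 RW (cR y hy) x hx x' hx'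
      beta_reduce at this ⊢
      rw [this, aξ' x hx x' hx', map_add]; ring)
    (fun y hy x hx e => k2 x hx y hy e)
    (fun x hx y hy e => by rw [aη.sw (cR y hy x hx), o.fl.neg, add_comm (ξ' x * _)]; exact k2 y hy x hx e)
    rz.on rz.on nR nR dh dh (fun x hx y hy => by simp only [ηh, ξh x hx, ξh y hy, map_mul]; ring)
    fun x hx y hy => by rw [map_add, fη _ (cR x hx y hy), o.fl.bfix]
  have hε : σ d = d := by
    obtain ⟨r, hr, e1⟩ := rz.on 1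
    have := hd r hr r hr
    rw [cm1 rfl, aη.one, o.fl.aa, e1, map_one] at this
    linear_combination -this - d * o.fl.two
  refine ⟨ξ', η, d, aξ', eξ', aη, eη, fη, hε, fun r hr => ?_, sq2⟩
  obtain ⟨ψ, hψ⟩ : ∃ ψ : G → F, ∀ r, ψ r = η (r * r) + (ξ' r * σ (ξ' r) + d * (da a t r * σ (da a t r))) := ⟨_, fun _ => rfl⟩
  have aψ : Ad ψ R := fun x hx y hy => by
    have := hd x hx y hy
    rw [hψ, hψ, hψ, aη.s2 (RW hx) (rz.sq x hx) (rz.sq y hy) (cR x hx y hy), aξ' x hx y hy, adt x hx y hy, map_add, map_add]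
    rw [hε] at this
    linear_combination -this + (ξ' x * σ (ξ' y) + ξ' y * σ (ξ' x)) * o.fl.two
  obtain ⟨i, e1, e2⟩ := o.h1e
  have n1 := o.nR rz o.st.h1C o.st.h1a.n
  obtain ⟨s, hs, e3⟩ := rz.on (da a t r / (m1 + 1))
  have m := conj_mem_of_norm n1 hs
  have ψ1 : ψ (h1 * s * h1⁻¹) = ψ s := by
    rw [hψ, hψ, show h1 * s * h1⁻¹ * (h1 * s * h1⁻¹) = h1 * (s * s) * h1⁻¹ by group,
      cj_comm' (mem_cent1.1 (o.Wh (rz.sq s hs))).symm, e1, eqv_pow nR ξh i s hs, eqv_pow nR dh i s hs, ← e2, map_mul, map_mul]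
    linear_combination (ξ' s * σ (ξ' s) + d * (da a t s * σ (da a t s))) * o.m1n
  have := adt.wd aψ (fun x hx e => by
    have m := rz.ker x hx e
    have := o.sqP x (o.P0P m)
    rw [hψ, eη _ this.1, this.2, o.κP0 m, eξ' x m, e]; simp [o.fl.aa]) hr (mul_mem m hs) (by
      rw [adt _ m s hs, e1, eqv_pow nR dh i s hs, ← e2, ← add_one_mul, e3, mul_div_cancel₀ _ (mt o.fl.add_eq.1 o.m1ne)])
  rw [aψ _ m s hs, ψ1, o.fl.aa, hψ] at this
  exact o.fl.add_eq.1 this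

theorem sig (c : Rc σ t Q Z W R a ζ ω ξ η ε) : ∃ f f' : G → F, Ad f R ∧ Ad f' R ∧ (∀ r ∈ R, f (t * r * t⁻¹) = f' r) ∧
    (∀ r ∈ R, f' (t * r * t⁻¹) = f r) ∧ (∃ r ∈ R, f r = 0 ∧ f' r ≠ 0) ∧
    ∀ r ∈ R, (r * r = 1 ∨ ∃ w ∈ W, ∀ s ∈ R, r * s * r⁻¹ * s⁻¹ ≠ w) ↔ (f r = 0 ∨ f' r = 0) := by
  obtain ⟨ρ, hρ, hσ⟩ := o.fl.rho c.εf
  have two := o.fl.two
  have adt := o.adR rz o.tP
  have P0R := o.P0R rz
  have tr : ∀ r ∈ R, ξ (t * r * t⁻¹) = ξ r + da a t r ∧ da a t (t * r * t⁻¹) = da a t r := fun r hr => by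
    have m := cm_swap (o.RE rz hr o.tP)
    have e1 := c.ad _ (P0R m) r hr
    have e2 := adt _ (P0R m) r hr
    rw [inv_mul_cancel_right] at e1 e2
    rw [e1, e2, c.p0 _ m, o.daP (o.P0P m) o.tP, zero_add, add_comm, da, ← o.co.ainv (o.PQ (o.P0P m))]
    exact ⟨by congr 2; group, rfl⟩
  have sj : ∀ x y, ∃ r ∈ R, ξ r + ρ * da a t r = x ∧ ξ r + (ρ + 1) * da a t r = y := fun x y => by
    obtain ⟨r, hr, e1⟩ := rz.on (x + y)
    obtain ⟨u, hu, e2⟩ := o.asj (x + ρ * (x + y) + ξ r)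
    have m := P0R (mem_sup_left hu)
    refine ⟨u * r, mul_mem m hr, ?_⟩
    rw [c.ad u m r hr, adt u m r hr, c.p0 u (mem_sup_left hu), o.daP (o.QP hu) o.tP, e1, e2]
    exact ⟨by linear_combination (ρ * (x + y) + ξ r) * two, by linear_combination (x + ρ * (x + y) + ξ r) * two⟩
  have inj : ∀ w ∈ W, ∀ w' ∈ W, η w = η w' → ω w = ω w' → w = w' := fun w hw w' hw' e1 e2 => by
    obtain ⟨z, hz, rfl⟩ := o.eqz (o.WP hw) (o.WP hw') (by rw [o.aW hw, o.aW hw']) (by rw [o.κW _ hw, o.κW _ hw']) e2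
    rw [c.ηad z (o.ZW hz) _ hw', add_eq_right, c.ηz z hz] at e1
    rw [o.z0 z hz e1, one_mul]
  have ωW := o.ωad.mono o.WP
  have cm : ∀ r ∈ R, ∀ s ∈ R, η (r * s * r⁻¹ * s⁻¹) = ξ r * σ (ξ s) + ξ s * σ (ξ r) +
      ε * (da a t r * σ (da a t s) + da a t s * σ (da a t r)) ∧ ω (r * s * r⁻¹ * s⁻¹) =
      da a t r * σ (da a t s) + da a t s * σ (da a t r) + (da a t r * σ (ξ s) + ξ s * σ (da a t r)) +
        (ξ r * σ (da a t s) + da a t s * σ (ξ r)) := fun r hr s hs => by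
    have e1 := c.ηad.s2 (o.RW rz hr) (rz.sq r hr) (rz.sq s hs) (o.cR rz hr hs)
    have e2 := ωW.s2 (o.RW rz hr) (rz.sq r hr) (rz.sq s hs) (o.cR rz hr hs)
    rw [c.sq1 _ (mul_mem hr hs), c.sq1 r hr, c.sq1 s hs, c.ad r hr s hs, adt r hr s hs, map_add, map_add] at e1
    rw [c.sq2 _ (mul_mem hr hs), c.sq2 r hr, c.sq2 s hs, c.ad r hr s hs, adt r hr s hs, map_add, map_add] at e2
    clear * - e1 e2 two
    exact ⟨by grind, by grind⟩
  refine ⟨fun r => ξ r + ρ * da a t r, fun r => ξ r + (ρ + 1) * da a t r,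
    fun x hx y hy => by simp only [c.ad x hx y hy, adt x hx y hy]; ring,
    fun x hx y hy => by simp only [c.ad x hx y hy, adt x hx y hy]; ring, fun r hr => by simp only [tr r hr]; ring,
    fun r hr => by simp only [tr r hr]; linear_combination da a t r * two,
    let ⟨r, hr, e1, e2⟩ := sj 0 1; ⟨r, hr, e1, e2.trans_ne one_ne_zero⟩, fun r hr => ?_⟩
  have s1 := c.sq1 r hr
  have s2 := c.sq2 r hr
  beta_reduce
  rcases hσ with hσ | hσ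
  · have k : ∀ s ∈ R, η (r * s * r⁻¹ * s⁻¹) + ρ * ω (r * s * r⁻¹ * s⁻¹) =
        (ξ r + ρ * da a t r) * σ (ξ s + ρ * da a t s) + (ξ s + ρ * da a t s) * σ (ξ r + ρ * da a t r) ∧
        η (r * s * r⁻¹ * s⁻¹) + (ρ + 1) * ω (r * s * r⁻¹ * s⁻¹) = (ξ r + (ρ + 1) * da a t r) * σ (ξ s + (ρ + 1) * da a t s) +
          (ξ s + (ρ + 1) * da a t s) * σ (ξ r + (ρ + 1) * da a t r) := fun s hs => by
      simp only [cm r hr s hs, map_add, map_mul, map_one, hσ]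
      clear * - hρ two
      exact ⟨by grind, by grind⟩
    refine ⟨fun h => by_contra fun n => ?_, fun h => .inr ?_⟩
    · rw [not_or] at n
      rcases h with h | ⟨w, hw, h⟩
      · rw [h, c.ηad.one] at s1
        rw [h, ωW.one] at s2
        refine n.1 (o.fl.n0.1 ?_)
        simp only [map_add, map_mul, hσ]
        clear * - hρ two s1 s2
        grind
      · have f1 := c.ηf w hw
        have f2 := o.ωf w (o.WP hw)
        obtain ⟨v1, e1⟩ := o.fl.bsurj n.1 (b := η w + ρ * ω w) (by rw [map_add, map_mul, f1, f2, hσ])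
        obtain ⟨v2, e2⟩ := o.fl.bsurj n.2 (b := η w + (ρ + 1) * ω w) (by rw [map_add, map_mul, f1, f2, map_add, hσ, map_one])
        obtain ⟨s, hs, rfl, rfl⟩ := sj v1 v2
        obtain ⟨k1, k2⟩ := k s hs
        rw [e1] at k1
        rw [e2] at k2
        exact h s hs (inj _ (o.cR rz hr hs) w hw (by linear_combination (ρ + 1) * k1 - ρ * k2) (by linear_combination k2 - k1))
    · obtain ⟨z, hz, e⟩ := o.co.zsj (map_one σ)
      refine ⟨z, o.ZW hz, fun s hs e' => ?_⟩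
      obtain ⟨k1, k2⟩ := k s hs
      rw [e', c.ηz z hz, e, o.ωZ hz] at k1 k2
      rcases h with h | h
      · simp [h] at k1
      · simp [h] at k2
  · have inj' : ∀ w ∈ W, ∀ w' ∈ W, η w + ρ * ω w = η w' + ρ * ω w' → w = w' := fun w hw w' hw' e => by
      have := congrArg σ e
      simp only [map_add, map_mul, hσ, c.ηf w hw, c.ηf w' hw', o.ωf w (o.WP hw), o.ωf w' (o.WP hw')] at this
      exact inj w hw w' hw' (by linear_combination (ρ + 1) * e - ρ * this) (by linear_combination this - e)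
    have k : η (r * r) + ρ * ω (r * r) = (ξ r + ρ * da a t r) * σ (ξ r + (ρ + 1) * da a t r) := by
      simp only [s1, s2, map_add, map_mul, map_one, hσ]
      clear * - hρ two
      grind
    refine ⟨fun h => by_contra fun n => ?_, fun h => .inl (inj' _ (rz.sq r hr) 1 W.one_mem ?_)⟩
    · rw [not_or] at n
      rcases h with h | ⟨w, hw, h⟩
      · rw [h, c.ηad.one, ωW.one, mul_zero, add_zero] at k
        exact mul_ne_zero n.1 (mt o.fl.s0.1 n.2) k.symm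
      · obtain ⟨s, hs, e1, e2⟩ := sj 0 (σ ((η w + ρ * ω w) / (ξ r + ρ * da a t r)))
        refine h s hs (inj' _ (o.cR rz hr hs) w hw ?_)
        rw [← mul_div_cancel₀ (η w + ρ * ω w) n.1, ← o.fl.ss (_ / _), ← e2, ← add_zero (_ * σ _),
          ← zero_mul (σ (ξ r + (ρ + 1) * da a t r)), ← e1]
        simp only [cm r hr s hs, map_add, map_mul, map_one, hσ]
        clear * - hρ two
        grind
    · rw [k, c.ηad.one, ωW.one]
      rcases h with h | h <;> simp [h]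

theorem tD (hp : p ∈ P) (k : κ p = 1) (e : p * p = 1) : Dc E p := by
  obtain ⟨r, hr, e1⟩ := rz.on (a p)
  have m := o.RE rz hr o.tP
  have m' := mul_mem (o.P0P m) o.tP
  have e2 : a (r * t * r⁻¹ * t⁻¹ * t) = a p := by rw [o.aad _ (o.P0P m) _ o.tP, o.at', add_zero, ← e1, da]
  have e3 : κ (r * t * r⁻¹ * t⁻¹ * t) = 1 := by rw [o.κad _ (o.P0P m) _ o.tP, o.κt, o.κP0 m, zero_add]
  rw [inv_mul_cancel_right] at m' e2 e3
  have e4 := (o.sqe m').1 (o.st.Dsq ((dc_of o.tE o.t1).J r))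
  have e5 := (o.sqe hp).1 e
  obtain ⟨z, hz, e6⟩ := o.eqz hp m' e2.symm (k.trans e3.symm) (by
    rw [e2, e3] at e4; rw [k] at e5; linear_combination e5 - e4)
  obtain ⟨w, -, e7⟩ := o.trW hz m' (e3 ▸ one_ne_zero)
  exact e6 ▸ e7 ▸ ((dc_of o.tE o.t1).J r).J w

theorem uq (h2 : #E = 2) (n : E ⊔ Q ≤ cj g (N(R) ⊓ N(W))) : g ∈ N(R) ⊓ N(W) := by
  rw [cj_inf, cj_norm, cj_norm, le_inf_iff] at n
  obtain ⟨nR, nW⟩ := n
  have q4 := o.fl.q4
  have wD : ∀ x ∈ cj g W, ¬ Dc E x := fun x hx h => by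
    obtain ⟨w, hw, rfl⟩ := mem_cj'.1 hx
    have := o.WD hw h.J'; omega
  have w2 : ∀ x ∈ cj g W, x * x = 1 := fun x hx => by
    obtain ⟨w, hw, rfl⟩ := mem_cj'.1 hx
    rw [show g * w * g⁻¹ * (g * w * g⁻¹) = g * (w * w) * g⁻¹ by group, o.W2 hw]; group
  have ab : cj g W ≤ C(cj g W) := by rw [← cj_cent]; exact cj_mono g o.Wab
  have sq : ∀ r ∈ cj g R, r * r ∈ cj g W := fun x hx => by
    obtain ⟨w, hw, rfl⟩ := mem_cj'.1 hx
    convert conj_mem_cj (g := g).2 (rz.sq w hw) using 1; group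
  have RW : cj g R ≤ C(cj g W) := by rw [← cj_cent]; exact cj_mono g (o.RW rz)
  have WR : cj g W ≤ cj g R := cj_mono g (o.WR rz)
  have pR := rz.pg.J g
  have cR : #(cj g R) = q ^ 6 := by rw [card_cj, o.cardR rz]
  suffices h : cj g W = W ∧ cj g R = R from ⟨mem_norm_iff_cj.2 h.2, mem_norm_iff_cj.2 h.1⟩
  have cW : #(cj g W) = #W := card_cj g W
  generalize cj g W = W' at *
  generalize cj g R = R' at *
  have tE : t ∈ E ⊔ Q := mem_sup_left o.tE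
  have ct : ∀ x, x * x = 1 → ∀ y, x = y * t * y⁻¹ * t⁻¹ → x ∈ C[t] := fun x e y k => mem_cent1.2 (comm_of_cj' (by
    refine Eq.trans ?_ (inv_eq_of_mul_eq_one_left e)
    rw [k, o.st.ti']
    calc _ = (t * y * t * y⁻¹) * (t * t) := by group
      _ = _ := by rw [o.st.tt]; simp only [mul_inv_rev, o.st.ti', inv_inv, mul_one, mul_assoc]))
  have cE : ∀ {Y : Subgroup G}, t ∈ Y → E ≤ Y := fun h e he => (o.st.two_mem h2 he).elim (· ▸ one_mem _) (· ▸ h)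
  obtain rfl : W' = W := by
    have lZ : W' ⊓ C[t] ≤ Z := fun x hx => by_contra fun k => wD x hx.1 (o.dA x (o.st.ne (B := W' ⊓ C[t]) (fun x hx => w2 x hx.1) inf_le_right
      (norms_inf (le_sup_right.trans nW) (norms_of_le o.st.QC)) hx) k)
    refine eq_of_le_of_card_eq (fun w hw => ?_) cW
    have m := comm_mem_l hw (nW tE)
    have z1 := lZ ⟨m, ct _ (w2 _ m) w rfl⟩
    have cQ : ∀ u ∈ Q, w * u * w⁻¹ * u⁻¹ ∈ Z := fun u hu => by
      have m' := comm_mem_l hw (nW (mem_sup_right hu))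
      refine lZ ⟨m', mem_cent1.2 (comm_of_cj' ?_)⟩
      have c1 := mem_cent1.1 (o.st.QC hu)
      have c2 := cm (o.co.QZ hu) (cm_swap z1)
      have c3 := cm' ab m' (cm_swap m)
      calc _ = (t * w * t⁻¹ * w⁻¹) * w * (t * u * t⁻¹) * w⁻¹ * (t * w * t⁻¹ * w⁻¹)⁻¹ * (t * u * t⁻¹)⁻¹ := by group
        _ = (t * w * t⁻¹ * w⁻¹) * w * u * w⁻¹ * u⁻¹ * (u * (t * w * t⁻¹ * w⁻¹)⁻¹ * u⁻¹) := by rw [cj_comm' c1.symm]; group
        _ = (t * w * t⁻¹ * w⁻¹) * (w * u * w⁻¹ * u⁻¹) * (t * w * t⁻¹ * w⁻¹)⁻¹ := by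
          rw [← conj_inv, cj_comm' c2.symm]; group
        _ = _ := cj_comm' c3.symm
    have nq := norm_of_cmod o.ZQ cQ
    have v : w ∈ cmod Q Z := ⟨nq, o.co.nZ nq, cQ⟩
    have wP := o.hP (norm_of_cmod le_sup_right fun x hx => ((sup_le (cE ⟨cent_le_norm Z (o.PZ o.tP), z1⟩) fun z hz =>
      ⟨le_normalizer hz, cQ z (o.ZQ hz)⟩ : E ⊔ Z ≤ cmr w Z) hx).2) (e2_inv (w2 w hw)) v
    obtain ⟨-, -, -, -, e, he, -, -, -, e3⟩ := o.dec wP
    rcases o.st.two_mem h2 he with rfl | rfl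
    · rw [o.κad.one] at e3
      exact o.mW wP (o.fl.n0.1 (by simpa [e3] using (o.sqe wP).1 (w2 w hw))) e3
    · exact (wD w hw (o.tD rz wP (e3.trans o.κt) (w2 w hw))).elim
  refine ⟨rfl, ?_⟩
  obtain ⟨k1, k2⟩ := half o.st.tt (nR tE) (nW tE) WR (norms_of_cents RW) sq
  have k3 : ∀ y ∈ R' ⊓ cmr t W', y * t * y⁻¹ * t⁻¹ ∈ Z := fun y hy =>
    o.ωW _ (cm_swap hy.2.2) (o.ct (o.WP (cm_swap hy.2.2)) (ct _ (o.W2 (cm_swap hy.2.2)) y rfl))
  have k4 := FX.cent_bd k3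
  have lX : R' ⊓ C[t] ≤ C[t] := inf_le_right
  have pX := pR.infl C[t]
  have WZ : ∀ x ∈ W', x ∈ C[t] → x ∈ Z := fun x hx c => o.ωW x hx (o.ct (o.WP hx) c)
  have k5 : q ^ 3 ≤ #(R' ⊓ C[t]) := by
    have := H19.card_le (inf_le_inf_right C[t] (inf_le_left : R' ⊓ cmr t W' ≤ R'))
    rw [cR, o.cardW] at k2
    rw [o.co.cardZ] at k4
    by_contra h
    have h1 : #(R' ⊓ cmr t W') < q ^ 4 := k4.trans_lt (by rw [pow_succ q 3]; exact Nat.mul_lt_mul_of_pos_right (by omega) (by omega))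
    nlinarith [Nat.mul_lt_mul'' h1 h1]
  have XQ : R' ⊓ C[t] ≤ Q := by
    have l : ∀ x ∈ R' ⊓ C[t], x ∈ cmod Q Z → x ∈ E ⊔ Q := fun x hx v => o.st.cv2 hx.2 v (pX.elt hx)
    rcases o.co.rb (K := Z) pX (o.st.nQ_of pX lX (norms_inf (le_sup_right.trans nR) (norms_of_le o.st.QC)))
      (fun x hx => o.PQv (o.WP (sq x hx.1))) (fun x hx y hy => o.WQ (cm_of_sq (norms_of_cents RW) sq hx.1 hy.1))
      (fun x hx v => o.st.EQQ (l x hx v)) fun x hx v => by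
        have m := o.AP (o.st.cq2 hx.2 v (pX.elt hx))
        exact o.mZ m (o.co.aC v) (o.cW m (RW hx.1)) (o.ct m hx.2) with k | k
    · exact fun x hx => o.mQ' (o.EQP (l x hx (k hx))) (o.cW (o.EQP (l x hx (k hx))) (RW hx.1)) (o.ωEQ (l x hx (k hx)))
    · rw [o.co.cardZ] at k; nlinarith
  have QR : Q ≤ R' := (eq_of_le_of_card_ge XQ (o.co.cardQ ▸ k5)).ge.trans inf_le_left
  have PR : Q ⊔ W' ≤ R' := sup_le QR WR
  have k6 : R' ⊓ cmr t W' ≤ Q ⊔ W' := fun y hy => by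
    obtain ⟨w, hw, e⟩ := o.trW (k3 y hy) o.tP (o.κt ▸ one_ne_zero)
    exact (mul_mem_cancel_left (inv_mem (mem_sup_right hw))).1 (mem_sup_left (XQ ⟨Subgroup.mul_mem _ (inv_mem (WR hw)) hy.1,
      mem_cent1.2 (comm_of_cj (by
        rw [show w⁻¹ * y * t * (w⁻¹ * y)⁻¹ = w⁻¹ * (y * t * y⁻¹ * t⁻¹ * t) * w by group, ← e]; group))⟩))
  refine eq_of_le_of_card_eq (fun r hr => rz.mx r ?_ (pR.elt hr)) (cR.trans (o.cardR rz).symm)
  have c1 : ∀ x ∈ Q ⊔ W', r * x * r⁻¹ * x⁻¹ ∈ W' := fun x hx => cm_of_sq (norms_of_cents RW) sq hr (PR hx)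
  have n1 := norm_of_cmod le_sup_right c1
  have c2 : ∀ x ∈ P, r * x * r⁻¹ * x⁻¹ ∈ Q ⊔ W' := fun x hx => ((sup_le (fun x hx => ⟨le_normalizer hx, mem_sup_right (c1 x hx)⟩)
    (cE ⟨(o.PK o.tP).1.1, cm_swap (k6 (k1 r hr))⟩) : Q ⊔ W' ⊔ E ≤ cmr r (Q ⊔ W')) (o.Pe ▸ hx)).2
  exact ⟨⟨⟨n1, cent_le_norm _ (RW hr), c1⟩, norm_of_cmod o.P0P c2, n1, c2⟩, RW hr⟩

theorem r0 : Av t := by
  obtain ⟨h2, ξ, η, ε, c⟩ := o.r0b rz
  obtain ⟨f, f', a1, a2, t1, t2, ⟨r, hr, r1, r2⟩, k⟩ := o.sig rz c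
  have lT : T ≤ N(R) ⊓ N(W) := fun x hx => ⟨o.nR rz (o.sylT.le hx) (o.st.TQ hx), o.nW x (o.sylT.le hx) (o.st.TQ hx)⟩
  have nt := (lT o.st.tT).1
  have e1 : cj t a1.ker = a2.ker := by
    refine le_antisymm (fun x hx => ?_) fun x hx => mem_cj.2 ?_
    · obtain ⟨y, hy, rfl⟩ := mem_cj'.1 hx
      exact ⟨conj_mem_of_norm nt hy.1, (t2 y hy.1).trans hy.2⟩
    · have := t1 x hx.1
      rw [o.st.ti'] at this ⊢
      exact ⟨by simpa [o.st.ti'] using conj_mem_of_norm nt hx.1, this.trans hx.2⟩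
  have ne : a1.ker ≠ a2.ker := fun e => r2 (e.le ⟨hr, r1⟩).2
  have cd : #a1.ker = #a2.ker := by rw [← e1, card_cj]
  have pm : ∀ h ∈ N(R) ⊓ N(W), ∀ X : Subgroup G, X = a1.ker ∨ X = a2.ker → cj h X = a1.ker ∨ cj h X = a2.ker := fun h hh X hX => by
    have c1 : #(cj h X) = #a1.ker := by rw [card_cj]; rcases hX with rfl | rfl <;> simp only [cd]
    refine (SubgroupClass.subset_union.1 fun x hx => ?_).imp (eq_of_le_of_card_eq · c1) (eq_of_le_of_card_eq · (c1.trans cd))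
    obtain ⟨y, hy, rfl⟩ := mem_cj'.1 hx
    have m : y ∈ R := by rcases hX with rfl | rfl <;> exact hy.1
    have m' := conj_mem_of_norm hh.1 m
    refine ((k _ m').1 (((k y m).2 (hX.imp (fun e => (e.le hy).2) fun e => (e.le hy).2)).imp (fun e => ?_) ?_)).imp
      (fun e => ⟨m', e⟩) fun e => ⟨m', e⟩
    · rw [show h * y * h⁻¹ * (h * y * h⁻¹) = h * (y * y) * h⁻¹ by group, e]; group
    · rintro ⟨w, hw, e⟩
      exact ⟨_, conj_mem_of_norm hh.2 hw, fun s hs e' => e _ (conj_mem_of_norm' hh.1 hs) (by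
        rw [show w = h⁻¹ * (h * w * h⁻¹) * h by group, ← e']; group)⟩
  have t0 : t ∉ N(a1.ker) := fun h => ne ((cj_of_mem_norm h).symm.trans e1)
  refine tr o.st.tt o.sylT lT o.st.tT (idx2 (fun x hx y hy x0 y0 => mem_norm_iff_cj.2 ?_) (lT o.st.tT) t0) t0
    fun g hg _ => ⟨1, one_mem _, by simpa using o.uq rz h2 ((sup_le o.st.ET o.QT).trans hg)⟩
  have e2 := (pm x hx _ (.inl rfl)).resolve_left (mt mem_norm_iff_cj.2 x0)
  rw [cj_mul, (pm y hy _ (.inl rfl)).resolve_left (mt mem_norm_iff_cj.2 y0)]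
  exact (pm x hx _ (.inr rfl)).resolve_right fun e => ne (cj_inj.1 (e2.trans e.symm))

end Pc

end H17.GN
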