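/-
Standard `U₃(2ⁿ)` with odd core, part 8: the exceptional configuration.
-/
import Cfsg.Agent.H17.GN7

set_option autoImplicit false
set_option linter.unusedSectionVars false

namespace H17.GN
open Cfsg Subgroup H18 H17.GS H17.TS
open H17.GM hiding St Pc
open H19 hiding eq_bot_mono

universe u

variable {G : Type u} [Group G] [Finite G] {A B D E H K L M P Q R S T U V W X Y Y' Z : Subgroup G}
  {b c d e g h j k p p' r s t u v w x y z h0 h1 : G} {F : Type*} [Field F] [Finite F] {σ : F →+* F} {q m : ℕ}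
  {a ζ κ ω f f' ξ η : G → F} {m0 m1 k0 ε : F}

/-- the swapping element -/
structure Bd (t x : G) (Q Z T R : Subgroup G) : Prop where
  n1 : x ∈ N(T ⊔ R)
  n2 : x ∈ N(Q ⊔ R)
  x2 : E2 x
  xx : x * x ∈ T ⊔ R
  v : x * t * x⁻¹ ∉ cmod Q Z

namespace Pc
variable (o : Pc σ q t E U L Q Z T W P a ζ κ ω h0 h1 m0 m1 1) (γ : Gm σ t E Q Z T W R ζ ω) (h2 : #E = 2)
include o γ

theorem SQ : T ⊔ R ≤ N(Q) := sup_le o.st.TQ (γ.RQ.trans (cent_le_norm Q))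
theorem SR : T ⊔ R ≤ N(R) := sup_le γ.nT le_normalizer
theorem pS : PG 2 (T ⊔ R) := sup_comm R T ▸ γ.pR.sup o.st.pT γ.nT
theorem FS : Q ⊔ R ≤ T ⊔ R := sup_le_sup_right o.QT R
theorem FH : Q ⊔ R ≤ (T ⊓ U) ⊔ R := sup_le_sup_right (le_inf o.QT (o.st.QL.trans o.LU)) R
theorem tS : t ∈ T ⊔ R := mem_sup_left o.st.tT
theorem FR : Q ⊔ R ≤ cmod R Z := fun x hx =>
  ⟨o.SR γ (o.FS γ hx), cent_le_norm Z (o.FZ γ hx), fun r hr => o.cF γ hx (mem_sup_right hr)⟩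
theorem Fv : Q ⊔ R ≤ cmod Q Z := (o.FQ γ).trans o.co.QCv
theorem tR : t ∉ cmod R Z := fun h => by
  obtain ⟨r, hr, e⟩ := γ.on 1 (map_one σ)
  simp [da, o.ωZ (cm_swap (h.2.2 r hr))] at e
omit γ in
theorem ωc (c : x ∈ C(Z)) (n : x ∈ N(W)) (hy : y ∈ W) : ω (x * y * x⁻¹) = ω y := by
  rw [← o.sqW hy, ← o.sqW (conj_mem_of_norm n hy), conj_mul, cj_comm' (cm c (o.sqP y (o.WP hy)).1).symm]

theorem al (hx0 : x ∈ T ⊔ R) (c : x ∈ C(Z)) : (∀ r ∈ R, x * r * x⁻¹ * r⁻¹ ∈ W) ∧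
    (x ∈ cmod R Z ∨ ∀ r ∈ R, ω (x * r * x⁻¹ * r⁻¹) = da ω t r) := by
  have n := o.SR γ hx0
  have ad := (o.adF γ).mono (le_sup_right : R ≤ Q ⊔ R)
  have k : ∀ r ∈ R, x * r * x⁻¹ * r⁻¹ ∈ W := fun r hr => γ.ker _ (comm_mem_r n hr) (by
    rw [ad _ (conj_mem_of_norm n hr) _ (inv_mem hr), ad.inv hr, add_neg_eq_zero]
    obtain ⟨x, hx, y, hy, rfl⟩ := (mem_sup_of_norm' γ.nT).1 hx0
    rw [← ad.cj hy hr, da, da, ← o.ωc ((mul_mem_cancel_right (o.co.CZ (γ.RQ hy))).1 c) (o.nW x (o.sylT.le hx) (o.st.TQ hx))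
      (γ.tW _ (conj_mem_of_norm (le_normalizer hy) hr))]
    conv_lhs => rw [← cj_comm' (mem_cent1.1 (o.sylT.le hx))]
    congr 1; group)
  have a1 : Ad (fun r => ω (x * r * x⁻¹ * r⁻¹)) R := fun r hr s hs => by
    have := o.ωF γ (mem_sup_right hr) (k s hs)
    beta_reduce
    rw [show x * (r * s) * x⁻¹ * (r * s)⁻¹ = x * r * x⁻¹ * r⁻¹ * (r * (x * s * x⁻¹ * s⁻¹) * r⁻¹) by group,
      o.ωad _ (o.WP (k r hr)) _ (o.WP this.1), this.2]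
  have a2 : Ad (fun r => ω (x * r * x⁻¹ * r⁻¹) + da ω t r) R := fun r hr s hs => by
    have := a1 r hr s hs
    beta_reduce at this ⊢
    rw [this, ad r hr s hs]; ring
  refine ⟨k, (SubgroupClass.subset_union (H := R) (K := a1.ker) (L := a2.ker)).1 (fun r hr => ?_) |>.imp
    (fun l => ⟨n, cent_le_norm Z c, fun r hr => o.ωW _ (k r hr) (l hr).2⟩) fun l r hr => o.fl.add_eq.1 (l hr).2⟩
  have m := k r hr
  have c1 := o.cF γ (mem_sup_right hr) (mem_sup_right (γ.WR m))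
  have := (o.co.zs2 (o.PZ (o.WP m)) (o.sqP _ (o.WP m)).1 (γ.sq r hr) (cm_swap c1)).2
  rw [o.co.zsw c1, inv_mul_cancel_right, conj_mul, cj_comm' (cm c (γ.sq r hr)).symm, o.sqW m] at this
  have g := γ.g2 r hr _ m
  rw [add_right_comm, right_eq_add, o.fl.add_eq] at this
  rw [← this] at g
  exact (mul_eq_zero.1 (show ω (x * r * x⁻¹ * r⁻¹) * (ω (x * r * x⁻¹ * r⁻¹) + da ω t r) = 0 by
    linear_combination g + da ω t r * ω (x * r * x⁻¹ * r⁻¹) * o.fl.two)).imp (⟨hr, ·⟩) (⟨hr, ·⟩)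

theorem c2R : C2 (cmod R Z) ((T ⊔ R) ⊓ C(Z)) := fun x hx y hy x0 y0 => by
  obtain ⟨k1, k2⟩ := o.al γ hx.1 hx.2
  obtain ⟨k3, k4⟩ := o.al γ hy.1 hy.2
  refine ⟨o.SR γ (mul_mem hx.1 hy.1), cent_le_norm Z (mul_mem hx.2 hy.2), fun r hr => ?_⟩
  have nW : x ∈ N(W) := norm_of_cmod le_rfl fun w hw => k1 w (γ.WR hw)
  have m := conj_mem_of_norm nW (k3 r hr)
  rw [show x * y * r * (x * y)⁻¹ * r⁻¹ = x * (y * r * y⁻¹ * r⁻¹) * x⁻¹ * (x * r * x⁻¹ * r⁻¹) by group]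
  exact o.ωW _ (mul_mem m (k1 r hr)) (by
    rw [o.ωad _ (o.WP m) _ (o.WP (k1 r hr)), o.ωc hx.2 nW (k3 r hr), k2.resolve_left x0 r hr, k4.resolve_left y0 r hr, o.fl.aa])
theorem c2Q : C2 (cmod Q Z) ((T ⊔ R) ⊓ C(Z)) := o.co.c2z ((o.pS γ).infl _) (inf_le_left.trans (o.SQ γ)) inf_le_right

include h2
theorem cvS (hx : x ∈ T ⊔ R) (v : x ∈ cmod Q Z) : x ∈ Q ⊔ R ∨ ∃ p ∈ Q ⊔ R, x = p * t := by
  obtain ⟨u, hu, y, hy, e, he, rfl⟩ := o.cvT γ.nT γ.RQ hx v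
  rcases o.st.two_mem h2 he with rfl | rfl
  · exact .inl (by simpa using mul_mem_sup hu hy)
  · exact .inr ⟨_, mul_mem_sup hu hy, rfl⟩
theorem Sc (hx : x ∈ T ⊔ R) (hy : y ∈ T ⊔ R) : x * y * x⁻¹ * y⁻¹ ∈ Q ⊔ R := by
  obtain ⟨i, t0⟩ := o.ix h2 γ.nT (o.Rct γ)
  refine (o.cvS γ h2 (comm_mem_l hx (le_normalizer hy)) (o.co.c1 (o.pS γ) (o.SQ γ) hx hy)).resolve_right ?_
  rintro ⟨p, hp, e⟩
  exact t0 ((mul_mem_cancel_left (o.FH γ hp)).1 (e ▸ (c2_of i.le).comm hx hy))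
theorem both (hx : x ∈ T ⊔ R) (v : x ∈ cmod Q Z) (v' : x ∈ cmod R Z) : x ∈ Q ⊔ R :=
  (o.cvS γ h2 hx v).resolve_right fun ⟨_, hp, e⟩ => o.tR γ ((mul_mem_cancel_left (o.FR γ hp)).1 (e ▸ v'))

theorem g1 (hg : T ≤ cj g (T ⊔ R)) (n : g ∈ N(Q ⊔ R)) (v : g⁻¹ * t * g ∉ cmod Q Z) : g⁻¹ * t * g ∈ cmod R Z := by
  have aH := mem_cj.1 (hg o.st.tT)
  have aa : g⁻¹ * t * g * (g⁻¹ * t * g) = 1 := by
    rw [show g⁻¹ * t * g * (g⁻¹ * t * g) = g⁻¹ * (t * t) * g by group, o.st.tt]; group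
  obtain ⟨k1, k2⟩ := o.al γ aH (o.co.invz (o.SQ γ aH) aa)
  refine k2.resolve_right fun k2 => ?_
  obtain ⟨c, hc, ha⟩ := (o.co.c3 (o.SQ γ aH) (aa ▸ one_mem _)).resolve_left v
  have := o.big γ.nT (o.ZW.trans γ.WR) (o.Rct γ) hg
  rw [cj_of_mem_norm n] at this
  refine (o.bq h2 (o.pF γ) (norms_of_le le_sup_left) (o.ZF γ) (o.FZ γ) (fun x hx y hy => o.cF γ hx hy) (o.t0F γ) this).2.2
    fun x hx => mem_cent.2 fun y hy => ?_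
  have f : ∀ x ∈ (Q ⊔ R) ⊓ C[t], g⁻¹ * x * g ∈ Q ⊔ W ∧ c * σ (a (g⁻¹ * x * g)) = a (g⁻¹ * x * g) := fun x hx => by
    have m := conj_mem_of_norm' n hx.1
    have c1 : g⁻¹ * t * g * (g⁻¹ * x * g) * (g⁻¹ * t * g)⁻¹ = g⁻¹ * x * g := by
      conv_rhs => rw [← cj_comm' (mem_cent1.1 hx.2).symm]
      group
    refine ⟨?_, by rw [← ha.e _ (o.FQ γ m), c1]⟩
    obtain ⟨u, hu, r, hr, e⟩ := o.mF γ m
    rw [e] at c1 ⊢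
    generalize g⁻¹ * t * g = b at *
    have m1 : b * r * b⁻¹ * r⁻¹ ∈ Q := by
      rw [show b * r * b⁻¹ * r⁻¹ = (b * u * b⁻¹)⁻¹ * (b * (u * r) * b⁻¹) * r⁻¹ by group, c1, mul_assoc, mul_inv_cancel_right]
      exact mul_mem (inv_mem (conj_mem_of_norm ha.n hu)) hu
    exact mul_mem_sup hu (γ.ker r hr (by rw [← k2 r hr, o.ωQ _ m1]))
  obtain ⟨x1, x2⟩ := f x hx
  obtain ⟨y1, y2⟩ := f y hy
  have := (o.cme (o.P0P y1) (o.P0P x1)).2 (by simp [o.κP0 x1, o.κP0 y1, o.fl.rfix_b y2 x2 hc])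
  exact mul_right_cancel (b := g) (by simpa [mul_assoc] using this)

theorem fus (hp : p ∈ Q ⊔ R) (e : g⁻¹ * t * g = p * t) : ∃ w ∈ R, g * w ∈ C[t] := by
  obtain ⟨w, hw, e'⟩ := o.tcF γ hp (by
    rw [← e, show g⁻¹ * t * g * (g⁻¹ * t * g) = g⁻¹ * (t * t) * g by group, o.st.tt]; group)
  exact ⟨w, hw, mem_cent1.2 (comm_of_cj (by
    rw [show g * w * t * (g * w)⁻¹ = g * (w * t * w⁻¹) * g⁻¹ by group, e', ← e]; group))⟩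

theorem swp (hg : T ≤ cj g (T ⊔ R)) (n : g ∈ N(Q ⊔ R)) (v : g⁻¹ * t * g ∉ cmod Q Z) :
    ∃ x ∈ N(T ⊔ R), x ∈ N(Q ⊔ R) ∧ E2 x ∧ x * x ∈ T ⊔ R ∧ x * t * x⁻¹ ∉ cmod Q Z := by
  have tF := o.TF γ
  have cE : ∀ {Y : Subgroup G}, t ∈ Y → E ≤ Y := fun h e he => (o.st.two_mem h2 he).elim (· ▸ one_mem _) (· ▸ h)
  have mN : ∀ b ∈ N(Q ⊔ R), ∀ x ∈ N(Q ⊔ R), x * b * x⁻¹ * b⁻¹ ∈ Q ⊔ R → x ∈ N(Q ⊔ R) ⊓ N(Q ⊔ R ⊔ zpowers b) :=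
    fun b hb x hx h => ⟨hx, norm_of_cmod le_sup_left fun y hy => ((sup_le (fun y hy => ⟨le_normalizer hy, comm_mem_r hx hy⟩)
      (zpowers_le' ⟨hb, h⟩) : Q ⊔ R ⊔ zpowers b ≤ cmr x (Q ⊔ R)) hy).2⟩
  have mN' : ∀ b ∈ N(Q ⊔ R), b * b = 1 → b ∉ Q ⊔ R → ∀ x ∈ N(Q ⊔ R) ⊓ N(Q ⊔ R ⊔ zpowers b), x * b * x⁻¹ * b⁻¹ ∈ Q ⊔ R :=
    fun b hb bb b0 x hx => (mem_sup_zp hb (bb ▸ one_mem _) (conj_mem_of_norm hx.2 (mem_sup_right (mem_zpowers b)))).resolve_left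
      fun k => b0 ((mem_normalizer_iff.1 hx.1 b).2 k)
  have tS := o.tS γ
  have sy : Syl 2 (T ⊔ R) (N(Q ⊔ R) ⊓ N(Q ⊔ R ⊔ zpowers t)) :=
    syl_of_max (fun x hx => mN t (tF tS) x (tF hx) (o.Sc γ h2 hx tS)) (o.pS γ) fun S l p le => le_antisymm (fun x hx => by
      obtain ⟨w, hw, c⟩ := o.fus γ h2 (g := x⁻¹) (mN' t (tF tS) o.st.tt (o.t0F γ) x (l hx)) (by group)
      have m := mul_mem (inv_mem hx) (le (mem_sup_right hw))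
      have := (o.sylT.max (le_inf (le_sup_left.trans le) o.sylT.le) inf_le_right (p.infl _)).le ⟨m, c⟩
      exact inv_mem_iff.1 ((mul_mem_cancel_right (mem_sup_right hw)).1 (mem_sup_left this))) le
  have aH := mem_cj.1 (hg o.st.tT)
  have s2 := sy.J g⁻¹
  rw [cj_inf, cj_norm, cj_norm, cj_sup _ (Q ⊔ R), cj_of_mem_norm (inv_mem n), cj_zpowers, inv_inv] at s2
  obtain ⟨y, hy, e⟩ := s2.sconj (s2.of_card (fun x hx => mN _ (tF aH) x (tF hx) (o.Sc γ h2 hx aH)) (card_cj _ _).symm)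
  have k1 := mN' _ (tF aH) (by rw [show g⁻¹ * t * g * (g⁻¹ * t * g) = g⁻¹ * (t * t) * g by group, o.st.tt]; group)
    (fun k => v (o.Fv γ k)) y hy
  have n1 : y * g⁻¹ ∈ N(T ⊔ R) ⊓ N(Q ⊔ R) := ⟨mem_norm_iff_cj.2 (by rw [cj_mul, e]), Subgroup.mul_mem _ hy.1 (inv_mem n)⟩
  have ty : ∀ h ∈ N(T ⊔ R) ⊓ N(Q ⊔ R), h ∉ N(Q ⊔ R) ⊓ N(Q ⊔ R ⊔ zpowers t) → h * t * h⁻¹ ∉ cmod Q Z := fun h hh h0 k => by
    rcases o.cvS γ h2 (conj_mem_of_norm hh.1 tS) k with k | ⟨p, hp, k⟩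
    · exact o.t0F γ ((mem_normalizer_iff.1 hh.2 t).2 k)
    · exact h0 (mN t (tF tS) h hh.2 (by rwa [k, mul_inv_cancel_right]))
  have tZ : ∀ h ∈ N(T ⊔ R) ⊓ N(Q ⊔ R), h * t * h⁻¹ ∈ (T ⊔ R) ⊓ C(Z) := fun h hh =>
    ⟨conj_mem_of_norm hh.1 tS, conj_mem_of_norm (norm_le_norm_cent Z (o.FZn γ hh.2)) (o.PZ o.tP)⟩
  have tR : ∀ h ∈ N(T ⊔ R) ⊓ N(Q ⊔ R), h * t * h⁻¹ ∉ cmod Q Z → h * t * h⁻¹ ∈ cmod R Z := fun h hh k => by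
    simpa using o.g1 γ h2 (g := h⁻¹) (by rw [cj_of_mem_norm (inv_mem hh.1)]; exact le_sup_left) (inv_mem hh.2) (by simpa using k)
  have c2 : C2 (N(Q ⊔ R) ⊓ N(Q ⊔ R ⊔ zpowers t)) (N(T ⊔ R) ⊓ N(Q ⊔ R)) := fun h hh k hk h0 k0 => by
    have hi := inv_mem hh
    have v1 := ty _ hi (mt inv_mem_iff.1 h0)
    have v2 := ty _ hk k0
    have := o.both γ h2 (mul_mem (tZ _ hk).1 (tZ _ hi).1) (o.c2Q γ _ (tZ _ hk) _ (tZ _ hi) v2 v1)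
      (mul_mem (tR _ hk v2) (tR _ hi v1))
    refine mN t (tF tS) _ (mul_mem hh.2 hk.2) ?_
    convert conj_mem_of_norm hh.2 this using 1
    rw [o.st.ti']; group
  have x0 : constt {2} (y * g⁻¹) ∉ N(Q ⊔ R) ⊓ N(Q ⊔ R ⊔ zpowers t) := fun k => by
    have := mul_mem k (C2.odd c2 (constt_mem _ n1) (constt_pi {2}ᶜ _))
    rw [constt_mul_compl] at this
    have := mul_mem (inv_mem k1) (mN' t (tF tS) o.st.tt (o.t0F γ) _ this)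
    refine v ((mul_mem_cancel_right (inv_mem (o.PQv o.tP))).1 (o.Fv γ ?_))
    convert this using 1; group
  have m := constt_mem {2} n1
  have e2 : E2 (constt {2} (y * g⁻¹)) := constt_pi _ _
  exact ⟨_, m.1, m.2, e2, sy.mem_of_norm (c2.sq m) (PiN.e_mul e2 e2 rfl) (mul_mem m.1 m.1), ty _ m x0⟩

theorem ghh (good : ∀ g, T ≤ cj g (T ⊔ R) → g⁻¹ * t * g ∈ cmod Q Z) (g : G) (hg : T ≤ cj g (T ⊔ R))
    (g0 : t ∉ cj g ((T ⊓ U) ⊔ R)) : ∃ c ∈ C[t], c⁻¹ * g ∈ T ⊔ R := by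
  obtain ⟨p, hp, e⟩ := (o.cvS γ h2 (mem_cj.1 (hg o.st.tT)) (good g hg)).resolve_left fun k => g0 (mem_cj.2 (o.FH γ k))
  obtain ⟨w, hw, c⟩ := o.fus γ h2 hp e
  exact ⟨_, c, by simpa using mem_sup_right hw⟩

theorem gbd : (∀ g, T ≤ cj g (T ⊔ R) → g⁻¹ * t * g ∈ cmod Q Z) ∨ ∃ x, Bd t x Q Z T R := by
  refine or_iff_not_imp_left.2 fun bad => ?_
  push Not at bad
  obtain ⟨g, hg, v⟩ := bad
  obtain ⟨x, n1, n2, x2, xx, v⟩ := o.swp γ h2 hg (o.uqF γ h2 ((sup_le o.st.ET o.QT).trans (hg.trans (cj_mono g (o.TF γ))))) v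
  exact ⟨x, n1, n2, x2, xx, v⟩

variable (δ : Bd t x Q Z T R)
include δ

omit h2 in
theorem baS : x * t * x⁻¹ ∈ (T ⊔ R) ⊓ C(Z) :=
  ⟨conj_mem_of_norm δ.n1 (o.tS γ), conj_mem_of_norm (norm_le_norm_cent Z (o.FZn γ δ.n2)) (o.PZ o.tP)⟩
theorem baR : x * t * x⁻¹ ∈ cmod R Z := by
  simpa using o.g1 γ h2 (g := x⁻¹) (by rw [cj_of_mem_norm (inv_mem δ.n1)]; exact le_sup_left) (inv_mem δ.n2)
    (by simpa using δ.v)
theorem bxW : ∀ y ∈ W, x * y * x⁻¹ ∈ Q := fun y hy => by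
  have n2 := δ.n2
  have aS := o.baS γ δ
  have aR := o.baR γ h2 δ
  obtain ⟨w, hw, e⟩ := o.tcj γ hy
  obtain ⟨u, hu, r, hr, e'⟩ := o.mF γ (conj_mem_of_norm n2 (mem_sup_right hw))
  rw [show x * y * x⁻¹ = x * w * x⁻¹ * (x * t * x⁻¹) * (x * w * x⁻¹)⁻¹ * (x * t * x⁻¹)⁻¹ by
    rw [show y = w * t * w⁻¹ * t⁻¹ by rw [e]; group]; group, e']
  generalize x * t * x⁻¹ = b at *
  rw [show u * r * b * (u * r)⁻¹ * b⁻¹ = u * (r * b * r⁻¹ * b⁻¹) * (b * u⁻¹ * b⁻¹) by group]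
  exact mul_mem (mul_mem hu (o.ZQ (cm_swap (aR.2.2 r hr)))) (conj_mem_of_norm (o.SQ γ aS.1) (inv_mem hu))
theorem bmz : Mz ζ Z x := fun z hz z' hz' y hy z1 m1 e1 e2 => by
  have n2 := δ.n2
  have nZ := o.FZn γ n2
  have xW := o.bxW γ h2 δ
  obtain ⟨w1, hw1, k1⟩ := o.ωs 1 (map_one σ)
  obtain ⟨w, hw, k2⟩ := o.ωs (ζ z * ζ z) (by rw [map_mul, o.zf z hz])
  have cF := fun r (hr : r ∈ R) w (hw : w ∈ W) => o.cF γ (mem_sup_right hr) (mem_sup_right (γ.WR hw))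
  obtain ⟨μ, hμ, k3⟩ := o.fl.bz (u := a (x * w1 * x⁻¹)) (v := a (x * w * x⁻¹)) (fun e => by
    simpa [k1] using o.ωZ ((mem_normalizer_iff.1 nZ _).2 ((o.co.aQ (xW w1 hw1)).1 e))) (by
      rw [← o.co.cmq (xW w1 hw1) (xW w hw), cm1 (by rw [conj_mul, conj_mul, cm' o.Wab hw1 hw]), o.co.z1])
  have key : ∀ z' ∈ Z, ∀ y ∈ Z, ζ y = ζ z * ζ z' → ζ (x * y * x⁻¹) = μ * ζ (x * z' * x⁻¹) := fun z' hz' y hy e => by
    obtain ⟨r, hr, k4⟩ := γ.on (ζ z' * ζ z') (by rw [map_mul, o.zf z' hz'])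
    have m := o.FQ γ (conj_mem_of_norm n2 (mem_sup_right hr))
    rw [← o.co.zinj (cF r hr w hw) hy (o.fl.sq_inj (by rw [γ.g2 r hr w hw, k4, k2, e]; ring)),
      ← o.co.zinj (cF r hr w1 hw1) hz' (o.fl.sq_inj (by rw [γ.g2 r hr w1 hw1, k4, k1, mul_one])),
      show ∀ w, x * (r * w * r⁻¹ * w⁻¹) * x⁻¹ = x * r * x⁻¹ * (x * w * x⁻¹) * (x * r * x⁻¹)⁻¹ * (x * w * x⁻¹)⁻¹ from
        fun w => by group,
      show ∀ w, x * (r * w * r⁻¹ * w⁻¹) * x⁻¹ = x * r * x⁻¹ * (x * w * x⁻¹) * (x * r * x⁻¹)⁻¹ * (x * w * x⁻¹)⁻¹ from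
        fun w => by group, (o.co.cmx m (xW w hw)).2, (o.co.cmx m (xW w1 hw1)).2, k3, map_mul, hμ]
    ring
  rw [key z' hz' y hy e2, key z1 m1 z hz (by rw [e1, mul_one])]; ring
omit h2 in
theorem bpH : PG 2 (T ⊔ R ⊔ zpowers x) := (o.pS γ).sup δ.x2.pg (zpowers_le' δ.n1)
omit h2 in
theorem bHF : T ⊔ R ⊔ zpowers x ≤ N(Q ⊔ R) := sup_le (o.TF γ) (zpowers_le' δ.n2)
omit h2 in
theorem bz0 : ∃ z ∈ Z, z ≠ 1 ∧ T ⊔ R ⊔ zpowers x ≤ C[z] := by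
  obtain ⟨z, hz, z1⟩ := o.co.Z1
  obtain ⟨z0, hz0, z2, c0⟩ := fix2 o.co.pZ (o.bpH γ δ) (fun _ h => o.FZn γ (o.bHF γ δ h)) (ne_bot_of_mem hz z1)
  exact ⟨z0, hz0, ne_one_of_ord2 z2, le_cent1_iff.2 c0⟩
theorem bcZ (hs : s ∈ T ⊔ R) : x * s * x⁻¹ * s⁻¹ ∈ (T ⊔ R) ⊓ C(Z) := by
  obtain ⟨z, hz, z1, c⟩ := o.bz0 γ δ
  exact ⟨comm_mem_r δ.n1 hs, o.co.mulz (o.FZn γ δ.n2) (o.co.nZ (o.SQ γ hs)) (o.bmz γ h2 δ) (o.co.mz_of (o.SQ γ hs)) hz z1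
    (mem_cent1_symm.1 (c (mem_sup_right (mem_zpowers x)))) (mem_cent1_symm.1 (c (mem_sup_left hs)))⟩
omit h2 in
theorem bt0 : t ∉ cmr x (Q ⊔ R) := fun k => δ.v ((mul_mem_cancel_right (inv_mem (o.PQv o.tP))).1 (o.Fv γ k.2))

theorem bhh (g : G) (hg : T ≤ cj g (T ⊔ R ⊔ zpowers x)) (g1 : g⁻¹ * t * g ∉ Q ⊔ R)
    (g2 : g⁻¹ * t * g * t * (x * t * x⁻¹) ∉ Q ⊔ R) : ∃ c ∈ C[t], c⁻¹ * g ∈ T ⊔ R ⊔ zpowers x := by
  obtain ⟨n1, n2, x2, xx, v⟩ := id δ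
  have EQT : E ⊔ Q ≤ T := sup_le o.st.ET o.QT
  have tS := o.tS γ
  have HF := o.bHF γ δ
  have aS := o.baS γ δ
  have aR := o.baR γ h2 δ
  have xW := o.bxW γ h2 δ
  have xH : x ∈ T ⊔ R ⊔ zpowers x := mem_sup_right (mem_zpowers x)
  have n := o.uqF γ h2 (EQT.trans (hg.trans (cj_mono g HF)))
  have aH := mem_cj.1 (hg o.st.tT)
  rcases mem_sup_zp n1 xx aH with k | k
  · have m : g⁻¹ * t * g ∈ (T ⊔ R) ⊓ C(Z) := ⟨k, conj_mem_of_norm' (norm_le_norm_cent Z (o.FZn γ n)) (o.PZ o.tP)⟩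
    have tZ : t ∈ (T ⊔ R) ⊓ C(Z) := ⟨tS, o.PZ o.tP⟩
    by_cases v1 : g⁻¹ * t * g ∈ cmod Q Z
    · obtain ⟨p, hp, e⟩ := (o.cvS γ h2 k v1).resolve_left g1
      obtain ⟨w, hw, c⟩ := o.fus γ h2 hp e
      exact ⟨_, c, by simpa using mem_sup_left (mem_sup_right hw)⟩
    by_cases v2 : g⁻¹ * t * g ∈ cmod R Z
    · have := o.both γ h2 (mul_mem k aS.1) (o.c2Q γ _ m _ aS v1 v) (mul_mem v2 aR)
      obtain ⟨w, hw, c⟩ := o.fus γ h2 (g := g * x) (conj_mem_of_norm' n2 this) (by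
        rw [show x⁻¹ * (g⁻¹ * t * g * (x * t * x⁻¹)) * x * t = x⁻¹ * (g⁻¹ * t * g) * x * (t * t) by group, o.st.tt]; group)
      exact ⟨_, c, by simpa [mul_assoc] using mul_mem (inv_mem (mem_sup_left (mem_sup_right hw))) (inv_mem xH)⟩
    · exact (g2 (o.both γ h2 (mul_mem (mul_mem k tS) aS.1) (o.c2Q γ _ (mul_mem m tZ) _ aS
        (fun k => v1 ((mul_mem_cancel_right (o.PQv o.tP)).1 k)) v) (mul_mem (o.c2R γ _ m _ tZ v2 (o.tR γ)) aR))).elim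
  · exfalso
    obtain ⟨w, hw, e⟩ := o.ωs 1 (map_one σ)
    have m : g⁻¹ * t * g * w * (g⁻¹ * t * g)⁻¹ ∈ Q := by
      convert conj_mem_of_norm (o.SQ γ k) (xW w hw) using 1; group
    have m1 := conj_mem_of_norm n (mem_sup_right (γ.WR hw))
    have m2 := o.tF γ m1
    have g2 := o.gF γ m1 m2
    have c1 := cm (o.WQ hw) m
    rw [cm1 (by
      calc _ = g * (w * (w * (g⁻¹ * t * g * w * (g⁻¹ * t * g)⁻¹)⁻¹)) * g⁻¹ := by group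
        _ = g * (w * ((g⁻¹ * t * g * w * (g⁻¹ * t * g)⁻¹)⁻¹ * w)) * g⁻¹ := by
          rw [cm (o.WQ hw) (inv_mem m)]
        _ = _ := by group), o.co.z1, zero_mul, da, eq_comm, mul_self_eq_zero] at g2
    have := conj_mem_of_norm' (o.FZn γ n) (o.ωW _ m2 g2)
    have : w ∈ Q := by
      convert mul_mem (o.ZQ this) m using 1; group
    simp [o.ωQ w this] at e

omit δ in
theorem gamma : Av t := by
  rcases o.gbd γ h2 with good | ⟨x, δ⟩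
  · obtain ⟨i, t0⟩ := o.ix h2 γ.nT (o.Rct γ)
    exact tr o.st.tt o.sylT le_sup_left o.st.tT i t0 (o.ghh γ h2 good)
  obtain ⟨n1, n2, x2, xx, v⟩ := id δ
  have tS := o.tS γ
  have tF := o.TF γ
  have aS := o.baS γ δ
  have aR := o.baR γ h2 δ
  have t0 := o.bt0 γ δ
  have FH : Q ⊔ R ≤ cmr x (Q ⊔ R) := fun p hp => ⟨le_normalizer hp, comm_mem_r n2 hp⟩
  have xx' : x ∈ cmr x (Q ⊔ R) := ⟨n2, by simp⟩
  have cs : ∀ s ∈ T ⊔ R, s ∉ cmr x (Q ⊔ R) → x * s * x⁻¹ * s⁻¹ ∈ (T ⊔ R) ⊓ C(Z) ∧ x * s * x⁻¹ * s⁻¹ ∉ cmod Q Z ∧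
      x * s * x⁻¹ * s⁻¹ ∉ cmod R Z := fun s hs s0 => by
    have m := o.bcZ γ h2 δ hs
    have f0 : x * s * x⁻¹ * s⁻¹ ∉ Q ⊔ R := fun k => s0 ⟨tF hs, k⟩
    have k1 : x * s * x⁻¹ * s⁻¹ ∈ cmr x (Q ⊔ R) := ⟨tF m.1, by
      have := mul_mem (o.Sc γ h2 xx hs) (inv_mem (o.both γ h2 (mul_mem m.1 m.1) ((o.c2Q γ).sq m) ((o.c2R γ).sq m)))
      convert this using 1; group⟩
    refine ⟨m, fun k => ?_, fun k => ?_⟩
    · obtain ⟨p, hp, e⟩ := (o.cvS γ h2 m.1 k).resolve_left f0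
      exact t0 ((mul_mem_cancel_left (FH hp)).1 (e ▸ k1))
    · have := FH (o.both γ h2 (mul_mem m.1 aS.1) (o.c2Q γ _ m _ aS (fun k' => f0 (o.both γ h2 m.1 k' k)) v) (mul_mem k aR))
      exact t0 ((mem_normalizer_iff.1 (le_normalizer xx') t).2 ((mul_mem_cancel_left k1).1 this))
  have c2' : C2 (cmr x (Q ⊔ R)) (T ⊔ R) := fun s hs s' hs' s0 s0' => by
    obtain ⟨m, k1, k2⟩ := cs s hs s0
    obtain ⟨m', k3, k4⟩ := cs s' hs' s0'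
    have := mul_mem (o.both γ h2 (mul_mem m.1 m'.1) (o.c2Q γ _ m _ m' k1 k3) (o.c2R γ _ m _ m' k2 k4))
      (o.Sc γ h2 (inv_mem m'.1) hs)
    exact ⟨tF (mul_mem hs hs'), by convert this using 1; group⟩
  have c2 : C2 (cmr x (Q ⊔ R)) (T ⊔ R ⊔ zpowers x) := fun s hs s' hs' s0 s0' => by
    have f : ∀ s ∈ T ⊔ R ⊔ zpowers x, ∃ s1 ∈ T ⊔ R, ∃ y ∈ cmr x (Q ⊔ R), y ∈ N(T ⊔ R) ∧ s = s1 * y := fun s hs =>
      (mem_sup_zp n1 xx hs).elim (fun h => ⟨s, h, 1, one_mem _, one_mem _, by simp⟩) fun h => ⟨_, h, x, xx', n1, by simp⟩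
    obtain ⟨s, h1, y, hy, ny, rfl⟩ := f s hs
    obtain ⟨s', h1', y', hy', -, rfl⟩ := f s' hs'
    rw [show s * y * (s' * y') = s * (y * s' * y⁻¹) * y * y' by group]
    exact mul_mem (mul_mem (c2' s h1 _ (conj_mem_of_norm ny h1') (fun k => s0 (mul_mem k hy))
      fun k => s0' (mul_mem ((mem_normalizer_iff.1 (le_normalizer hy) _).2 k) hy')) hy) hy'
  refine tr o.st.tt o.sylT (le_sup_left.trans le_sup_left) o.st.tT (idx2 c2 (mem_sup_left tS) t0) t0 fun g hg g0 =>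
    o.bhh γ h2 δ g hg (fun k => g0 (mem_cj.2 (FH k))) fun k => g0 (mem_cj.2 ((mul_mem_cancel_right (c2' t tS _ aS.1 t0
      fun k => t0 ((mem_normalizer_iff.1 (le_normalizer xx') t).2 k))).1 (mul_assoc _ t _ ▸ FH k)))

end Pc
end H17.GN
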