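/-
Standard `U₃(2ⁿ)` with odd core, part 9: the case `|E| = 2`.
-/
import Cfsg.Agent.H17.GN8

set_option autoImplicit false
set_option linter.unusedSectionVars false

namespace H17.GN
open Cfsg Subgroup H18 H17.GS H17.TS
open H17.GM hiding St Pc
open H19 hiding eq_bot_mono

universe u

variable {G : Type u} [Group G] [Finite G] {A B D E H K L M P Q R S T U V W X Y Y' Z : Subgroup G}
  {b c d e g h j k p p' r s t u v w x y z h0 h1 : G} {F : Type*} [Field F] [Finite F] {σ : F →+* F} {q m : ℕ}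
  {a ζ κ ω f f' ξ η : G → F} {m0 m1 k0 ε : F}

namespace St
variable (o : St σ q t E U L Q Z T a ζ h0 h1 m0 m1) (i : Hc t Q Z Y m)
include o i

omit i in
theorem zfp (hz : z ∈ Z) (c : z ∈ C[h0]) : z = 1 := o.z0 z hz (by
  have := o.co.actz1 o.h0a hz
  rw [cj_comm' (mem_cent1.1 c).symm] at this
  exact (mul_eq_zero.1 (show (m0 * σ m0 - 1) * ζ z = 0 by linear_combination -this)).resolve_left (sub_ne_zero.2 o.n01))

theorem hfp (hy : y ∈ Y) (c : y ∈ C[h0]) : y = 1 := by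
  suffices ∀ n, y ^ 2 ^ n = 1 → y = 1 from this _ (i.ex y hy)
  intro n
  induction n with
  | zero => simp
  | succ n ih => exact fun e => ih (o.zfp (i.om _ (pow_mem hy _) (by rw [← pow_two, ← pow_mul, ← pow_succ, e])) (pow_mem c _))

theorem uniqY (h2 : #E = 2) (XQ : X ≤ C(Q)) (iv : ∀ x ∈ X, t * x * t⁻¹ = x⁻¹) (om : ∀ x ∈ X, x * x = 1 → x ∈ Z)
    (ex : ∀ x ∈ X, x ^ 2 ^ (m + 1) = 1) : X ≤ Y := by
  suffices ∀ n ≤ m, ∀ x ∈ X, x ^ 2 ^ (n + 1) = 1 → x ∈ Y from fun x hx => this m le_rfl x hx (ex x hx)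
  intro n hn
  induction n with
  | zero => exact fun x hx e => i.ZY (om x hx (by simpa [pow_two] using e))
  | succ n ih =>
    intro x hx e
    have e' : (x * x) ^ 2 ^ (n + 1) = 1 := by rw [← pow_two, ← pow_mul, ← pow_succ', e]
    obtain ⟨y, hy, k⟩ := i.sqrt (n + 1) hn (ih (by omega) _ (mul_mem hx hx) e') e'
    obtain ⟨b, hb, z, hz, k'⟩ := o.cqd (c := y⁻¹ * x) (mem_cent1.2 (comm_of_cj' (by
      rw [← conj_mul, i.iv _ (inv_mem hy), iv x hx, inv_inv, ← inv_mul_cancel_left y (y * x⁻¹), ← mul_assoc y, k]; group)))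
      (mul_mem (inv_mem (i.YQ hy)) (XQ hx))
    have m : y * b ∈ Y ⊔ E := mul_mem (mem_sup_left hy) (sup_le le_sup_right (i.ZY.trans le_sup_left) hb)
    have k2 : x = y * b * z := by rw [mul_assoc, ← k']; group
    have := odd_e2 (e2_of_pow e) ((i.pg.sup o.pE (o.EY i)).elt m) (o.oD.elt hz)
      (cm (cents_sup (o.Z0Y i) (o.Z0c.trans (cent_mono le_sup_left)) hz) m) k2
    obtain ⟨e, he, w, hw, rfl⟩ := o.mA.1 hb
    rw [this, mul_one, ← o.ec he (o.ZCt hw), ← mul_assoc] at k2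
    have m' := mul_mem hy (i.ZY hw)
    rcases o.two_mem h2 he with rfl | rfl
    · simpa [k2] using m'
    · exact i.ZY (om x hx (by
        rw [k2, show ∀ v : G, v * e * (v * e) = v * (e * v * e⁻¹) * (e * e) from fun v => by group, i.iv _ m', o.tt]; group))

theorem tcj (s : Sp σ t h1 E Q Z Y R ζ m) (hy : y ∈ Y) : ∃ w ∈ R, w * t * w⁻¹ = y * t := by
  obtain ⟨k, hk, k1⟩ := s.on _ (o.lfix i hy)
  have tY := (s.K hk).2.2 t (mem_sup_right o.tE)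
  obtain ⟨x, hx, k2⟩ := o.lsq i (mul_mem hy (inv_mem tY)) (by
    rw [o.lad i _ hy _ (inv_mem tY), o.linv i tY, ← dv, k1, o.fl.aa])
  refine ⟨x * k, mul_mem (s.le hx) hk, .symm ?_⟩
  calc _ = x * x * (k * t * k⁻¹ * t⁻¹) * t := by rw [k2]; group
    _ = x * ((k * t * k⁻¹ * t⁻¹) * (t * x⁻¹ * t⁻¹)) * t := by
      rw [i.iv _ (inv_mem hx), inv_inv, ← i.cm hx tY]; group
    _ = _ := by group

theorem lvl (s : Sp σ t h1 E Q Z Y R ζ m) {n : ℕ} (hn : n < m) (h : ∀ r ∈ R, ∀ y ∈ Y, (r * y * r⁻¹ * y⁻¹) ^ 2 ^ (n + 1) = 1) :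
    ∃ c, ∀ r ∈ R, ∀ y ∈ Y, lv ζ n (r * y * r⁻¹ * y⁻¹) * lv ζ n (r * y * r⁻¹ * y⁻¹) = c * (dv ζ m t r * lv ζ m y) := by
  have i' := i.omh (fun _ => o.co.zz) hn.le
  have nY : R ≤ N(Y) := fun r hr => (s.K hr).2.1
  have m : ∀ r ∈ R, ∀ y ∈ Y, r * y * r⁻¹ * y⁻¹ ∈ i.Om n := fun r hr y hy => ⟨comm_mem_r (nY hr) hy, h r hr y hy⟩
  have ad := o.lad i'
  have b2 : ∀ x ∈ R, Ad (fun y => lv ζ n (x * y * x⁻¹ * y⁻¹)) Y := fun x hx y hy y' hy' => by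
    beta_reduce
    rw [← ad _ (m x hx y hy) _ (m x hx y' hy'), ← cj_comm' (i.cm hy (m x hx y' hy').1)]; congr 1; group
  exact w1 o.fl ((o.dad i).mono fun r hr => ⟨o.co.QCv (mC (s.CQ hr)), s.K hr⟩) (o.lad i)
    (fun x y => lv ζ n (x * y * x⁻¹ * y⁻¹)) (fun y hy x hx x' hx' => by
      beta_reduce
      rw [add_comm, ← o.lcz i' (o.co.CZ (s.CQ hx)) (m x' hx' y hy), ← ad _ ⟨conj_mem_of_norm (nY hx) (m x' hx' y hy).1, by
        rw [conj_pow, h x' hx' y hy]; group⟩ _ (m x hx y hy)]; congr 1; group) b2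
    (fun y hy x hx e => by rw [cm1 (i.cm (s.ker x hx e) hy), ad.one])
    (fun x hx y hy e => by
      obtain ⟨w, hw, rfl⟩ := o.lsq i hy e
      exact (b2 x hx w hw w hw).trans (o.fl.aa _))
    (fun x hx => o.lfix i ((s.K hx).2.2 t (mem_sup_right o.tE))) (fun x hx => o.lfix i hx) s.on (fun l hl => o.lon i hl)
    o.gN (o.fl.nfix m0) (s.nr _ o.h0C o.h0a.n) (i.nr _ o.h0C o.h0a.n)
    (fun x hx => o.dsc i o.h0C o.h0a ((s.K hx).2.2 t (mem_sup_right o.tE))) (fun x hx => o.lsc i o.h0a hx)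
    fun x hx y hy => by rw [← o.lsc i' o.h0a (m x hx y hy)]; congr 1; group

theorem dich (s : Sp σ t h1 E Q Z Y R ζ m) (hm : 1 ≤ m) : R ≤ C(R) ∨ (m = 1 ∧ (∀ r ∈ R, r * r ∈ Z) ∧
    ∀ r ∈ R, ∀ y ∈ Y, ζ (r * y * r⁻¹ * y⁻¹) * ζ (r * y * r⁻¹ * y⁻¹) = dv ζ m t r * lv ζ m y) := by
  have nY : R ≤ N(Y) := fun r hr => (s.K hr).2.1
  have tY := fun r hr => (s.K (x := r) hr).2.2 t (mem_sup_right o.tE)
  have ad : Ad (dv ζ m t) R := (o.dad i).mono fun r hr => ⟨o.co.QCv (mC (s.CQ hr)), s.K hr⟩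
  have RZ := s.CQ.trans o.co.CZ
  have nR := s.nr _ o.h0C o.h0a.n
  obtain ⟨r0, hr0, e0⟩ := s.on 1 (map_one σ)
  have dh := fun x hx => o.dsc i o.h0C o.h0a (tY x hx)
  have df := fun x hx => o.lfix i (tY x hx)
  have lam := lin1 (f' := fun r => lv ζ m (r * r)) nR (fun x hx y hy e => by
      have m1 := s.ker _ (mul_mem (inv_mem hx) hy) (by rw [ad _ (inv_mem hx) _ hy, ad.inv hx, e, neg_add_cancel])
      have m2 := conj_mem_of_norm (nY (inv_mem hx)) m1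
      beta_reduce
      rw [show y * y = x * x * (x⁻¹ * (x⁻¹ * y) * x⁻¹⁻¹ * (x⁻¹ * y)) by group, o.lad i _ (s.sq x hx) _ (mul_mem m2 m1),
        o.lad i _ m2 _ m1, o.lcz i (RZ (inv_mem hx)) m1, o.fl.aa, add_zero])
    (fun x hx e => o.l2 i (s.ker x hx e)) dh (fun x hx => by rw [← o.lsc i o.h0a (s.sq x hx), conj_mul])
    (fun x hx => o.gN _ (df x hx)) hr0 e0
  have P0 : ∀ r ∈ R, ∀ y ∈ Y, (r * y * r⁻¹ * y⁻¹) ^ 2 ^ m = 1 := fun r hr y hy =>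
    o.z0 _ (i.pz (comm_mem_r (nY hr) hy)) (show lv ζ m _ = 0 by
      rw [o.lad i _ (conj_mem_of_norm (nY hr) hy) _ (inv_mem hy), o.lcz i (RZ hr) hy, o.linv i hy, o.fl.aa])
  by_cases k0 : lv ζ m (r0 * r0) = 0
  · right
    obtain ⟨n, rfl⟩ : ∃ n, m = n + 1 := ⟨m - 1, by omega⟩
    obtain ⟨c, hc⟩ := o.lvl i s n.lt_succ_self P0
    have m1 := mul_mem (s.sq r0 hr0) (tY _ (inv_mem hr0))
    have e1 : r0 * (r0 * r0 * (r0⁻¹ * t * r0⁻¹⁻¹ * t⁻¹)) * r0⁻¹ = (r0 * r0 * (r0⁻¹ * t * r0⁻¹⁻¹ * t⁻¹))⁻¹ := by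
      have := i.iv _ m1
      rw [show r0 * r0 * (r0⁻¹ * t * r0⁻¹⁻¹ * t⁻¹) = r0 * t * (r0 * t) by rw [o.ti']; group] at this ⊢
      rw [← inv_inj, inv_inv, ← conj_inv', ← this]; group
    have e2 := hc r0 hr0 _ m1
    rw [e1, lv_sq, o.linv i m1, o.lad i _ (s.sq r0 hr0) _ (tY _ (inv_mem hr0)), k0, ← dv, ad.inv hr0, e0, o.fl.neg] at e2
    obtain rfl : c = 1 := by simpa using e2.symm
    rcases n with _ | n
    · exact ⟨rfl, fun r hr => i.om _ (s.sq r hr) (by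
        simpa [pow_two] using o.z0 _ (i.pz (s.sq r hr)) ((lam r hr).trans (by rw [k0, zero_mul]))), by simpa [lv] using hc⟩
    exfalso
    obtain ⟨l, hl, l0, l1⟩ := o.fl.ex0
    obtain ⟨y, hy, rfl⟩ := o.lon i hl
    obtain ⟨y', hy', k1⟩ := i.sqrt _ le_rfl (comm_mem_r (nY hr0) hy) (P0 r0 hr0 y hy)
    obtain ⟨y'', hy'', k2⟩ := i.sqrt _ le_rfl (comm_mem_r (nY hr0) hy') (P0 r0 hr0 y' hy')
    have a1 := hc r0 hr0 y hy
    have a2 := hc r0 hr0 y' hy'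
    rw [← k1, lv_sq, e0] at a1
    rw [← k2, lv_sq, e0] at a2
    have k3 : (y'' * y') ^ 2 ^ 2 = 1 := by
      have e3 : r0 * y' * r0⁻¹ = y'' * y'' * y' := by rw [k2]; group
      have e4 : r0 * (y' * y') * r0⁻¹ * (y' * y') = 1 := by
        rw [k1, ← cm1 (i.cm (s.sq r0 hr0) hy)]; group
      rw [← conj_mul, e3] at e4
      have c := i.cm hy'' hy'
      rw [← e4, i.mp hy'' hy']
      calc _ = y'' * y'' * (y'' * y'' * y') * y' * (y' * y') := by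
            rw [show 2 ^ 2 = 4 from rfl]; simp only [pow_succ, pow_zero, one_mul, mul_assoc]
        _ = y'' * y'' * (y' * (y'' * y'')) * y' * (y' * y') := by
            rw [Commute.eq ((Commute.mul_left c c) : Commute (y'' * y'') y')]
        _ = _ := by simp only [mul_assoc]
    have a3 : lv ζ (n + 1 + 1) (y'' * y') = 0 := by
      rw [lv, show 2 ^ (n + 1 + 1) = 2 ^ 2 * 2 ^ n by ring, pow_mul, k3, one_pow, o.co.z1]
    rw [o.lad i _ hy'' _ hy', o.fl.add_eq] at a3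
    rw [a3] at a2
    rcases mul_eq_zero.1 (show lv ζ (n + 1 + 1) y' * (lv ζ (n + 1 + 1) y' - 1) = 0 by linear_combination a2) with k | k
    · exact l0 (by simpa [k] using a1.symm)
    · exact l1 (by simpa [sub_eq_zero.1 k] using a1.symm)
  left
  have P : ∀ j ≤ m, ∀ r ∈ R, ∀ y ∈ Y, (r * y * r⁻¹ * y⁻¹) ^ 2 ^ (m - j) = 1 := fun j hj => by
    induction j with
    | zero => exact P0
    | succ j ih =>
      have h := ih (by omega)
      rw [show m - j = m - (j + 1) + 1 by omega] at h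
      obtain ⟨c, hc⟩ := o.lvl i s (by omega) h
      have := hc r0 hr0 _ (s.sq r0 hr0)
      rw [cm1 (mul_assoc _ _ _).symm, lv, one_pow, o.co.z1, e0, zero_mul, one_mul, eq_comm, mul_eq_zero] at this
      obtain rfl := this.resolve_right k0
      exact fun r hr y hy => o.z0 _ (i.om _ (pow_mem (comm_mem_r (nY hr) hy) _) (by
        rw [← pow_two, ← pow_mul, ← pow_succ, h r hr y hy])) (mul_self_eq_zero.1 ((hc r hr y hy).trans (zero_mul _)))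
  have RY : R ≤ C(Y) := fun r hr => mem_cent.2 fun y hy => (of_cm1 (by simpa using P m le_rfl r hr y hy)).symm
  have cY := fun r hr s' hs => cm_of_sq (r := r) (s := s') nY s.sq hr hs
  have cZ : ∀ r ∈ R, ∀ r' ∈ R, r * r' * r⁻¹ * r'⁻¹ ∈ Z := fun r hr r' hr' => i.om _ (cY r hr r' hr') (by
    rw [← cm_mul (RY hr) (cY r hr r' hr'), cm1 (cm (RY hr') (s.sq r hr))])
  obtain ⟨c, hc⟩ := w1 o.fl ad ad (fun x y => ζ (x * y * x⁻¹ * y⁻¹)) (fun y hy => o.co.zc1 RZ fun x hx => cZ x hx y hy)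
    (fun y hy => o.co.zc2 RZ (cZ y hy)) (fun y hy x hx e => by rw [cm1 (cm (RY hy) (s.ker x hx e)), o.co.z1])
    (fun y hy x hx e => by rw [cm1 (cm (RY hy) (s.ker x hx e)).symm, o.co.z1]) df df s.on s.on o.gN (o.fl.nfix m0) nR nR dh dh
    fun x hx y hy => o.co.zcj o.h0a (cZ x hx y hy)
  obtain rfl : c = 0 := by simpa [o.co.z1, e0] using (hc r0 hr0 r0 hr0).symm
  exact fun r hr => mem_cent.2 fun y hy => of_cm1 (o.z0 _ (cZ y hy r hr) (mul_self_eq_zero.1 (by simpa using hc y hy r hr)))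

end St

namespace Pc
theorem hcW (o : Pc σ q t E U L Q Z T W P a ζ κ ω h0 h1 m0 m1 1) : Hc t Q Z W 1 :=
  ⟨o.Wab, o.ZW, o.WQ, o.nW, fun _ => o.ivW, fun y hy e => o.ωW y hy (by rw [← o.sqW hy, e, o.co.z1]),
    fun y hy => by rw [show 2 ^ (1 + 1) = 2 * 2 from rfl, pow_mul, pow_two, pow_two, o.co.zz (o.sqP y (o.WP hy)).1],
    fun z hz => let ⟨w, hw, e⟩ := o.ωs _ (o.zf z hz)
      ⟨w, hw, o.co.zinj (by simpa [pow_two] using (o.sqP w (o.WP hw)).1) hz (by rw [pow_one, pow_two, o.sqW hw, e])⟩⟩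

theorem next (o : Pc σ q t E U L Q Z T W P a ζ κ ω h0 h1 m0 m1 1) (h2 : #E = 2) (n : ∀ Y, ¬ Bt t h0 U Q Z T W Y)
    (ng : ∀ R, Gm σ t E Q Z T W R ζ ω → h0 ∉ N(R)) (hm : 1 ≤ m) (i : Hc t Q Z Y m) : ∃ Y', Hc t Q Z Y' (m + 1) := by
  have WY : W ≤ Y := o.st.uniqY i h2 o.WQ o.hcW.iv o.hcW.om fun x hx =>
    orderOf_dvd_iff_pow_eq_one.1 ((orderOf_dvd_of_pow_eq_one (o.hcW.ex x hx)).trans (pow_dvd_pow 2 (by omega)))
  have TY : ∀ {X : Subgroup G}, (∀ c ∈ C[t], c ∈ N(Q) → c ∈ N(X)) → T ≤ N(X) := fun h x hx => h x (o.sylT.le hx) (o.st.TQ hx)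
  have ct : ∀ y ∈ Y, y ∈ C[t] → y ∈ Z := fun y hy c => i.om y hy (by rw [← i.tcm hy, cm1 (mem_cent1.1 c)])
  have W2 : ∀ l, σ l = l → ∃ y ∈ Y, y * t * y⁻¹ * t⁻¹ ∈ Z ∧ ζ (y * t * y⁻¹ * t⁻¹) = l ∧ y * y ∈ Z ∧ ζ (y * y) = 1 * l :=
    fun l hl => by
      obtain ⟨z, hz, rfl⟩ := o.co.zsj hl
      obtain ⟨y, hy, rfl⟩ := i.sqrt 1 hm (i.ZY hz) (by simpa [pow_two] using o.co.zz hz)
      exact ⟨y, hy, i.tcm hy ▸ hz, by rw [i.tcm hy], hz, by rw [one_mul]⟩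
  by_cases hk : ∃ y ∈ Y, ∃ k ∈ N(Q), k * t * k⁻¹ = y * t ∧ lv ζ m y ≠ 0
  swap
  · refine (n Y ⟨i.ab, i.pg, WY, i.YQ, TY i.nr, ct, i.nr _ o.st.h0C o.h0a.n, fun y hy => o.st.hfp i hy,
      fun y hy => i.om _ (mul_mem hy hy), o.beta h2 i.ab i.pg i.ZY i.YQ (TY i.nr) (le_cent1_iff.2 (o.st.h1Y i)) ct (map_one σ) W2
      (fun y hy k hk' e => ?_) fun e => (one_ne_zero e).elim⟩).elim
    obtain ⟨x, hx, rfl⟩ := o.st.lsq i hy (by_contra fun y0 => hk ⟨y, hy, k, hk', e, y0⟩)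
    exact ⟨x, hx, by rw [← i.tcm hx]; group⟩
  obtain ⟨y, hy, k, hk, e, y0⟩ := hk
  have nY : k ∈ N(Y) := inv_mem_iff.1 (mem_norm_of_cj_le (o.st.uniqY i h2
    (by rw [← cj_of_mem_norm (inv_mem hk), ← cj_cent]; exact cj_mono _ i.YQ) (fun x hx => by
      have m := mem_cj_inv.1 hx
      have : k * (t * x * t⁻¹) * k⁻¹ = k * x⁻¹ * k⁻¹ := by
        rw [show k * (t * x * t⁻¹) * k⁻¹ = k * t * k⁻¹ * (k * x * k⁻¹) * (k * t * k⁻¹)⁻¹ by group, e,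
          show ∀ v : G, y * t * v * (y * t)⁻¹ = y * (t * v * t⁻¹) * y⁻¹ from fun v => by group, i.iv _ m,
          cj_comm' (i.cm hy (inv_mem m)), conj_inv']
      simpa using this)
    (fun x hx e => (mem_normalizer_iff.1 (o.co.nZ hk) x).2 (i.om _ (mem_cj_inv.1 hx) (by rw [conj_mul, e]; group)))
    fun x hx => conj_eq_one_iff.1 (by rw [← conj_pow, i.ex _ (mem_cj_inv.1 hx)])))
  have cE : ∀ {X : Subgroup G}, t ∈ X → E ≤ X := fun h e he => (o.st.two_mem h2 he).elim (· ▸ one_mem _) (· ▸ h)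
  obtain ⟨R, s⟩ := o.st.step i (.inl h2) (o.st.kg i hk nY (o.st.kY i nY fun e' he => (cE (X := cmr k Y)
    ⟨o.st.EY i o.tE, by rw [e, mul_inv_cancel_right]; exact hy⟩ he).2).1 hy y0 (e ▸ conj_mem_cj.2 o.tE))
  have tY := fun r hr => (s.K (x := r) hr).2.2 t (mem_sup_right o.tE)
  have ad : Ad (dv ζ m t) R := (o.st.dad i).mono fun r hr => ⟨o.co.QCv (mC (s.CQ hr)), s.K hr⟩
  rcases o.st.dich i s hm with ab | ⟨rfl, k1, k2⟩
  swap
  · have i' := o.hcW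
    obtain rfl := le_antisymm (o.st.uniqY i h2 i'.YQ i'.iv i'.om i'.ex) (o.st.uniqY i' h2 i.YQ i.iv i.om i.ex)
    have l1 : ∀ y ∈ W, lv ζ 1 y = ω y := fun y hy => by rw [lv, pow_one, pow_two, o.sqW hy]
    have l2 : ∀ r ∈ R, dv ζ 1 t r = da ω t r := fun r hr => l1 _ (tY r hr)
    exact (ng R ⟨s.le, s.CQ, s.pg, TY s.nr, tY, k1, fun r hr e => s.ker r hr ((l2 r hr).trans e),
      fun l hl => let ⟨r, hr, e⟩ := s.on l hl; ⟨r, hr, (l2 r hr).symm.trans e⟩, s.mx,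
      fun r hr y hy => by rw [k2 r hr y hy, l1 y hy, l2 r hr]⟩ (s.nr _ o.st.h0C o.h0a.n)).elim
  have ctR : ∀ y ∈ R, y ∈ C[t] → y ∈ Z := fun y hy c => ct y (s.ker y hy (o.st.dC i c)) c
  by_cases iv : ∀ r ∈ R, t * r * t⁻¹ = r⁻¹
  · have tc : ∀ r ∈ R, r * t * r⁻¹ * t⁻¹ = r * r := fun r hr => by
      rw [mul_assoc r, mul_assoc r, iv _ (inv_mem hr), inv_inv]
    refine ⟨R, ab, i.ZY.trans s.le, s.CQ, s.nr, iv, fun y hy e => ctR y hy (mem_cent1.2 (of_cm1 ((tc y hy).trans e))),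
      fun y hy => by rw [pow_succ', pow_mul, pow_two, i.ex _ (s.sq y hy)], fun z hz => ?_⟩
    obtain ⟨r, hr, e⟩ := s.on _ (o.zf z hz)
    rw [dv, tc r hr, lv] at e
    exact ⟨r, hr, by rw [pow_succ', pow_mul, pow_two]; exact o.co.zinj (i.pz (s.sq r hr)) hz e⟩
  refine (n R ⟨ab, s.pg, WY.trans s.le, s.CQ, TY s.nr, ctR, s.nr _ o.st.h0C o.h0a.n, fun y hy c => o.st.hfp i (s.ker y hy ?_) c,
    fun y hy => i.om _ (s.sq y hy), o.beta h2 ab s.pg (i.ZY.trans s.le) s.CQ (TY s.nr) s.c1 ctR (map_one σ)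
    (fun l hl => let ⟨y, hy, e⟩ := W2 l hl; ⟨y, s.le hy, e⟩) (fun y hy k hk' e => o.st.tcj i s (s.ker y hy ?_))
    fun e => (one_ne_zero e).elim⟩).elim
  · have := o.st.dsc i o.st.h0C o.h0a (tY y hy)
    rw [cj_comm' (mem_cent1.1 c).symm] at this
    exact (mul_eq_zero.1 (show (m0 * σ m0 - 1) * dv ζ m t y = 0 by linear_combination -this)).resolve_left
      (sub_ne_zero.2 o.st.n01)
  by_contra y0
  have m1 : y ∈ ivs ab t := ⟨hy, by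
    have : y * t * (y * t) = 1 := by rw [← e, conj_mul, o.st.tt]; group
    rw [o.st.ti', eq_inv_iff_mul_eq_one, ← mul_right_inj y, ← mul_left_inj t]
    calc _ = y * t * (y * t) * (y * t) := by group
      _ = _ := by rw [this]; group⟩
  have nI : h0 ∈ N(ivs ab t) := mem_norm_of fun x hx => ⟨conj_mem_of_norm (s.nr _ o.st.h0C o.h0a.n) hx.1, by
    conv_lhs => rw [← cj_comm' (mem_cent1.1 o.st.h0C)]
    rw [← conj_inv' h0 x, ← hx.2]; group⟩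
  refine iv fun r hr => ?_
  by_cases r0 : dv ζ m t r = 0
  · exact i.iv r (s.ker r hr r0)
  obtain ⟨j, hj⟩ := o.st.gN (dv ζ m t r / dv ζ m t y) (by rw [map_div₀, dv, dv, o.st.lfix i (tY r hr), o.st.lfix i (tY y hy)])
    (div_ne_zero r0 y0)
  have m2 := conj_mem_of_norm (pow_mem nI j) m1
  have m3 := s.ker _ (mul_mem hr (inv_mem m2.1)) (by
    rw [ad _ hr _ (inv_mem m2.1), ad.inv m2.1, eqv_pow (s.nr _ o.st.h0C o.h0a.n)
      (fun x hx => o.st.dsc i o.st.h0C o.h0a (tY x hx)) j y hy, hj, div_mul_cancel₀ _ y0, add_neg_cancel])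
  have := mul_mem (show _ ∈ ivs ab t from ⟨s.le m3, i.iv _ m3⟩) m2
  rw [inv_mul_cancel_right] at this
  exact this.2

theorem Wfp (o : Pc σ q t E U L Q Z T W P a ζ κ ω h0 h1 m0 m1 k0) (hy : y ∈ W) (c : y ∈ C[h0]) : y = 1 := by
  have := o.ωe o.h0a o.st.h0C (o.WP hy)
  rw [cj_comm' (mem_cent1.1 c).symm] at this
  exact o.st.zfp (o.ωW y hy ((mul_eq_zero.1 (show (m0 * σ m0 - 1) * ω y = 0 by linear_combination -this)).resolve_left
    (sub_ne_zero.2 o.st.n01))) c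

theorem cases (o : Pc σ q t E U L Q Z T W P a ζ κ ω h0 h1 m0 m1 k0) (h2 : #E = 2) : (∃ Y, Bt t h0 U Q Z T W Y) ∨
    (k0 = 1 ∧ ∃ R, Gm σ t E Q Z T W R ζ ω ∧ h0 ∈ N(R)) ∨ (k0 = 0 ∧ ∃ R, Rz t Q W P R a) := by
  by_contra n
  push Not at n
  obtain ⟨n, ng, nr⟩ := n
  by_cases k1 : k0 = 1
  · subst k1
    have : ∀ m, ∃ Y, Hc t Q Z Y (m + 1) := fun m => by
      induction m with
      | zero => exact ⟨W, o.hcW⟩
      | succ m ih => exact ih.elim fun Y i => o.next h2 n (ng rfl) (by omega) i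
    obtain ⟨Y, i⟩ := this (Nat.card G)
    obtain ⟨z, hz, z1⟩ := o.co.Z1
    obtain ⟨y, hy, rfl⟩ := i.on z hz
    obtain ⟨j, hj, e⟩ := (Nat.dvd_prime_pow Nat.prime_two).1 (orderOf_dvd_of_pow_eq_one (i.ex y hy))
    have := _root_.orderOf_le_card (x := y)
    have := Nat.lt_two_pow_self (n := j)
    exact z1 (orderOf_dvd_iff_pow_eq_one.1 (e ▸ pow_dvd_pow 2 (by omega)))
  have nT : T ≤ N(W) := fun x hx => o.nW x (o.sylT.le hx) (o.st.TQ hx)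
  have ct : ∀ y ∈ W, y ∈ C[t] → y ∈ Z := fun y hy c => o.ωW y hy (o.ct (o.WP hy) c)
  refine n W ⟨o.Wab, o.pP.of_le o.WP, le_rfl, o.WQ, nT, ct, o.nW _ o.st.h0C o.h0a.n, fun _ => o.Wfp,
    fun y hy _ => (o.sqP y (o.WP hy)).1, o.beta h2 o.Wab (o.pP.of_le o.WP) o.ZW o.WQ nT o.Wh ct o.k0f (fun l hl => ?_)
    (fun y hy k _ e => ?_) fun e g hg p hp p0 e' => ?_⟩
  · obtain ⟨w, hw, rfl⟩ := o.ωs l hl
    exact ⟨w, hw, (o.cmP w (o.WP hw) t o.tP).1, o.cmt (o.WP hw), (o.sqP w (o.WP hw)).1, by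
      simp [(o.sqP w (o.WP hw)).2, o.aW hw, o.κW w hw]⟩
  · have := (o.sqe (mul_mem (o.WP hy) o.tP)).1 (by rw [← e, conj_mul, o.st.tt]; group)
    rw [o.aad _ (o.WP hy) _ o.tP, o.κad _ (o.WP hy) _ o.tP, o.ωad _ (o.WP hy) _ o.tP, o.aW hy, o.at', o.ωt, o.κW y hy, o.κt,
      add_zero, zero_mul, zero_add, zero_add, add_zero, mul_eq_zero, o.fl.add_eq] at this
    exact o.trW (o.ωW y hy (this.resolve_left (Ne.symm k1))) o.tP (o.κt ▸ one_ne_zero)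
  · subst e
    have m : t ∈ cj g⁻¹ P := mem_cj_inv.2 (e' ▸ mul_mem (o.P0P hp) o.tP)
    have nP := inv_mem_iff.1 (o.cjP (inv_mem hg) fun x hx => norm_of_cmod (Y := Z) le_sup_right fun y hy =>
      (mem_normalizer_iff.1 hg _).2 (by
        have : y ∈ cj g⁻¹ P := (sup_le (fun e he => (o.st.two_mem h2 he).elim (· ▸ one_mem _) (· ▸ m))
          ((cj_of_mem_norm (inv_mem hg)).ge.trans (cj_mono _ o.ZP)) : E ⊔ Z ≤ cj g⁻¹ P) hy
        convert (o.cmP _ (mem_cj_inv.1 hx) _ (mem_cj_inv.1 this)).1 using 1; group))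
    exact (o.r0a nP (o.PWn (by have := o.fl.q4; omega) nP) hp p0 (e' ▸ conj_mem_cj.2 o.tE)).elim (nr rfl)

theorem two (o : Pc σ q t E U L Q Z T W P a ζ κ ω h0 h1 m0 m1 k0) (h2 : #E = 2) : Av t := by
  rcases o.cases h2 with ⟨Y, β⟩ | ⟨rfl, R, γ, -⟩ | ⟨rfl, R, rz⟩
  exacts [o.bav h2 β, o.gamma γ h2, o.r0 rz]

end Pc

end H17.GN
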