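import Cfsg.Agent.H27.MS3
import Cfsg.Agent.H12.MS0

/-! S5899, part 3: critical pairs and normalizers of overgroups of `Q`. -/

set_option autoImplicit false
set_option linter.unusedVariables false
set_option linter.unusedSectionVars false

namespace H17.MS
open Cfsg Subgroup H18 H17.GS H28.S H2.GW H27.MS H12.MS
open H19 hiding eq_bot_mono
open H28.NG hiding Hyp Uniq Ch
open H29.PU (bm)

universe u
variable {G : Type u} [Group G] [Finite G] {N Q T V R H : Subgroup G} {g : G}

/-- every element of `N ⊔ H` is a word in `N ∪ H` -/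
theorem word (hg : g ∈ N ⊔ H) : ∃ l : List G, (∀ x ∈ l, x ∈ N ∨ x ∈ H) ∧ l.prod = g := by
  let K : Subgroup G :=
    { carrier := {g | ∃ l : List G, (∀ x ∈ l, x ∈ N ∨ x ∈ H) ∧ l.prod = g}
      one_mem' := ⟨[], by simp, rfl⟩
      mul_mem' := by
        rintro _ _ ⟨l, a, rfl⟩ ⟨m, b, rfl⟩
        exact ⟨l ++ m, fun x p => (List.mem_append.1 p).elim (a x) (b x), List.prod_append⟩
      inv_mem' := by
        rintro _ ⟨l, a, rfl⟩
        refine ⟨(l.map (·⁻¹)).reverse, fun x p => ?_, (List.prod_inv_reverse l).symm⟩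
        obtain ⟨y, q, rfl⟩ := List.mem_map.1 (List.mem_reverse.1 p)
        exact (a y q).imp inv_mem inv_mem }
  exact (show N ⊔ H ≤ K from sup_le (fun x p => ⟨[x], by simp [p], by simp⟩)
    fun x p => ⟨[x], by simp [p], by simp⟩) hg

theorem bdJ (h : Bd N Q T V) (g : G) : Bd (cj g N) (cj g Q) (cj g T) (cj g V) :=
  ⟨h.toLc.J g, by simpa only [cj_bot] using h.sec.J g, (card_cj g V).trans h.c8⟩

theorem bdVQ (h : Bd N Q T V) : V ≤ Q := (le_centralizer_iff.1 h.sec.cq').trans h.chr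

theorem bdne (h : Bd N Q T V) : V ≠ ⊥ := fun e => by simpa [e] using h.c8

theorem bdnV (h : Bd N Q T V) : N(V) = N := h.eqN (bdne h) (ab_pg h.sec.ab) h.sec.nV

theorem bdcV (h : Bd N Q T V) : C(V) = Q :=
  le_antisymm (fun x p => h.sec.ker' h.toFr ⟨(bdnV h).le (cent_le_norm V p), p⟩) h.sec.cq'

theorem cp : CP.{u} := fun {G} _ _ {N Q T V R} h pR QR RN n => by
  by_contra k
  push Not at k
  have k' : ∀ g, cj g V ≤ N → V ≤ cj g N → cj g V ≤ Q := k
  have top : N ⊔ N(R) = ⊤ := (h.mx _ le_sup_left).resolve_left fun e => n (le_sup_right.trans e.le)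
  have key : ∀ m : ℕ, ∀ l : List G, l.length = m → (∀ x ∈ l, x ∈ N ∨ x ∈ N(R)) → cj l.prod V ≤ Q := by
    intro m
    induction m with
    | zero => intro l a _; rw [List.length_eq_zero_iff.1 a, List.prod_nil, cj_one]; exact bdVQ h
    | succ m ih =>
      have s : ∀ l : List G, l.length = m + 1 → (∀ x ∈ l, x ∈ N ∨ x ∈ N(R)) → cj l.prod V ≤ N := by
        rintro (_ | ⟨x, l⟩) a b
        · simp at a
        have i := ih l (by simpa using a) fun y p => b y (List.mem_cons_of_mem _ p)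
        rw [List.prod_cons, ← cj_cj]
        rcases b x List.mem_cons_self with c | c
        · exact cj_le_of_mem c (i.trans h.QN)
        · exact ((cj_mono x (i.trans QR)).trans (cj_of_mem_norm c).le).trans RN
      intro l a b
      refine k' _ (s l a b) (le_cj_iff.2 ?_)
      rw [List.prod_inv_reverse]
      refine s _ (by simpa using a) fun x p => ?_
      obtain ⟨y, q, rfl⟩ := List.mem_map.1 (List.mem_reverse.1 p)
      exact (b y q).imp inv_mem inv_mem
  have all : ∀ g, cj g V ≤ Q := fun g => by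
    obtain ⟨l, a, rfl⟩ := word (N := N) (H := N(R)) (top ▸ mem_top g)
    exact key _ l rfl a
  have l : Kc V ⊤ ≤ Q := Kc_le_of_cj fun g _ => all g
  exact h.hy.ntop (ne_bot_mono le_Kc (bdne h)) (h.pg.of_le l) (top_le_iff.1 Kc_norm)

theorem nr (cp : CP.{u}) (ic : IC.{u}) : NR.{u} := fun {G} _ _ {N Q T V} h => by
  have b : ∀ R, H19.PG 2 R → Q ≤ R → R ≤ N → N(R) ≤ N := fun R p q r => by
    by_contra n
    obtain ⟨g, a, b, c⟩ := cp h p q r n
    have a' : cj g V ≤ N(V) := bdnV h ▸ a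
    have b' : V ≤ N(cj g V) := bdnV (bdJ h g) ▸ b
    by_cases e : V ⊓ cj g V = ⊥
    · exact c (bdcV h ▸ le_centralizer_iff.1 (commutator_eq_bot_iff_le_centralizer.1 (le_bot_iff.1
        ((le_inf (commg_le_left a') (commg_le_right b')).trans e.le))))
    · exact c (ic h (bdJ h g) e)
  have : Fact (Nat.Prime 2) := ⟨Nat.prime_two⟩
  exact ⟨h.syl.syl_of_norm_le le_top (inf_le_right.trans (b T h.syl.pi h.le h.TN)), b⟩

end H17.MS
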