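import Cfsg.Agent.H27.MS1

/-! S5899: the `E`-lemma for dihedral Sylow subgroups. -/

set_option autoImplicit false
set_option linter.unusedVariables false
set_option linter.unusedSectionVars false

namespace H17.MS
open Cfsg Subgroup H18 H17.GS H28.S H2.GW
open H19 hiding eq_bot_mono
open H28.NG hiding Hyp Uniq Ch
open H27.MS
open scoped MatrixGroups

universe u
section
variable {G : Type*} [Group G] [Finite G] {N Q T Q₀ E F X K H : Subgroup G} {a b c e g s t : G}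

theorem card_q (h : H ≤ N(K)) (k : K ≤ H) : #K * #(quo K H) = #H := by rw [card_quo h, card_mul_relIndex k]

theorem dn (aa : a * a = 1) (bb : b * b = 1) : a ∈ N(zpowers (a * b)) := mem_norm_of_cj_le (by
  rw [cj_zpowers, zpowers_le, show a * (a * b) * a⁻¹ = (a * b)⁻¹ by
    rw [← mul_assoc, aa, one_mul, mul_inv_rev, inv_eq_of_mul_eq_one_right bb]]
  exact inv_mem (mem_zpowers _))

theorem de : zpowers a ⊔ zpowers b = zpowers (a * b) ⊔ zpowers a := by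
  refine le_antisymm (sup_le le_sup_right (zpowers_le.2 ?_)) (sup_le (zpowers_le.2 ?_) le_sup_left)
  · simpa using mul_mem (inv_mem (mem_sup_right (S := zpowers (a * b)) (mem_zpowers a))) (mem_sup_left (mem_zpowers _))
  · exact mul_mem (mem_sup_left (mem_zpowers _)) (mem_sup_right (mem_zpowers _))

theorem dc (aa : a * a = 1) (bb : b * b = 1) {n : ℕ} (n0 : 0 < n) (h : (a * b) ^ n = 1) :
    #(zpowers a ⊔ zpowers b) ≤ n * 2 := by
  rw [de]
  refine (card_sup_le (dn aa bb) (aa ▸ one_mem _)).trans (Nat.mul_le_mul_right _ ?_)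
  rw [Nat.card_zpowers]; exact orderOf_le_of_pow_eq_one n0 h

/-- a normal four-group in a dihedral group of order at least eight -/
theorem dih (aa : a * a = 1) (bb : b * b = 1) (h8 : 8 ≤ #(zpowers a ⊔ zpowers b)) (n : F ⊴ zpowers a ⊔ zpowers b)
    (c4 : #F = 4) (sq : ∀ f ∈ F, f * f = 1) :
    #(zpowers a ⊔ zpowers b) ≤ 8 ∧ ∃ s, (s = a ∨ s = b) ∧ s ∉ F ∧ ¬ F ≤ C[s] := by
  have ha : a ∈ zpowers a ⊔ zpowers b := mem_sup_left (mem_zpowers _)
  have hb : b ∈ zpowers a ⊔ zpowers b := mem_sup_right (mem_zpowers _)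
  obtain ⟨r, hr, nr⟩ : ∃ r ∈ F, r ∉ zpowers (a * b) := by
    by_contra! k
    obtain ⟨x, rfl⟩ := cyc_iff.1 (cyc_mono (cyc_zpowers (a * b)) k)
    have := orderOf_le_of_pow_eq_one two_pos ((pow_two x).trans (sq x (mem_zpowers x)))
    rw [Nat.card_zpowers] at c4
    omega
  have c8 : #(zpowers a ⊔ zpowers b) ≤ 8 := by
    obtain ⟨x, hx, y, hy, rfl⟩ := (mem_sup_of_norm (zpowers_le.2 (dn aa bb))).1 (de (a := a) (b := b) ▸ n.le hr)
    obtain rfl : y = a := ((mem_zp aa).1 hy).resolve_left fun k => nr (by rwa [k, mul_one])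
    obtain ⟨k, rfl⟩ := hx
    have m := mul_mem (conj_mem_of_norm (n.norm (mul_mem ha hb)) hr) (inv_mem hr)
    have e : y * (y * b)⁻¹ * y⁻¹ = y * b := by
      rw [mul_inv_rev, inv_eq_of_mul_eq_one_right bb, inv_eq_of_mul_eq_one_right aa, mul_assoc, mul_assoc, aa, mul_one]
    rw [show y * b * ((y * b) ^ k * y) * (y * b)⁻¹ * ((y * b) ^ k * y)⁻¹ =
      (y * b) ^ (k + 1) * (y * (y * b)⁻¹ * y⁻¹) * (y * b) ^ (-k) by group, e,
      show (y * b) ^ (k + 1) * (y * b) * (y * b) ^ (-k) = (y * b) ^ 2 by generalize y * b = w; group] at m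
    exact dc aa bb (n := 4) (by norm_num) (by rw [← sq _ m, ← pow_add])
  have key : ∀ s, (s = a ∨ s = b) → s ∉ F → ¬ F ≤ C[s] := fun s hs ns l => by
    have ss : s * s = 1 := by rcases hs with rfl | rfl <;> assumption
    have m : s ∈ zpowers a ⊔ zpowers b := by rcases hs with rfl | rfl <;> assumption
    have e := eq_of_le_of_card_ge (sup_le n.le (zpowers_le.2 m)) (by rw [card_sup_zp ss ns (n.norm m), c4]; exact c8)
    have l' : zpowers a ⊔ zpowers b ≤ C[s] := e ▸ sup_le l (zpowers_le.2 (mem_cent1_self s))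
    have cm : a * b = b * a := by
      rcases hs with rfl | rfl
      exacts [(mem_cent1.1 (l' hb)).symm, mem_cent1.1 (l' ha)]
    have := dc aa bb (n := 2) two_pos (by rw [pow_two]; nth_rw 2 [cm]; rw [mul_assoc, ← mul_assoc b, bb, one_mul, aa])
    omega
  refine ⟨c8, ?_⟩
  by_cases k : a ∈ F
  · have k' : b ∉ F := fun k' => by
      have := card_le (sup_le (zpowers_le.2 k) (zpowers_le.2 k'))
      omega
    exact ⟨b, .inr rfl, k', key b (.inr rfl) k'⟩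
  · exact ⟨a, .inl rfl, k, key a (.inl rfl) k⟩

theorem quo2 (ha : a ∈ N(Q)) (hb : b ∈ N(Q)) :
    quo Q (Q ⊔ zpowers a ⊔ zpowers b) = zpowers (qm Q a) ⊔ zpowers (qm Q b) := by
  rw [sup_assoc, quo_sup_left (sup_le (zpowers_le.2 ha) (zpowers_le.2 hb)), quo_sup (zpowers_le.2 ha) (zpowers_le.2 hb),
    quo_zp ha, quo_zp hb]

theorem qsq (ha : a ∈ N(Q)) (h : a * a ∈ Q) : qm Q a * qm Q a = 1 := by
  rw [← qm_mul ha ha, qm_eq_one (mul_mem ha ha)]; exact h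
end

variable {G : Type u} [Group G] [Finite G] {N Q T Q₀ E F X K H : Subgroup G} {a b c e g s t : G}

theorem QT (h : Fr N Q T) : Q ≤ T := h.syl.le_of_norm' h.nq.le h.pg (h.syl.le.trans h.nq.norm)

theorem Iso.card {Y : Type} [Group Y] (h : Iso N Q Y) (l : Q ≤ N) : #N = Nat.card Y * #Q := by
  obtain ⟨π, s, k⟩ := h
  have e : π.ker = Q.subgroupOf N := Subgroup.ext fun g => k g
  rw [card_eq_card_quotient_mul_card_subgroup π.ker, Nat.card_congr (QuotientGroup.quotientKerEquivOfSurjective π s).toEquiv, e,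
    card_subgroupOf' l]

def x7 : SL(3, ZMod 2) := ⟨!![1, 1, 0; 0, 1, 0; 0, 0, 1], by decide⟩
def y7 : SL(3, ZMod 2) := ⟨!![1, 0, 0; 0, 1, 1; 0, 0, 1], by decide⟩
theorem xy7 : x7 * x7 = 1 ∧ y7 * y7 = 1 ∧ x7 * y7 * (x7 * y7) * (x7 * y7 * (x7 * y7)) = 1 ∧ x7 * y7 * (x7 * y7) ≠ 1 := by
  decide +kernel

/-- the Sylow subgroup of `L₃(2)` is dihedral of order eight -/
theorem l7 (h : Fr N Q T) (l : L7 N Q) : #T = 8 * #Q ∧
    ∃ a b, Iv T Q a ∧ Iv T Q b ∧ T = Q ⊔ zpowers a ⊔ zpowers b := by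
  have cN := Iso.card l h.nq.le
  rw [H11.card_sl3_two] at cN
  obtain ⟨π, sj, k⟩ := l
  obtain ⟨a, ea⟩ := sj x7
  obtain ⟨b, eb⟩ := sj y7
  have nQ := h.nq.norm
  have aa : (a : G) * a ∈ Q := (k (a * a)).1 (by rw [map_mul, ea, xy7.1])
  have bb : (b : G) * b ∈ Q := (k (b * b)).1 (by rw [map_mul, eb, xy7.2.1])
  have c4 : ((a : G) * b) ^ 2 ^ 2 ∈ Q := (k ((a * b) ^ 2 ^ 2)).1 (by
    rw [map_pow, map_mul, ea, eb, ← xy7.2.2.1]; simp [pow_succ, mul_assoc])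
  have c2 : ((a : G) * b) ^ 2 ^ 1 ∉ Q := fun m => xy7.2.2.2 (by
    rw [← (k ((a * b) ^ 2 ^ 1)).2 m, map_pow, map_mul, ea, eb]; simp [pow_succ, mul_assoc])
  have ab := nQ (mul_mem a.2 b.2)
  have o : orderOf (qm Q a * qm Q b) = 2 ^ (1 + 1) := orderOf_eq_prime_pow
    (by rw [← qm_mul (nQ a.2) (nQ b.2), ← qm_pow ab, qm_eq_one (pow_mem ab _)]; exact c2)
    (by rw [← qm_mul (nQ a.2) (nQ b.2), ← qm_pow ab, qm_eq_one (pow_mem ab _)]; exact c4)
  have α := qsq (nQ a.2) aa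
  have β := qsq (nQ b.2) bb
  have na : qm Q (a : G) ∉ zpowers (qm Q a * qm Q b) := fun m => by
    have cm := mem_cent1.1 (zpowers_le.2 (mem_cent1_self _) m)
    rw [← mul_assoc, α, one_mul] at cm
    have := orderOf_le_of_pow_eq_one two_pos (show (qm Q a * qm Q (b : G)) ^ 2 = 1 by
      rw [pow_two, ← mul_assoc, ← cm, β])
    omega
  have PN : Q ⊔ zpowers (a : G) ⊔ zpowers (b : G) ≤ N := sup_le (sup_le h.nq.le (zpowers_le.2 a.2)) (zpowers_le.2 b.2)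
  have cP := card_q (PN.trans nQ) (le_sup_left.trans le_sup_left)
  rw [quo2 (nQ a.2) (nQ b.2), de, card_sup_zp α na (dn α β), Nat.card_zpowers, o] at cP
  obtain ⟨g, hg, m⟩ := h.syl.scj_le PN (show PiN _ _ by
    rw [← cP]; exact PiN.mul h.pg (PiN.prime_pow Nat.prime_two 3))
  have d : #T ∣ 8 * #Q := h.syl.pi.dvd_of_dvd_mul (b := 21) (PiN.of_not_dvd (by norm_num)) (by
    rw [show 8 * #Q * 21 = #N by omega]; exact card_dvd h.syl.le)
  have e := eq_of_le_of_card_ge m (by rw [card_cj, ← cP]; have := Nat.le_of_dvd (by have := card_pos Q; omega) d; omega)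
  have gQ := nQ hg
  have iv : ∀ x : G, x * x ∈ Q → x ∉ Q → x ∈ Q ⊔ zpowers (a : G) ⊔ zpowers (b : G) → Iv T Q (g * x * g⁻¹) := fun x xx nx hx =>
    ⟨m (mem_cj.2 (by simpa [mul_assoc] using hx)), fun q => nx (by simpa [mul_assoc] using conj_mem_of_norm' gQ q),
      by rw [conj_mul]; exact conj_mem_of_norm gQ xx⟩
  refine ⟨by rw [← e, card_cj, ← cP]; omega, _, _, iv a aa (fun q => ?_) (mem_sup_left (mem_sup_right (mem_zpowers _))),
    iv b bb (fun q => ?_) (mem_sup_right (mem_zpowers _)), by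
      rw [← e, cj_sup, cj_sup, cj_zpowers, cj_zpowers, cj_of_mem_norm gQ]⟩
  · exact xy7.2.2.2 (by rw [← ea, (k a).2 q, one_mul, xy7.2.1])
  · exact xy7.2.2.2 (by rw [← eb, (k b).2 q, mul_one, xy7.1])

theorem el (lf : LF.{u}) : EL.{u} := fun {G} _ _ {N Q T Q₀ E a n} h ty one n0 l0 nE ab sq c4 ha na aa => by
  have nQ := h.syl.le.trans h.nq.norm
  have n1 := h.syl.le.trans n0.norm
  have qT := QT h
  have pQ := card_pos Q
  obtain ⟨c8, x, y, hx, hy, eT⟩ : 8 * #Q ≤ #T ∧ ∃ a b, Iv T Q a ∧ Iv T Q b ∧ T = Q ⊔ zpowers a ⊔ zpowers b := by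
    rcases ty with l | l
    · exact ⟨(l7 h l).1.ge, (l7 h l).2⟩
    · obtain ⟨a, b, p, q, r, -⟩ := l.ex
      exact ⟨l.card ▸ Nat.mul_le_mul_right _ (Nat.pow_le_pow_right two_pos (Nat.succ_le_succ l.two) : 2 ^ 3 ≤ _), a, b, p, q, r⟩
  have cT := card_q nQ qT
  have cE := card_q (sup_le (nE.le.trans nQ) le_normalizer) (le_sup_right : Q ≤ E ⊔ Q)
  rw [quo_sup_right (nE.le.trans nQ), c4, mul_comm 4] at cE
  have qT' : quo Q T = _ := eT ▸ quo2 (nQ hx.1) (nQ hy.1)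
  obtain ⟨c8', s', hs', ns, nc⟩ := dih (qsq (nQ hx.1) hx.2.2) (qsq (nQ hy.1) hy.2.2) (F := quo Q E) (by
    rw [← qT']; exact Nat.le_of_mul_le_mul_left (by omega) pQ) (qT' ▸ nE.quo Q) (Nat.eq_of_mul_eq_mul_left pQ cE)
    fun f hf => by
      obtain ⟨e, he, m, rfl⟩ := mem_quo hf
      exact qsq m (l0.le (sq e he))
  rw [← qT'] at c8'
  replace c8' : #T ≤ #Q * 8 := cT ▸ Nat.mul_le_mul_left _ c8'
  obtain ⟨s, hs, rfl⟩ : ∃ s, Iv T Q s ∧ s' = qm Q s := by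
    rcases hs' with rfl | rfl
    exacts [⟨_, hx, rfl⟩, ⟨_, hy, rfl⟩]
  obtain ⟨g, hg, m⟩ := one a s ⟨ha, na, l0.le aa⟩ ⟨h.syl.le hs.1, hs.2⟩
  have tt : g * a * g⁻¹ * (g * a * g⁻¹) ∈ Q₀ := by rw [conj_mul]; exact conj_mem_of_norm (n0.norm hg) aa
  generalize g * a * g⁻¹ = t at m tt
  have tT : t ∈ T := (mul_mem_cancel_right (inv_mem hs.1)).1 (qT m)
  have e : qm Q s = qm Q t := by
    rw [← inv_mul_cancel_right t s, qm_mul (le_normalizer m) (nQ hs.1), (qm_eq_one (le_normalizer m)).2 m, one_mul]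
  rw [e] at ns nc
  rw [qm_mem_iff (nE.le.trans nQ) (nQ tT)] at ns
  obtain ⟨e, he, ne⟩ : ∃ e ∈ E, t * e * t⁻¹ * e⁻¹ ∉ Q := by
    by_contra! k
    refine nc fun f hf => ?_
    obtain ⟨e, he, m, rfl⟩ := mem_quo hf
    have := (qm_eq_one (le_normalizer (k e he))).2 (k e he)
    rw [qm_mul (nQ (conj_mem_of_norm (le_normalizer tT) (nE.le he))) (inv_mem m), qm_conj (nQ tT) m, qm_inv m] at this
    exact mem_cent1.2 (mul_inv_eq_iff_eq_mul.1 (mul_inv_eq_one.1 this)).symm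
  have he' := conj_mem_of_norm (nE.norm tT) he
  have eT := nE.le he
  have s1 : ∀ (A : Subgroup G) x, A ≤ A ⊔ zpowers x := fun _ _ => le_sup_left
  have s2 : ∀ (A : Subgroup G) x, x ∈ A ⊔ zpowers x := fun _ _ => mem_sup_right (mem_zpowers _)
  have k1 := card_sup_le (n1 eT) (sq e he)
  have k2 := card_sup_le (X := Q₀ ⊔ zpowers e) (v := t * e * t⁻¹) (norm_sup_zp
    ((cj_of_mem_norm (n1 (nE.le he'))).le.trans (s1 _ _)) (by
      rw [← inv_mul_cancel_right (_ * e * _) e]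
      exact mul_mem (s1 _ _ (ab (commutator_mem_commutator he' he))) (s2 _ _))) (s1 _ _ (sq _ he'))
  have k3 := card_sup_le (X := Q₀ ⊔ zpowers e ⊔ zpowers (t * e * t⁻¹)) (v := t) (norm_sup_zp (by
      rw [cj_sup, cj_zpowers, cj_of_mem_norm (n1 tT)]
      exact sup_le ((s1 _ _).trans (s1 _ _)) le_sup_right) (by
      rw [show t * (t * e * t⁻¹) * t⁻¹ = t * t * (e * (t * t)⁻¹ * e⁻¹) * e by group]
      exact s1 _ _ (mul_mem (s1 _ _ (mul_mem tt (conj_mem_of_norm (n1 eT) (inv_mem tt)))) (s2 _ _)))) (s1 _ _ (s1 _ _ tt))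
  have l1 : Q₀ ≤ Q₀ ⊔ zpowers e ⊔ zpowers (t * e * t⁻¹) ⊔ zpowers t := ((s1 _ _).trans (s1 _ _)).trans (s1 _ _)
  have m1 : e ∈ Q₀ ⊔ zpowers e ⊔ zpowers (t * e * t⁻¹) ⊔ zpowers t := s1 _ _ (s1 _ _ (s2 _ _))
  have m2 : t ∈ Q₀ ⊔ zpowers e ⊔ zpowers (t * e * t⁻¹) ⊔ zpowers t := s2 _ _
  have XT : Q₀ ⊔ zpowers e ⊔ zpowers (t * e * t⁻¹) ⊔ zpowers t ≤ T :=
    sup_le (sup_le (sup_le (l0.le.trans qT) (zpowers_le.2 eT)) (zpowers_le.2 (nE.le he'))) (zpowers_le.2 tT)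
  generalize Q₀ ⊔ zpowers e ⊔ zpowers (t * e * t⁻¹) ⊔ zpowers t = X at *
  have eQ : e ∉ Q := fun q => ne (mul_mem (conj_mem_of_norm (nQ tT) q) (inv_mem q))
  have e2 : t * e * t⁻¹ ∉ Q ⊔ zpowers e := fun q => by
    have c := card_sup_le (nQ eT) (l0.le (sq e he))
    obtain ⟨p, hp, _, ⟨i, rfl⟩, q⟩ := (mem_sup_of_norm (zpowers_le.2 (nQ eT))).1 q
    have w : ∀ j : ℤ, e ^ (2 * j) ∈ Q := fun j => by rw [zpow_mul, zpow_two]; exact zpow_mem (l0.le (sq e he)) j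
    obtain ⟨j, rfl | rfl⟩ := Int.even_or_odd' i
    · have z : t * e * t⁻¹ ∈ Q := q ▸ mul_mem hp (w j)
      exact eQ (by simpa [mul_assoc] using conj_mem_of_norm' (nQ tT) z)
    · exact ne (by rw [q]; beta_reduce; rw [zpow_add_one, ← mul_assoc, mul_inv_cancel_right]; exact mul_mem hp (w j))
  have lt : ∀ {A : Subgroup G} {x}, A ≤ T → x ∈ T → x ∉ A → #A * 2 ≤ #(A ⊔ zpowers x) := fun hA hx nx =>
    pg_lt_card (h.syl.pi.of_le (sup_le hA (zpowers_le.2 hx))) (lt_of_le_of_ne (s1 _ _) fun k => nx (k ▸ s2 _ _))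
  have a1 : Q ⊔ zpowers e ≤ T := sup_le qT (zpowers_le.2 eT)
  have a2 : Q ⊔ zpowers e ⊔ zpowers (t * e * t⁻¹) ≤ Q ⊔ E :=
    sup_le (sup_le_sup_left (zpowers_le.2 he) _) (zpowers_le.2 (mem_sup_right he'))
  have j1 := lt qT eT eQ
  have j2 := lt a1 (nE.le he') e2
  have j3 := lt (a2.trans (sup_le qT nE.le)) tT fun q => ns (a2 q)
  have j4 := card_le (show Q ⊔ zpowers e ⊔ zpowers (t * e * t⁻¹) ⊔ zpowers t ≤ Q ⊔ X from
    sup_le (sup_le (sup_le_sup_left (zpowers_le.2 m1) _) (zpowers_le.2 (mem_sup_right (mul_mem (mul_mem m2 m1) (inv_mem m2)))))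
      (zpowers_le.2 (mem_sup_right m2)))
  have j5 := card_sup_mul_inf (XT.trans nQ)
  refine lf h n0 l0 ((eq_of_le_of_card_ge (sup_le qT XT) (by omega)).ge.trans (sup_comm _ _).le) XT
    ((inf_comm _ _).le.trans (eq_of_le_of_card_ge (le_inf l0.le l1) ?_).ge)
  have : #Q * 8 * #(Q ⊓ X) ≤ #Q * 8 * #Q₀ := (Nat.mul_le_mul_right _ (by omega)).trans (j5.le.trans (by
    rw [mul_assoc]; exact Nat.mul_le_mul_left _ (by omega)))
  exact Nat.le_of_mul_le_mul_left this (by omega)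

end H17.MS
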