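import Cfsg.Agent.H21.MS3

/-! S5899: the start of the tall case. -/

set_option autoImplicit false
set_option linter.unusedVariables false
set_option linter.unusedSectionVars false

namespace H17.MS
open Cfsg Subgroup H18 H17.GS H28.S H2.GW H27.MS
open H19 hiding eq_bot_mono
open H28.NG hiding Hyp Uniq Ch
open H29.PU (bm)

universe u
variable {G : Type u} [Group G] [Finite G] {N Q T X S V Y : Subgroup G} {g m : G}

theorem cj_bm (g : G) (S : Subgroup G) : cj g (bm 2 S) = bm 2 (cj g S) :=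
  H29.PU.map_bm (MulAut.conj g).injective S

theorem cj_zs (g : G) (S : Subgroup G) : cj g (Zs S) = Zs (cj g S) := cj_OZ g S

theorem mnJ (h : Mn S Y) (hm : m ∈ N(Y)) : Mn (cj m S) Y := by
  have e := cj_of_mem_norm hm
  have e' := cj_of_mem_norm (inv_mem hm)
  have n : cj m N(Y) = N(Y) := by rw [cj_norm, e]
  refine ⟨h.hz, h.syl.Jtop m, h.ab, ?_, h.YQ, ?_, ?_, h.max, fun L T a b c => ?_, fun k => h.nz ?_⟩
  · rw [← cj_zs, ← n, ← cj_Kc, ← h.eY, e]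
  · rw [← cj_bm, ← e]; exact cj_mono m h.YB
  · rw [← cj_bm, ← cj_norm, ← n]; exact cj_mono m h.NB
  · have := cj_mono m (h.star (cj m⁻¹ L) (cj m⁻¹ T) (cj_le_iff.1 (cj_bm m S ▸ a)) (b.J _) (c.J _))
    rwa [cj_sup, cj_inf, cj_inf, cj_cent, cj_Kc, cj_zs, cj_cj_inv, cj_cj_inv, n] at this
  · rwa [← cj_zs, ← cj_cent, ← n, cj_le_cj] at k

theorem gnJ (h : Gn S Y) (hm : m ∈ N(Y)) : Gn (cj m S) Y :=
  ⟨mnJ h.toMn hm, fun v hv => let ⟨k, a, b⟩ := h.b1 v hv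
    ⟨k * m⁻¹, mul_mem a (inv_mem hm), show cj _ _ ≤ _ by rwa [← cj_bm, cj_cj, inv_mul_cancel_right]⟩, h.rk, h.tvC, h.hypC, h.comm⟩

theorem t0 (lc : LC.{u}) (cm : CM.{u}) : T0.{u} := fun {G} _ _ {S Y v} h hv v1 n ns => by
  obtain ⟨m, hm, l⟩ := h.b1 v hv
  obtain ⟨T, hT, b⟩ := ((h.syl.pi.of_le H29.PU.bm_le).J m).exists_syl l
  have vv : v ^ 2 = 1 := h.ab.2 v hv
  obtain ⟨L, -⟩ := lc h.hz.toHy (R := zpowers v) (by simpa using v1)
    (piG_zpowers.2 ((PiN.prime_pow Nat.prime_two 1).dvd (orderOf_dvd_of_pow_eq_one vv))) (cent1_le_norm_zpowers v) ns hT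
  obtain ⟨s, k⟩ := cm h.hz L
  obtain ⟨g, -, rfl⟩ := h.syl.sconj s
  have hg : g ∈ N(Y) := by
    have : g⁻¹ * m ∈ N(Y) := h.NB (mem_norm_iff_cj.2 (bm_wc (by rw [cj_mul, cj_le_iff, inv_inv]; exact b)))
    simpa using mul_mem hm (inv_mem this)
  have h' := gnJ h hg
  rcases k with k | ⟨k, -⟩
  · exact ⟨g, hg, _, h', k ▸ L, n⟩
  · exact absurd (le_Oc ⟨le_cent1_iff.2 (comm_iff_le_cent.1 h.ab.1 hv), k.le.trans h'.NB⟩ (pg_of_pow Nat.prime_two h.ab.2)) n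

theorem tk (f1 : F1.{u}) : H27.MS.TK.{u} := fun {G} _ _ {S Y Q} h k => by
  obtain ⟨y, hy, n⟩ := SetLike.not_le_iff_exists.1 h.nq
  have YS := h.YB.trans H29.PU.bm_le
  have yy : y * y = 1 := pow_two y ▸ h.ab.2 y hy
  refine f1 h.lc.toFr h.lc.q0 h.ab YS fun t ht => by_contra fun nt => nt ?_
  obtain ⟨g, hg, e⟩ := k.tr y t ⟨YS hy, n, yy ▸ one_mem _⟩ ⟨ht, fun q => nt (mem_sup_right q), k.sq t ht⟩
  have := mul_mem (inv_mem (mem_sup_right (S := Y) e))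
    (mem_sup_left (conj_mem_of_norm (h.NB (H29.PU.nrm_bm le_rfl hg.2)) hy))
  rwa [mul_inv_rev, inv_inv, inv_mul_cancel_right] at this

end H17.MS
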