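import Cfsg.Agent.H17.MS1
import Cfsg.Agent.H8.MS1
import Cfsg.Agent.H12.MS0

/-! S5899: the tall case for `L₃(3)`. -/

set_option autoImplicit false
set_option linter.unusedVariables false
set_option linter.unusedSectionVars false

namespace H17.MS
open Cfsg Subgroup H18 H17.GS H28.S H2.GW H27.MS H12.MS
open H19 hiding eq_bot_mono
open H28.NG hiding Hyp Uniq Ch
open scoped MatrixGroups

universe u
section
variable {X W : Type*} [Group X] [AddCommGroup W] [Module (ZMod 2) W] (ρ : Representation (ZMod 2) X W) {p q z d c e f : X}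

theorem rm (a b : X) (v : W) : ρ (a * b) v = ρ a (ρ b v) := by rw [map_mul, Module.End.mul_apply]
theorem r1 (v : W) : ρ 1 v = v := by rw [map_one, Module.End.one_apply]
theorem req {a b a' b' : X} (h : a * b = a' * b') (v : W) : ρ a (ρ b v) = ρ a' (ρ b' v) := by rw [← rm, h, rm]
theorem r3 (h : e * e * e = 1) (v : W) : ρ e (ρ e (ρ e v)) = v := by rw [← rm, ← rm, h, r1]

theorem kj {e' f' : X} (k : ∀ v, ρ e v = v → ρ f v = v) (h1 : c * e = e' * c) (h2 : c * f = f' * c) (v : W)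
    (h : ρ e' v = v) : ρ f' v = v := by
  obtain ⟨u, rfl⟩ : ∃ u, v = ρ c u := ⟨ρ c⁻¹ v, by rw [← rm, mul_inv_cancel, r1]⟩
  have : ρ e u = u := by
    have := congrArg (ρ c⁻¹) ((req ρ h1 u).trans h)
    rwa [← rm, ← rm ρ c⁻¹ c u, inv_mul_cancel, r1, r1] at this
  rw [← req ρ h2, k u this]

theorem md (p3 : p * p * p = 1) (q3 : q * q * q = 1) (pq : p * q = q * p) (zp : p * z * p = z) (zq : q * z * q = z)
    (dp : d * p = q * d) (dq : d * q = p * d) (cp : c * p = p * q * c) (cq : c * q = q * p * p * c)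
    (h : ∀ v, ρ d (ρ z v + v) = ρ z v + v) (v : W) : ρ p v = v := by
  have two := H8.MS.two (W := W)
  have a0 : ∀ w, ρ p w = w → w + ρ q w + ρ q (ρ q w) = 0 → ρ z w = w := fun w h1 h2 => by
    have e1 : ρ p (ρ z w) = ρ z w := by nth_rw 1 [← h1]; rw [← rm, ← rm, zp]
    have e2 : ρ q (ρ z w + w) = ρ z w + w := by rw [← h w, ← req ρ dp, map_add (ρ p), e1, h1]
    have e3 : ∀ x, ρ q (ρ z (ρ q x)) = ρ z x := fun x => by rw [← rm, ← rm, zq]
    have e4 : ρ z w + ρ q (ρ z w) + ρ q (ρ q (ρ z w)) = 0 := by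
      have := congrArg (ρ z) h2
      rw [map_zero, map_add, map_add] at this
      rw [← this, ← e3 (ρ q w), ← e3 (ρ q (ρ q w)), r3 ρ q3, ← e3 w, r3 ρ q3]; abel
    have e5 : ρ z w + w + ρ q (ρ z w + w) + ρ q (ρ q (ρ z w + w)) = 0 := by
      rw [← add_zero 0]; nth_rw 1 [← e4]; rw [← h2]; simp only [map_add]; abel
    rw [e2, e2, two, zero_add] at e5
    rw [← add_zero (ρ z w), ← two w, ← add_assoc, e5, zero_add]
  have k1 : ∀ v, ρ p v = v → ρ q v = v := fun v hv => by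
    have h1 : ρ p (v + ρ q v) = v + ρ q v := by rw [map_add, req ρ pq, hv]
    have h2 : v + ρ q v + ρ q (v + ρ q v) + ρ q (ρ q (v + ρ q v)) = 0 := by
      simp only [map_add, r3 ρ q3]
      linear_combination (norm := abel) two v + two (ρ q v) + two (ρ q (ρ q v))
    have h3 : v + ρ q v = 0 := by
      generalize v + ρ q v = w at h1 h2
      have b1 := a0 w h1 h2
      have b2 := a0 (ρ q w) (by rw [req ρ pq, h1]) (by rw [← map_add, ← map_add, h2, map_zero])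
      have b3 : ρ q (ρ q w) = w := by rw [← b2, ← rm, ← rm, zq, b1]
      have b4 : ρ q w = w := by nth_rw 1 [← b3]; exact r3 ρ q3 w
      rwa [b4, b4, two, zero_add] at h2
    rw [← add_zero (ρ q v), ← h3, add_comm v, ← add_assoc, two, zero_add]
  have k2 := kj ρ k1 dp dq
  have fin : ∀ v, ρ (p * q) v = v → ρ (q * p * p) v = v → ρ p v = v := fun v a b => by
    have : ρ p (ρ p v) = ρ p (ρ (p * q) (ρ (p * q) (ρ (q * p * p) v))) := by
      simp only [rm, ← req ρ pq, r3 ρ p3, r3 ρ q3]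
    rw [b, a, a] at this
    rw [← r3 ρ p3 (ρ p v), this, this, this, ← this, ← this, r3 ρ p3]
  have k3 : ∀ v, ρ (p * q) v = v → ρ p v = v := fun v a => fin v a (kj ρ k1 cp cq v a)
  have k4 : ∀ v, ρ (q * p * p) v = v → ρ p v = v := fun v a => fin v (kj ρ k2 cq cp v a) a
  have n : ∀ e v, (∀ x, ρ e (ρ e (ρ e x)) = x) → ρ e (v + ρ e v + ρ e (ρ e v)) = v + ρ e v + ρ e (ρ e v) := fun e v k => by
    rw [map_add, map_add, k]; abel
  have s1 := k2 _ (n q v (r3 ρ q3))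
  have s2 := k3 _ (n _ v fun x => by simp only [rm, ← req ρ pq, r3 ρ p3, r3 ρ q3])
  have s3 := k4 _ (n _ v fun x => by simp only [rm, ← req ρ pq, r3 ρ p3, r3 ρ q3])
  simp only [rm, ← req ρ pq, r3 ρ p3, map_add] at s1 s2 s3
  linear_combination (norm := abel) s1 + s2 + s3 - two (ρ p v) + two v
end

abbrev L3 := SL(3, ZMod 3)
def m3 (a b c d e f g h i : ZMod 3) (k : Matrix.det !![a, b, c; d, e, f; g, h, i] = 1 := by decide) : L3 := ⟨_, k⟩
def p9 : L3 := m3 1 1 1 0 1 0 0 0 1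
def q9 : L3 := m3 1 2 1 0 1 0 0 0 1
def z9 : L3 := m3 1 0 0 0 2 0 0 0 2
def d9 : L3 := m3 2 0 0 0 1 0 0 0 2
def c9 : L3 := m3 2 0 0 0 1 2 0 1 1
def i9 : L3 := m3 1 0 0 0 0 1 0 2 0
def g9 : L3 := m3 0 1 0 1 0 0 0 0 2

theorem f9 : c9 * c9 = i9 ∧ i9 * i9 = z9 ∧ z9 * z9 = 1 ∧ z9 ≠ 1 ∧ d9 * d9 = 1 ∧ d9 * c9 = i9 * c9 * d9 ∧ d9 * c9 ≠ c9 * d9 ∧
    g9 * z9 = d9 * g9 ∧ g9 * d9 = z9 * g9 ∧ g9 * g9 = 1 ∧ p9 ≠ 1 := by decide +kernel

theorem c4 : c9 ^ 4 = z9 := by rw [← f9.2.1, ← f9.1]; simp [pow_succ, mul_assoc]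
theorem o8 : orderOf c9 = 2 ^ (2 + 1) := orderOf_eq_prime_pow (by rw [show 2 ^ 2 = 4 from rfl, c4]; exact f9.2.2.2.1)
  (by rw [show 2 ^ (2 + 1) = 4 * 2 from rfl, pow_mul, c4, sq, f9.2.2.1])
theorem dcd : d9 * c9 * d9⁻¹ = c9 ^ (3 : ℤ) := by
  rw [f9.2.2.2.2.2.1, ← f9.1, mul_inv_cancel_right, zpow_ofNat, pow_three']
theorem dN : d9 ∈ N(zpowers c9) := mem_norm_of_cj_le (by
  rw [cj_zpowers, dcd]; exact zpowers_le.2 (zpow_mem (mem_zpowers _) _))

theorem card9 : Nat.card L3 = 5616 := by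
  have h := H11.card_units_mul_card_sl (ι := Fin 3) (F := ZMod 3)
  rw [Matrix.card_GL_field, Fin.prod_univ_three, ZMod.card] at h
  generalize Nat.card SL(3, ZMod 3) = n at h ⊢
  simp at h
  omega

theorem syl9 : Syl 2 (zpowers c9 ⊔ zpowers d9) ⊤ := by
  have c : #(zpowers c9 ⊔ zpowers d9) = 2 ^ 4 := by
    rw [card_sup_zp f9.2.2.2.2.1 (fun m => f9.2.2.2.2.2.2.1 (mem_cent1.1 (zpowers_le.2 (mem_cent1_self _) m))) dN,
      Nat.card_zpowers, o8]; rfl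
  have := card_mul_relIndex (le_top (a := zpowers c9 ⊔ zpowers d9))
  have h := card9
  rw [card_top, c] at this
  exact syl_mk le_top (show PiN _ _ from c ▸ PiN.prime_pow Nat.prime_two 4) (by omega)

theorem sd {t : L3} (ht : t ∈ zpowers c9 ⊔ zpowers d9) (tt : t * t = 1) (k : t * (c9 * t * c9⁻¹) = c9 * t * c9⁻¹ * t) :
    t = 1 ∨ t = z9 := by
  obtain ⟨_, ⟨i, rfl⟩, y, hy, rfl⟩ := (mem_sup_of_norm (zpowers_le.2 dN)).1 ht
  have dd := f9.2.2.2.2.1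
  rcases (mem_zp dd).1 hy with rfl | rfl
  · simp only [mul_one] at tt ⊢
    rw [← zpow_add, ← orderOf_dvd_iff_zpow_eq_one, o8] at tt
    obtain ⟨j, rfl⟩ : ∃ j, i = 4 * j := ⟨i / 4, by omega⟩
    exact (mem_zp f9.2.2.1).1 (by rw [zpow_mul, ← c4]; exact zpow_mem (mem_zpowers _) _)
  · have e : ∀ j : ℤ, d9 * c9 ^ j = c9 ^ (3 * j) * d9 := fun j => by rw [zpow_mul, ← dcd, conj_zpow, inv_mul_cancel_right]
    have e1 : c9 * (c9 ^ i * d9) * c9⁻¹ = c9 ^ (i - 2) * d9 := by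
      rw [mul_assoc, mul_assoc, ← zpow_neg_one, e]; group
    beta_reduce at k
    rw [e1, mul_assoc, ← mul_assoc d9, e, mul_assoc, mul_assoc, ← mul_assoc d9, e, mul_assoc, dd, mul_one, mul_one,
      ← zpow_add, ← zpow_add, zpow_eq_zpow_iff_modEq, o8, Int.modEq_iff_dvd] at k
    omega

variable {G : Type u} [Group G] [Finite G] {N Q T : Subgroup G}

theorem sec_phi (h : Fr N Q T) (c : C(Q) ≤ Q) : Sec N Q (Phi Q) Q := by
  have e : EA (Phi Q) Q := ⟨H4.Phi_le Q, H4.der_le_Phi h.pg, fun v hv => sq v ▸ H4.pow_mem_Phi h.pg hv, h.pg.of_le (H4.Phi_le Q)⟩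
  refine ⟨e, h.nq.norm, H4.norms_Phi h.nq.norm, e.cm, fun k => h.nT (le_of_exists_syl fun p _ _ => ?_)⟩
  by_cases q : p = 2
  · exact q ▸ ⟨T, h.syl, le_rfl⟩
  · obtain ⟨P, hP⟩ := exists_syl p N
    exact ⟨P, hP, (coprime_cent_Phi (h.pg.coprime (hP.pi.sing_ne q)) (commg_of_Cm' (hP.le.trans k))).trans (c.trans h.le)⟩

theorem std9 (h : Fr N Q T) (l : L9 N Q) : ∃ π : N →* L3, Function.Surjective π ∧ (∀ g, π g = 1 ↔ g.1 ∈ Q) ∧
    ∀ g : N, g.1 ∈ T ↔ π g ∈ zpowers c9 ⊔ zpowers d9 := by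
  obtain ⟨π, s, k⟩ := l
  have e0 : im π N = ⊤ := top_unique fun y _ => let ⟨x, q⟩ := s y; q ▸ mem_im_of x.2
  obtain ⟨c, -, e⟩ := (e0 ▸ h.syl.im le_rfl π).sconj syl9
  refine ⟨(MulAut.conj c).toMonoidHom.comp π, (MulAut.conj c).surjective.comp s,
    fun g => (MulAut.conj c).map_eq_one_iff.trans (k g), fun g => ?_⟩
  rw [← e, mem_cj]
  simp only [MonoidHom.comp_apply, MulEquiv.coe_toMonoidHom, MulAut.conj_apply, mul_assoc, inv_mul_cancel_left,
    inv_mul_cancel, mul_one]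
  refine ⟨mem_im_of, fun ⟨x, hx, q⟩ => ?_⟩
  have := mul_mem (show x.1 ∈ T from hx) (QT h ((k (x⁻¹ * g)).1 (by rw [map_mul, map_inv, q, inv_mul_cancel])))
  simpa using this

theorem t9 : T9.{u} := fun {G} _ _ {S Y Q} h l => by
  have f := h.lc.toFr
  have YS := h.toMn.YS
  have SM := h.toMn.SM
  have cm := h.toGn.comm
  have nq := h.nq
  have ab := h.ab
  have s := sec_phi f h.lc.chr
  generalize C(Zs S) = N at f l s
  obtain ⟨π, sj, k, m⟩ := std9 f l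
  obtain ⟨W, _, _, _, p, ρ, M⟩ := H8.MS.exMd s.ea s.nV s.n0 sj fun g e => s.cq ((k g).1 e)
  obtain ⟨c, ec⟩ := sj c9
  obtain ⟨g, eg⟩ := sj g9
  obtain ⟨x, ex⟩ := sj p9
  have YN := YS.trans f.TN
  have hz : ∀ y : N, y.1 ∈ Y → π y = 1 ∨ π y = z9 := fun y hy => by
    have a := conj_mem_of_norm (SM ((m c).2 (ec ▸ mem_sup_left (mem_zpowers _)))) hy
    refine sd ((m y).1 (YS hy)) (by rw [← map_mul, show y * y = 1 from Subtype.ext ((pow_two y.1).symm.trans (ab.2 _ hy)), map_one]) ?_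
    rw [← ec, ← map_inv, ← map_mul, ← map_mul, ← map_mul, ← map_mul]
    exact congrArg π (Subtype.ext (mem_cent.1 (comm_iff_le_cent.1 ab.1 a) _ hy))
  have gi : g9⁻¹ = g9 := inv_eq_of_mul_eq_one_right f9.2.2.2.2.2.2.2.2.2.1
  have gz : g9 * z9 * g9⁻¹ = d9 := by rw [f9.2.2.2.2.2.2.2.1, mul_inv_cancel_right]
  have key : ∀ g : N, π g = g9 → cj g.1 Y ≤ N(Y) := fun g eg => cj_le_iff.2 fun y hy => mem_cj_inv.2 (SM ((m (g * ⟨y, YN hy⟩ * g⁻¹)).2 (by
    rw [map_mul, map_mul, map_inv, eg]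
    rcases hz ⟨y, YN hy⟩ hy with e | e <;> rw [e]
    exacts [by simp, gz ▸ mem_sup_right (mem_zpowers _)])))
  have cY : cj g.1 Y ≤ C(Y) := cm g (key g eg) (by
    have := cj_mono g.1 (key g⁻¹ (by rw [map_inv, eg, gi]))
    rwa [coe_inv, cj_cj_inv, cj_norm] at this)
  obtain ⟨y, hy, n⟩ := SetLike.not_le_iff_exists.1 nq
  have ey := (hz ⟨y, YN hy⟩ hy).resolve_left fun e => n ((k _).1 e)
  have fx : ∀ v, ρ p9 v = v := md ρ (z := z9) (q := q9) (d := d9) (c := c9) (by decide +kernel) (by decide +kernel)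
    (by decide +kernel) (by decide +kernel) (by decide +kernel) (by decide +kernel) (by decide +kernel) (by decide +kernel)
    (by decide +kernel) fun v => by
      obtain ⟨v, hv, rfl⟩ := M.sur v
      have a := conj_mem_of_norm (f.nq.norm (YN hy)) hv
      have b : y * v * y⁻¹ * v⁻¹ ∈ Y := by
        rw [mul_assoc, mul_assoc, ← mul_assoc v]; exact mul_mem hy (conj_mem_of_norm (SM (f.le hv)) (inv_mem hy))
      rw [← ey, ← M.act _ _ hv, coe_inv, ← M.inv hv, ← M.add _ a _ (inv_mem hv), ← gz, ← eg, ← ey, ← map_inv, ← map_mul, ← map_mul,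
        ← M.act _ _ (mul_mem a (inv_mem hv))]
      exact congrArg p (mul_inv_eq_iff_eq_mul.2
        (mem_cent.1 (cY (show g.1 * y * g.1⁻¹ ∈ cj g.1 Y from mem_cj.2 (by simpa [mul_assoc] using hy))) _ b).symm)
  refine f9.2.2.2.2.2.2.2.2.2.2 (ex ▸ (k x).2 (s.mem f x.2 ⟨s.n0 x.2, fun v hv => ?_⟩))
  exact (M.eq (conj_mem_of_norm (s.nV x.2) hv) hv).1 ((M.act x v hv).trans (ex ▸ fx _))

end H17.MS
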