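import Cfsg.Agent.H13.MS3

/-! S5899, part 3, the case `C(p) ≤ N`: the chunk `TF`. -/

set_option autoImplicit false
set_option linter.unusedVariables false
set_option linter.unusedSectionVars false

namespace H17.MS
open Cfsg Subgroup H18 H17.GS H28.S H2.GW H27.MS H12.MS
open H19 hiding eq_bot_mono
open H28.NG hiding Hyp Uniq Ch
open H13.MS (Ti Zh TF)

universe u
variable {G : Type u} [Group G] [Finite G] {T H X : Subgroup G}

theorem mid3 (l : T ≤ H) (c : #H = 3 * #T) (a : T ≤ X) (b : X ≤ H) : X = T ∨ X = H := by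
  obtain ⟨m, hm⟩ := card_dvd_of_le a
  obtain ⟨k, hk⟩ := card_dvd_of_le b
  have e : m * k = 3 := Nat.eq_of_mul_eq_mul_left (card_pos T) (by rw [← mul_assoc, ← hm, ← hk, c, mul_comm])
  rcases (Nat.dvd_prime Nat.prime_three).1 (Dvd.intro k e) with rfl | rfl
  · exact .inl (eq_of_le_of_card_eq a (by omega)).symm
  · exact .inr (eq_of_le_of_card_eq b (by omega))

/-- a nonnormal Sylow `2`-subgroup of index three -/
theorem oc3 (s : Syl 2 T H) (c : #H = 3 * #T) (n : ¬ H ≤ N(T)) : (Oc {2} H).relIndex T = 2 := by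
  have l := s.le
  set K := (T.subgroupOf H).normalCore
  have e : Nat.card (T.subgroupOf H) = #T := Nat.card_congr (subgroupOfEquivOfLe l).toEquiv
  have p : 0 < #T := Nat.card_pos
  have i : Nat.card (H ⧸ T.subgroupOf H) = 3 := by
    have := card_mul_index (T.subgroupOf H)
    rw [e, c, mul_comm] at this
    exact Nat.eq_of_mul_eq_mul_right p this
  have d : K.index ∣ 6 := by
    rw [show K = _ from normalCore_eq_ker _, index_ker]
    exact (card_subgroup_dvd_card _).trans (by rw [Nat.card_perm, i]; rfl)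
  have m := card_mul_index K
  have e' : #(K.map H.subtype) = Nat.card K := card_map_of_injective H.subtype_injective
  have kT : K.map H.subtype ≤ T := by
    rintro _ ⟨t, ht, rfl⟩; exact (T.subgroupOf H).normalCore_le ht
  have kn : K.map H.subtype ⊴ H := ⟨kT.trans l, fun g hg => mem_norm_of_cj_le (by
    rintro _ ⟨_, ⟨t, ht, rfl⟩, rfl⟩
    exact ⟨_, (normalCore_normal _).conj_mem t ht ⟨g, hg⟩, rfl⟩)⟩
  have oT : Oc {2} H ≤ T := Oc_le_hall s
  obtain ⟨a, ha⟩ := card_dvd_of_le (le_Oc kn (s.pi.of_le kT))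
  have r := card_mul_relIndex oT
  have q : 0 < Nat.card K := Nat.card_pos
  have z : K.index = 3 * (a * (Oc {2} H).relIndex T) := Nat.eq_of_mul_eq_mul_left q (by
    rw [m, show Nat.card H = #H from rfl, c, ← r, ha, e']; ring)
  have : (Oc {2} H).relIndex T ∣ 2 := (Dvd.intro_left a rfl).trans
    (Nat.dvd_of_mul_dvd_mul_left (k := 3) (by omega) (z ▸ d))
  refine ((Nat.dvd_prime Nat.prime_two).1 this).resolve_left fun k => n ?_
  rw [k, mul_one] at r
  exact eq_of_le_of_card_eq oT r ▸ Oc_norm {2} H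

theorem tf (bk : BK.{u}) (nr : NR.{u}) : TF.{u} := fun {G} _ _ {N Q T V Z p} h z vz c1 c2 nP hs => by
  have b := h.toBd
  have f := b.toFr
  obtain ⟨l7, ab, -, -, nV, -, -, -, pt⟩ := bk b
  obtain ⟨P, R, t⟩ := pt p h.pV h.p1
  obtain ⟨sy, n⟩ := nr b
  rw [← t.eP] at nP
  have cP : #P = 3 * #T := by rw [t.cP, t.cR, (H17.MS.l7 f l7).1]; ring
  have TP : T ≤ P := t.eP ▸ le_inf f.TN h.pT
  obtain ⟨F, mo⟩ := z.mo sy h.pT hs
  obtain ⟨u, uV, uZ⟩ := SetLike.not_le_iff_exists.1 vz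
  have VN : V ≤ N(Z) := ((bdVQ b).trans f.le).trans z.TN
  have c2 := card_zp (sq_one ab h.pV) h.p1
  have cu : cm Z u ≤ zpowers p := (commutator_mono le_rfl (zpowers_le' uV)).trans (commutator_comm V Z ▸ c1)
  have u0 : cm Z u ≠ ⊥ := fun e => uZ (le_cent1_iff.1 (cm_eq_bot.1 e))
  have eu : cm Z u = zpowers p := eq_of_le_of_card_ge cu (by have := ne_bot_iff_one_lt_card.1 u0; omega)
  have tv : Tv Z u := tv_of mo.pg (VN uV) uZ (by rw [(ab_cm z.ab.1 (VN uV)).1, eu, c2])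
  obtain ⟨x, o, -, w⟩ := mo.tl tv
  have pW : p ∈ cm Z x := w (eu ▸ mem_zpowers p)
  have xp : x ∉ C[p] := fun k => ne_bot_of_mem (mem_zpowers p) h.p1
    (o.inf (zpowers_le' pW) (zpowers_le' (mem_cent1_symm.1 k)))
  have TH : T ≤ N(Z) ⊓ N(cm Z x) := le_inf z.TN fun s hs =>
    o.norm_of (z.TN hs) (ne_bot_of_mem (H := _ ⊓ _) ⟨pW, mem_cent1_symm.1 (h.pT hs)⟩ h.p1)
  have xH : x ∈ N(Z) ⊓ N(cm Z x) := ⟨o.xN, cm_norm' Z x⟩
  have nN : ¬ N(Z) ⊓ N(cm Z x) ≤ N := fun k => xp (by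
    have e : ⁅V, Z⁆ = zpowers p := le_antisymm c1 (eu ▸ (commutator_comm V Z ▸ commutator_mono le_rfl (zpowers_le' uV)))
    have := cent_of_two c2.le (e ▸ norms_comm (k.trans nV.ge) inf_le_left xH)
    exact cent_zpowers p ▸ this)
  have e : C[p] ⊓ (N(Z) ⊓ N(cm Z x)) = T := (mid3 TP cP (le_inf h.pT TH)
    (t.eP ▸ le_inf (inf_le_left.trans h.cp) inf_le_left)).resolve_right fun k =>
      nP (k.ge.trans (inf_le_right.trans inf_le_left))
  have aW := abelem_mono z.ab o.le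
  have c : #(N(Z) ⊓ N(cm Z x)) = 3 * #T := by
    have s : {w | ∃ r ∈ N(Z) ⊓ N(cm Z x), r * p * r⁻¹ = w} = (cm Z x : Set G) \ {1} := by
      ext w
      constructor
      · rintro ⟨g, hg, rfl⟩
        exact ⟨conj_mem_of_norm hg.2 pW, mt conj_eq_one_iff.1 h.p1⟩
      · rintro ⟨a, b⟩
        obtain ⟨r, a, b⟩ := (tr3a aW o.card xH.2 o.odd pW xp).2 w a b
        exact ⟨r, zpowers_le' xH a, b⟩
    rw [← card_inf_mul_relIndex C[p], relIndex_cent1, s, e, Set.ncard_sdiff_singleton_of_mem (one_mem _), mul_comm]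
    congr 1
    exact congrArg (· - 1) o.card
  exact ⟨_, TH, nN, c, oc3 (sy.of_le TH le_top) c fun k => nN (k.trans (n T f.syl.pi f.le f.TN))⟩

end H17.MS
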