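/-
Unbalancing triples of odd alternating type: the theorem.
-/
import Cfsg.Agent.H17.UA5
import Cfsg.Agent.H17.UA6
import Cfsg.Agent.H17.UB1
import Cfsg.Agent.H0.UA2
import Cfsg.Agent.H0.UA3
import Cfsg.Agent.H2.UA2
import Cfsg.Agent.H2.UA5
import Cfsg.Agent.H2.UA6
import Cfsg.Agent.H2.UA7
import Cfsg.Agent.H5.UA1
import Cfsg.Agent.H5.UA2
import Cfsg.Agent.H8.UA1
import Cfsg.Agent.H8.UB1
import Cfsg.Agent.H9.US2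
import Cfsg.Agent.H10.UA.C
import Cfsg.Agent.H11.UA8
import Cfsg.Agent.H11.UA9
import Cfsg.Agent.H16.UA2
import Cfsg.Agent.H18.UA2
import Cfsg.Agent.H18.UA3
import Cfsg.Agent.H18.UA6
import Cfsg.Agent.H18.UK3
import Cfsg.Agent.H18.UK4
import Cfsg.Agent.H19.UA2
import Cfsg.Agent.H19.UA3
import Cfsg.Agent.H24.UA2
import Cfsg.Agent.H25.UA1
import Cfsg.Agent.H26.UA1
import Cfsg.Agent.H26.UA2
import Cfsg.Agent.H26.UA3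
import Cfsg.Agent.H27.UA5
import Cfsg.Agent.H29.UA2
import Cfsg.Agent.H29.UB2

set_option autoImplicit false

namespace H17.UA
open H17.AN
universe u

theorem k1l : K1L.{u} := UB.j1 (H29.UA.z1 H18.UK.l1 H18.UK.e1 H18.UK.r1 (H8.UA.t1 H27.UA.f2))

theorem k2 : K2.{u} :=
  UB.j2 (H29.UA.z2 H27.UA.g2 H18.UK.ri H8.UA.t2) H5.UA.li fun F _ _ p _ _ h => H27.UA.g3 p _ _ h (H18.UK.l3 F p h)

theorem top_all : Top.{u} := fun _ _ _ _ _ _ _ _ _ _ =>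
  have p78 : P78.{u} := H13.AN.p78' (fun o A s z e => Cfsg.Agent.S3142.result o A s z e) fun o A s n r e => H12.A8.a8w o A s n r e
  have c7 := H13.AN.c7 p78
  have p : ∀ n, P0N.{u} n := p0 (p0s H2.UA.a2 H2.UA.pu H2.UA.trv)
  have uv : UV.{u} := H2.UA.uv H26.UA.aq H26.UA.tr H26.UA.pj H26.UA.gb k2 H29.UA.ka H11.UA.ki
  have lb : LB.{u} := H10.UA.lb H26.UA.gb H29.UA.op H18.UA.a7
  have lv : LV.{u} := H10.UA.lv uv H18.UA.a5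
  have rt : RT.{u} := H10.UA.rt lb lv H26.UA.fb H18.UA.a5
  have rl : RL.{u} := H29.UA.rl (fun _ _ _ => Cfsg.Agent.S3142.result) H29.UA.ka H11.UA.ki H2.UA.a4 H18.UA.a8
  have h4 : H4.{u} := H8.UA.h4 lb lv H18.UA.a5 H26.UA.fb
  have d : DI.{u} := di c7 H22.AN.m5 (H19.AN.m4 (H13.AN.i7p c7)) (H12.AN.m3 (H13.AN.i7 c7) (H13.AN.i7p c7))
  have xs : XS.{u} := H18.UA.xs uv all (H24.AN.wrk H18.HU.card_HS H16.DHN.card_eq)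
  top p H2.UA.a2 H2.UA.a4 H26.UA.bz H2.UA.pu H2.UA.trv r2q rs (H10.UA.rb2 rt H2.UA.a4)
    (H10.UA.rb13 p (H2.UA.u4 H26.UA.aq H26.UA.tr H26.UA.pj H26.UA.gb H29.UA.ka H29.UA.op) H18.UA.a5 H18.UA.a7)
    (H10.UA.rb11 rl rt lv H18.UA.a5) (H10.UA.rb9 rl rt lb lv H26.UA.fb H18.UA.a5)
    (H10.UA.tm (H16.UA.wg (H16.UA.ws lb h4 (H8.UA.fw lb h4))) H2.UA.a4) H0.UA.sh5 H0.UA.n2 H0.UA.mv H0.UA.sk
    (H9.UA.s4 H29.UA.op H0.UA.gd)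
    (H11.UA.eg2 H24.AN.tm4 H19.UA.ea1 (H26.UA.ea2 H19.UA.zf H19.UA.zi H19.UA.e0) H19.UA.eb) (H11.UA.eg1 all H19.UA.et) H2.UA.gc
    (H25.UA.typ d H9.AN.b3 H24.AN.st4) H5.UA.n1q H2.UA.n2q H24.UA.t9q
    (H18.UA.jaq xs (H29.AN.ja0 H24.AN.lc H24.AN.st4)) (H19.UA.jrq xs uv all)

theorem sbc : SBc.{u} := H29.UA.sbc k1l H11.UA.k1e

end H17.UA
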